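import Cfsg.Agent.BT.FcDef
import Cfsg.Agent.S4035
import Cfsg.Agent.S0144
import Cfsg.Agent.Cop.Basic
import Cfsg.Agent.H63.Omega
import Cfsg.Agent.Solv.MinNormal
import Cfsg.Agent.QBaer.Step

/-!
# S4146, part C1
-/

set_option autoImplicit false
open Cfsg

namespace Cfsg.Agent.H65.FcC1

open Cfsg.Agent.BT.Fc Cfsg.Agent.H35.CR Subgroup

universe u

section
variable {G : Type u} [Group G]

theorem mem_of_cop_index {N : Subgroup G} [N.Normal] {x : G} (h : (orderOf x).Coprime N.index) : x ∈ N := by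
  rw [← QuotientGroup.eq_one_iff, ← orderOf_eq_one_iff]
  apply Nat.eq_one_of_dvd_coprimes h
  · exact orderOf_map_dvd (QuotientGroup.mk' N) x
  · rw [Subgroup.index]
    exact orderOf_dvd_natCard _

variable [Finite G]

theorem PE.cop' {p : ℕ} (hp : p.Prime) {g : G} (h : PE p g) {n : ℕ} (hn : ¬ p ∣ n) : (orderOf g).Coprime n := by
  obtain ⟨k, hk⟩ := h.orderOf hp
  rw [hk]
  exact Nat.Coprime.pow_left _ ((Nat.Prime.coprime_iff_not_dvd hp).2 hn)

/-- commuting of `q`-elements and `q'`-elements if `q` divides no class size of a `q'`-element -/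
theorem df {q : ℕ} [hq : Fact q.Prime] (h : ∀ x : G, (orderOf x).Coprime q → ¬ q ∣ (cz x).index) {a b : G}
    (ha : PE q a) (hb : (orderOf b).Coprime q) : a * b = b * a := by
  obtain ⟨P⟩ : Nonempty (Sylow q G) := inferInstance
  obtain ⟨hPn, N, hN, hNq, hPN, hPN'⟩ := S4035.result (G := G) (p := q)
    (fun x hx => by rw [H67.ncard_carrier_eq_index]; exact h x hx) P
  have haP : a ∈ (P : Subgroup G) := by
    apply mem_of_cop_index
    exact PE.cop' hq.out ha P.not_dvd_index
  have hbN : b ∈ N := by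
    apply mem_of_cop_index
    have h1 : N.index ∣ Nat.card (P : Subgroup G) := by
      have h2 : N.relIndex ((P : Subgroup G) ⊔ N) = N.relIndex (P : Subgroup G) := Subgroup.relIndex_sup_right _ _
      rw [hPN', Subgroup.relIndex_top_right] at h2
      rw [h2]
      exact Subgroup.relIndex_dvd_card _ _
    obtain ⟨k, hk⟩ := IsPGroup.iff_card.mp P.2
    rw [hk] at h1
    exact Nat.Coprime.coprime_dvd_right h1 (Nat.Coprime.pow_right k hb)
  exact Subgroup.commute_of_normal_of_disjoint (P : Subgroup G) N hPn hN (disjoint_iff.2 hPN) a b haP hbN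

end

section
variable {G : Type u} [Group G] [Finite G] {p q a b : ℕ}

theorem a_pos (h : F4 G (p ^ a) (q ^ b)) : a ≠ 0 := by
  rintro rfl
  have := h.hn
  simp at this

theorem b_pos (h : F4 G (p ^ a) (q ^ b)) : b ≠ 0 := by
  rintro rfl
  have := h.hm
  simp at this

theorem df_cz (h : F4 G (p ^ a) (q ^ b)) (hp : p.Prime) (hq : q.Prime) (hpq : p ≠ q) {y : G} (hy : PE q y)
    (hcy : cs y = q ^ b) {u v : G} (hu : u ∈ cz y) (hv : v ∈ cz y) (huq : PE q u) (hvq : (orderOf v).Coprime q) :
    u * v = v * u := by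
  have : Fact q.Prime := ⟨hq⟩
  have key : ∀ x : cz y, (orderOf x).Coprime q → ¬ q ∣ (cz x).index := by
    intro x hx hd
    have hxo : (orderOf (x : G)).Coprime q := by rw [Subgroup.orderOf_coe]; exact hx
    have hyo : (orderOf y).Coprime (orderOf (x : G)) := by
      obtain ⟨k, hk⟩ := hy.orderOf hq
      rw [hk]
      exact Nat.Coprime.pow_left k hxo.symm
    have hc : y * (x : G) = x * y := (mem_cz.1 x.2).symm
    have h1 : cz (y * (x : G)) = cz y ⊓ cz (x : G) := cz_mul hc hyo
    have h2 : (cz x) = (cz (x : G)).subgroupOf (cz y) := by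
      ext z
      rw [Subgroup.mem_subgroupOf, mem_cz, mem_cz]
      exact Subtype.ext_iff
    have h3 : (cz x).index * q ^ b = cs (y * (x : G)) := by
      rw [cs, h1, h2, ← hcy, cs]
      have h4 := Subgroup.relIndex_mul_index (inf_le_left : cz y ⊓ cz (x : G) ≤ cz y)
      rw [Subgroup.inf_relIndex_left] at h4
      exact h4
    have hb := b_pos h
    have hdvd : q ^ b * q ∣ cs (y * (x : G)) := by
      rw [← h3, mul_comm (q ^ b)]
      exact Nat.mul_dvd_mul hd (dvd_refl _)
    have hqp : ¬ q ∣ p ^ a := by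
      intro hh
      exact hpq ((Nat.prime_dvd_prime_iff_eq hq hp).1 (hq.dvd_of_dvd_pow hh)).symm
    rcases h.all (y * (x : G)) with e | e | e | e
    · rw [e] at hdvd
      have := Nat.dvd_one.1 (dvd_trans (dvd_mul_left _ _) hdvd)
      exact hq.one_lt.ne' this
    · rw [e] at hdvd
      exact hqp (dvd_trans (dvd_mul_left _ _) hdvd)
    · rw [e] at hdvd
      have h5 := Nat.le_of_dvd (Nat.pow_pos hq.pos) hdvd
      have h6 : q ^ b * 1 < q ^ b * q := Nat.mul_lt_mul_of_pos_left hq.one_lt (Nat.pow_pos hq.pos)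
      omega
    · rw [e, mul_comm (p ^ a)] at hdvd
      exact hqp (Nat.dvd_of_mul_dvd_mul_left (Nat.pow_pos hq.pos) hdvd)
  have h1 := df key (a := ⟨u, hu⟩) (b := ⟨v, hv⟩) (by
    obtain ⟨k, hk⟩ := huq
    exact ⟨k, Subtype.ext (by simpa using hk)⟩) (by rw [← Subgroup.orderOf_coe]; exact hvq)
  exact congrArg Subtype.val h1

/-- a Sylow `r`-subgroup of `G` contained in a subgroup of index prime to `r` -/
theorem exists_sylow_le {r : ℕ} [hr : Fact r.Prime] (H : Subgroup G) (hH : ¬ r ∣ H.index) :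
    ∃ P : Sylow r G, (P : Subgroup G) ≤ H := by
  obtain ⟨P⟩ : Nonempty (Sylow r H) := inferInstance
  obtain ⟨S, hS⟩ := (P.isPGroup'.map H.subtype).exists_le_sylow
  refine ⟨S, ?_⟩
  have h1 : Nat.card ((P : Subgroup H).map H.subtype) = Nat.card (S : Subgroup G) := by
    rw [Subgroup.card_map_of_injective H.subtype_injective]
    rw [P.card_eq_multiplicity, S.card_eq_multiplicity]
    congr 1
    rw [← Subgroup.card_mul_index H, Nat.factorization_mul Nat.card_pos.ne' Subgroup.index_ne_zero_of_finite,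
      Finsupp.add_apply, Nat.factorization_eq_zero_of_not_dvd hH, add_zero]
  have h2 : (P : Subgroup H).map H.subtype = S := Subgroup.eq_of_le_of_card_ge hS h1.ge
  rw [← h2]
  exact Subgroup.map_subtype_le _

theorem mem_core (hq : q.Prime) {y : G} (hy : PE q y) (hcy : cs y = q ^ b) : y ∈ pCore q G := by
  have : Fact q.Prime := ⟨hq⟩
  exact QBaer.mem_pCore_of_index_pow (hy.orderOf hq) hcy

theorem mixed (h : F4 G (p ^ a) (q ^ b)) (hp : p.Prime) (hq : q.Prime)
    (hpq : p ≠ q) {x y : G} (hx : PE q x) (hcx : cs x = p ^ a) (hy : PE q y) (hcy : cs y = q ^ b) : False := by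
  have fp : Fact p.Prime := ⟨hp⟩
  have fq : Fact q.Prime := ⟨hq⟩
  have hqp : ¬ q ∣ p ^ a := by
    intro hh
    exact hpq ((Nat.prime_dvd_prime_iff_eq hq hp).1 (hq.dvd_of_dvd_pow hh)).symm
  have hpq' : ¬ p ∣ q ^ b := by
    intro hh
    exact hpq ((Nat.prime_dvd_prime_iff_eq hp hq).1 (hp.dvd_of_dvd_pow hh))
  -- `x` commutes with `O_q(G)`
  obtain ⟨Q, hQ⟩ := exists_sylow_le (r := q) (cz x) (by rw [← cs, hcx]; exact hqp)
  have hyL := mem_core hq hy hcy
  have hyQ : y ∈ (Q : Subgroup G) := Solv.pCore_le_sylow Q hyL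
  have hyx : y ∈ cz x := hQ hyQ
  obtain ⟨P, hP⟩ := exists_sylow_le (r := p) (cz y) (by rw [← cs, hcy]; exact hpq')
  have hPx : (P : Subgroup G) ≤ cz x := by
    intro g hg
    have hgp : PE p g := by
      obtain ⟨k, hk⟩ := P.isPGroup' ⟨g, hg⟩
      exact ⟨k, congrArg Subtype.val hk⟩
    have := df_cz h hp hq hpq hy hcy (mem_cz_symm hyx) (hP hg) hx (PE.cop' hp hgp (by
      rw [Nat.prime_dvd_prime_iff_eq hp hq]; exact hpq))
    exact mem_cz.2 this.symm
  have h1 : cs x ∣ (P : Subgroup G).index := Subgroup.index_dvd_of_le hPx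
  have h2 : ¬ p ∣ (P : Subgroup G).index := P.not_dvd_index
  apply h2
  refine dvd_trans ?_ h1
  rw [hcx]
  exact dvd_pow_self p (a_pos h)

/-- all `p`-elements centralize `O_q(G)` -/
theorem half (h : F4 G (p ^ a) (q ^ b)) (hp : p.Prime) (hq : q.Prime) (hpq : p ≠ q) {y : G} (hy : PE q y)
    (hcy : cs y = q ^ b) {g : G} (hg : PE p g) : g ∈ centralizer (pCore q G : Set G) := by
  have fp : Fact p.Prime := ⟨hp⟩
  have fq : Fact q.Prime := ⟨hq⟩
  have hpq' : ¬ p ∣ q ^ b := by
    intro hh
    exact hpq ((Nat.prime_dvd_prime_iff_eq hp hq).1 (hp.dvd_of_dvd_pow hh))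
  obtain ⟨P, hP⟩ := exists_sylow_le (r := p) (cz y) (by rw [← cs, hcy]; exact hpq')
  have hPe : ∀ g ∈ (P : Subgroup G), PE p g := by
    intro g hg
    obtain ⟨k, hk⟩ := P.isPGroup' ⟨g, hg⟩
    exact ⟨k, congrArg Subtype.val hk⟩
  have hPq : ∀ g ∈ (P : Subgroup G), (orderOf g).Coprime q := by
    intro g hg
    exact PE.cop' hp (hPe g hg) (by rw [Nat.prime_dvd_prime_iff_eq hp hq]; exact hpq)
  have hL : IsPGroup q (pCore q G) := Solv.pCore_isPGroup q
  have hPL : (P : Subgroup G) ≤ centralizer (pCore q G : Set G) := by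
    refine Cop.le_centralizer_of_AxB q (P := Subgroup.zpowers y) ?_ ?_ hL ?_ ?_ ?_ ?_
    · obtain ⟨k, hk⟩ := hy.orderOf hq
      exact IsPGroup.of_card (by rw [Nat.card_zpowers]; exact hk)
    · obtain ⟨k, hk⟩ := IsPGroup.iff_card.mp P.2
      rw [hk]
      exact Nat.Coprime.pow_left _ ((Nat.coprime_primes hp hq).2 hpq)
    · rw [Subgroup.zpowers_le, Subgroup.mem_centralizer_iff]
      intro g hg
      exact mem_cz.1 (hP hg)
    · rw [Subgroup.normalizer_eq_top]; exact le_top
    · rw [Subgroup.normalizer_eq_top]; exact le_top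
    · rintro u ⟨huL, huc⟩
      rw [Subgroup.mem_centralizer_iff]
      intro g hg
      have huy : u ∈ cz y := mem_cz.2 (Subgroup.mem_centralizer_iff.1 huc y (Subgroup.mem_zpowers y)).symm
      have huq : PE q u := by
        obtain ⟨k, hk⟩ := hL ⟨u, huL⟩
        exact ⟨k, congrArg Subtype.val hk⟩
      exact (df_cz h hp hq hpq hy hcy huy (hP hg) huq (hPq g hg)).symm
  apply mem_of_cop_index
  have h1 : (centralizer (pCore q G : Set G)).index ∣ (P : Subgroup G).index := Subgroup.index_dvd_of_le hPL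
  exact PE.cop' hp hg (fun hd => P.not_dvd_index (hd.trans h1))

/-- `r`-elements are central for `r ≠ p, q` -/
theorem other (h : F4 G (p ^ a) (q ^ b)) (hp : p.Prime) (hq : q.Prime) {r : ℕ} (hr : r.Prime) (hrp : r ≠ p)
    (hrq : r ≠ q) {g : G} (hg : PE r g) : g ∈ Subgroup.center G := by
  have fr : Fact r.Prime := ⟨hr⟩
  have hno : ∀ x : G, ¬ r ∣ cs x := by
    intro x hd
    have h1 : ¬ r ∣ p ^ a := fun hh => hrp ((Nat.prime_dvd_prime_iff_eq hr hp).1 (hr.dvd_of_dvd_pow hh))
    have h2 : ¬ r ∣ q ^ b := fun hh => hrq ((Nat.prime_dvd_prime_iff_eq hr hq).1 (hr.dvd_of_dvd_pow hh))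
    rcases h.all x with e | e | e | e
    · rw [e] at hd; exact hr.one_lt.ne' (Nat.dvd_one.1 hd)
    · rw [e] at hd; exact h1 hd
    · rw [e] at hd; exact h2 hd
    · rw [e] at hd
      rcases (Nat.Prime.dvd_mul hr).1 hd with hd | hd
      · exact h1 hd
      · exact h2 hd
  obtain ⟨P⟩ : Nonempty (Sylow r G) := inferInstance
  obtain ⟨hPn, N, hN, hNq, hPN, hPN'⟩ := S4035.result (G := G) (p := r)
    (fun x hx => by rw [H67.ncard_carrier_eq_index]; exact hno x) P
  have haP : g ∈ (P : Subgroup G) := by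
    apply mem_of_cop_index
    exact PE.cop' hr hg P.not_dvd_index
  have hNg : N ≤ cz g := by
    intro n hn
    exact mem_cz.2 (Subgroup.commute_of_normal_of_disjoint (P : Subgroup G) N hPn hN (disjoint_iff.2 hPN) g n haP hn).symm
  have h1 : N.index ∣ Nat.card (P : Subgroup G) := by
    have h2 : N.relIndex ((P : Subgroup G) ⊔ N) = N.relIndex (P : Subgroup G) := Subgroup.relIndex_sup_right _ _
    rw [hPN', Subgroup.relIndex_top_right] at h2
    rw [h2]
    exact Subgroup.relIndex_dvd_card _ _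
  obtain ⟨k, hk⟩ := IsPGroup.iff_card.mp P.2
  rw [hk] at h1
  have h3 : cs g ∣ r ^ k := (Subgroup.index_dvd_of_le hNg).trans h1
  obtain ⟨j, -, hj⟩ := (Nat.dvd_prime_pow hr).1 h3
  rw [← cs_eq_one, hj]
  rcases Nat.eq_zero_or_pos j with h0 | h0
  · rw [h0, pow_zero]
  · exact absurd (hj ▸ dvd_pow_self r h0.ne') (hno g)

end

section
variable {C : Type u} [Group C] [Finite C]

theorem not_dvd_center {r : ℕ} [hr : Fact r.Prime] (h : ∀ g : C, PE r g → g ∈ Subgroup.center C) :
    ¬ r ∣ (Subgroup.center C).index := by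
  obtain ⟨P⟩ : Nonempty (Sylow r C) := inferInstance
  have h1 : (P : Subgroup C) ≤ Subgroup.center C := by
    intro g hg
    obtain ⟨k, hk⟩ := P.isPGroup' ⟨g, hg⟩
    exact h g ⟨k, congrArg Subtype.val hk⟩
  exact fun hd => P.not_dvd_index (hd.trans (Subgroup.index_dvd_of_le h1))

theorem nilp_of_central {p : ℕ} [hp : Fact p.Prime] (h : ∀ r : ℕ, r.Prime → r ≠ p → ∀ g : C, PE r g → g ∈ Subgroup.center C) :
    Group.IsNilpotent C := by
  have h1 : ∃ k, (Subgroup.center C).index = p ^ k := by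
    refine ⟨_, Nat.eq_prime_pow_of_unique_prime_dvd Subgroup.index_ne_zero_of_finite ?_⟩
    intro r hr hd
    by_contra hne
    have : Fact r.Prime := ⟨hr⟩
    exact not_dvd_center (h r hr hne) hd
  obtain ⟨k, hk⟩ := h1
  have h2 : IsPGroup p (C ⧸ Subgroup.center C) := IsPGroup.of_card (n := k) (by rw [← hk, Subgroup.index])
  exact Group.of_quotient_center_nilpotent h2.isNilpotent

theorem solv_of_central {p q : ℕ} (hp : p.Prime) (hq : q.Prime)
    (h : ∀ r : ℕ, r.Prime → r ≠ p → r ≠ q → ∀ g : C, PE r g → g ∈ Subgroup.center C) :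
    Group.IsSolvable C := by
  set n := (Subgroup.center C).index with hn
  have hn0 : n ≠ 0 := Subgroup.index_ne_zero_of_finite
  have hd : ∀ r : ℕ, r.Prime → r ∣ n → r = p ∨ r = q := by
    intro r hr hd
    by_contra hne
    push Not at hne
    have : Fact r.Prime := ⟨hr⟩
    exact not_dvd_center (h r hr hne.1 hne.2) hd
  have h1 : ∃ k, n / p ^ n.factorization p = q ^ k := by
    refine ⟨_, Nat.eq_prime_pow_of_unique_prime_dvd (Nat.ordCompl_pos p hn0).ne' ?_⟩
    intro r hr hr2
    rcases hd r hr (hr2.trans (Nat.ordCompl_dvd n p)) with h3 | h3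
    · subst h3
      exact absurd hr2 (Nat.not_dvd_ordCompl hr hn0)
    · exact h3
  obtain ⟨k, hk⟩ := h1
  have h2 : Nat.card (C ⧸ Subgroup.center C) = p ^ n.factorization p * q ^ k := by
    rw [← hk, Nat.ordProj_mul_ordCompl_eq_self]
    rfl
  have h3 : Group.IsSolvable (C ⧸ Subgroup.center C) := S0144.result p q _ _ hp hq h2
  have h4 : Group.IsSolvable (Subgroup.center C) :=
    Group.isSolvable_of_comm (fun a b => Subtype.ext (Subgroup.mem_center_iff.1 b.2 a))
  exact (Group.isSolvable_iff_subgroup_quotient (Subgroup.center C)).mpr ⟨h4, h3⟩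

end

section
variable {G : Type u} [Group G] [Finite G] {p q a b : ℕ}

theorem all_mem (h : F4 G (p ^ a) (q ^ b)) (hp : p.Prime) (hq : q.Prime) (hpq : p ≠ q) [Group.IsSolvable G]
    (hL : ∀ g : G, PE p g → g ∈ centralizer (pCore q G : Set G))
    (hK : ∀ g : G, PE q g → g ∈ centralizer (pCore p G : Set G)) {g : G} (hg : PE p g) : g ∈ fittingSubgroup G := by
  have fp : Fact p.Prime := ⟨hp⟩
  have fq : Fact q.Prime := ⟨hq⟩
  set C := centralizer (pCore q G : Set G) with hC
  have hnil : Group.IsNilpotent C := by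
    refine nilp_of_central (p := p) ?_
    intro r hr hrp v hv
    have hv' : PE r (v : G) := by
      obtain ⟨k, hk⟩ := hv
      exact ⟨k, congrArg Subtype.val hk⟩
    by_cases hrq : r = q
    · subst hrq
      have h1 : (v : G) ∈ centralizer (fittingSubgroup G : Set G) := by
        have h2 : Subgroup.zpowers (v : G) ≤ centralizer (fittingSubgroup G : Set G) := by
          rw [Subgroup.le_centralizer_iff, Solv.fitting_eq_iSup_pCore]
          apply iSup_le
          rintro ⟨s, hs⟩
          rw [Subgroup.le_centralizer_iff, Subgroup.zpowers_le]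
          by_cases hsp : s = p
          · subst hsp; exact hK _ hv'
          · by_cases hsr : s = r
            · subst hsr; exact v.2
            · rw [Subgroup.mem_centralizer_iff]
              intro u hu
              have hus : PE s u := by
                obtain ⟨k, hk⟩ := Solv.pCore_isPGroup (G := G) s ⟨u, hu⟩
                exact ⟨k, congrArg Subtype.val hk⟩
              have := other h hp hr hs hsp hsr hus
              exact (Subgroup.mem_center_iff.1 this v).symm
        exact h2 (Subgroup.mem_zpowers _)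
      have h2 : (v : G) ∈ fittingSubgroup G := Solv.centralizer_fitting_le h1
      have h3 : (v : G) ∈ pCore r G := by
        apply H63.mem_pCore_of_mem_fitting h2
        obtain ⟨k, hk⟩ := hv'
        exact ⟨k, by rw [hk]; exact one_mem _⟩
      rw [Subgroup.mem_center_iff]
      intro w
      apply Subtype.ext
      exact (Subgroup.mem_centralizer_iff.1 w.2 v h3).symm
    · have h1 := other h hp hq hr hrp hrq hv'
      rw [Subgroup.mem_center_iff]
      intro w
      apply Subtype.ext
      exact Subgroup.mem_center_iff.1 h1 w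
  exact Solv.le_fitting (N := C) inferInstance hnil (hL g hg)

theorem nat (h : F4 G (p ^ a) (q ^ b)) (hp : p.Prime) (hq : q.Prime)
    (hpq : p ≠ q) {x y : G} (hx : PE p x) (hcx : cs x = p ^ a) (hy : PE q y) (hcy : cs y = q ^ b) :
    Group.IsNilpotent G := by
  have fp : Fact p.Prime := ⟨hp⟩
  have fq : Fact q.Prime := ⟨hq⟩
  have hL : ∀ g : G, PE p g → g ∈ centralizer (pCore q G : Set G) := fun g hg => half h hp hq hpq hy hcy hg
  have hK : ∀ g : G, PE q g → g ∈ centralizer (pCore p G : Set G) :=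
    fun g hg => half h.symm hq hp hpq.symm hx hcx hg
  have hs : Group.IsSolvable G := solv_of_central hp hq (fun r hr h1 h2 g hg => other h hp hq hr h1 h2 hg)
  have h1 : ∀ g : G, PE p g → g ∈ fittingSubgroup G := fun g hg => all_mem h hp hq hpq hL hK hg
  have h2 : ∀ g : G, PE q g → g ∈ fittingSubgroup G := fun g hg => all_mem h.symm hq hp hpq.symm hK hL hg
  have h3 : Subgroup.center G ≤ fittingSubgroup G := by
    refine Solv.le_fitting inferInstance ?_
    let _ : CommGroup (Subgroup.center G) :=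
      { (inferInstance : Group (Subgroup.center G)) with
        mul_comm := fun a b => Subtype.ext (Subgroup.mem_center_iff.1 b.2 a) }
    exact CommGroup.isNilpotent
  have htop : fittingSubgroup G = ⊤ := by
    rw [eq_top_iff, ← Solv.iSup_sylow_eq_top (G := G) (fun r => default)]
    apply iSup_le
    rintro ⟨r, hr⟩ g hg
    have hgr : PE r g := by
      obtain ⟨k, hk⟩ := (default : Sylow r G).isPGroup' ⟨g, hg⟩
      exact ⟨k, congrArg Subtype.val hk⟩
    by_cases hrp : r = p
    · subst hrp; exact h1 g hgr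
    · by_cases hrq : r = q
      · subst hrq; exact h2 g hgr
      · exact h3 (other h hp hq hr hrp hrq hgr)
  have h4 : Group.IsNilpotent (fittingSubgroup G) := Solv.fitting_isNilpotent
  rw [htop] at h4
  exact (Group.isNilpotent_congr Subgroup.topEquiv).1 h4

end

end Cfsg.Agent.H65.FcC1
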