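import Cfsg.Agent.H65.SelfCentB

/-! # Groups whose noncyclic subgroups are self-centralizing: dihedral and quasidihedral Sylows (helper65) -/

set_option autoImplicit false

namespace Cfsg.Agent.H20.QDData

variable {S : Type*} [Group S] {m : ℕ} (d : QDData S m)

theorem two_dvd_pow' : 2 ∣ 2 ^ (m + 3) := dvd_pow_self 2 (by omega)

/-- reduction mod 2 -/
noncomputable def red : ZMod (2 ^ (m + 3)) →+* ZMod 2 := ZMod.castHom two_dvd_pow' (ZMod 2)

theorem two_eq_zero' : (2 : ZMod 2) = 0 := rfl

/-- the parity of the exponent -/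
noncomputable def chi (s : S) : ZMod 2 := by
  classical
  exact if h : ∃ i, s = d.e i then red h.choose else if h' : ∃ i, s = d.e i * d.y then red h'.choose else 0

theorem chi_e (i : ZMod (2 ^ (m + 3))) : d.chi (d.e i) = red i := by
  have h : ∃ j, d.e i = d.e j := ⟨i, rfl⟩
  rw [chi, dif_pos h]
  rw [← d.e_inj h.choose_spec]

theorem chi_ey (i : ZMod (2 ^ (m + 3))) : d.chi (d.e i * d.y) = red i := by
  have h : ¬ ∃ j, d.e i * d.y = d.e j := by
    rintro ⟨j, hj⟩
    exact d.e_ne_ey j i hj.symm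
  have h' : ∃ j, d.e i * d.y = d.e j * d.y := ⟨i, rfl⟩
  rw [chi, dif_neg h, dif_pos h']
  rw [← d.ey_inj.1 h'.choose_spec]

theorem red_coeff (j : ZMod (2 ^ (m + 3))) : red ((2 ^ (m + 2) - 1) * j) = red j := by
  have h1 : (2 : ZMod 2) ^ (m + 2) = 0 := by
    rw [pow_succ, two_eq_zero', mul_zero]
  have h2 : ∀ x : ZMod 2, -x = x := by decide
  rw [map_mul, map_sub, map_pow, map_one, map_ofNat, h1, zero_sub, neg_mul, one_mul, h2]

theorem chi_mul (s t : S) : d.chi (s * t) = d.chi s + d.chi t := by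
  rcases d.cases s with ⟨i, rfl⟩ | ⟨i, rfl⟩ <;> rcases d.cases t with ⟨j, rfl⟩ | ⟨j, rfl⟩
  · rw [← d.e_add, chi_e, chi_e, chi_e, map_add]
  · rw [d.e_mul_ey, chi_ey, chi_e, chi_ey, map_add]
  · rw [d.ey_mul_e, chi_ey, chi_ey, chi_e, map_add, red_coeff]
  · rw [d.ey_mul_ey, chi_e, chi_ey, chi_ey, map_add, red_coeff]

/-- the parity homomorphism -/
noncomputable def chiHom : S →* Multiplicative (ZMod 2) where
  toFun s := Multiplicative.ofAdd (d.chi s)
  map_one' := by
    rw [← d.e_zero, chi_e, map_zero]; rfl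
  map_mul' a b := by rw [chi_mul]; rfl

theorem mem_ker {s : S} : s ∈ d.chiHom.ker ↔ d.chi s = 0 := by
  rw [MonoidHom.mem_ker]
  constructor
  · intro h; exact h
  · intro h; exact h

theorem chi_of_sq {s : S} (hs : s * s = 1) : d.chi s = 0 := by
  rcases d.sq_eq_one_iff.1 hs with rfl | rfl | ⟨j, rfl⟩
  · have := d.mem_ker.1 d.chiHom.ker.one_mem; exact this
  · rw [chi_e, map_pow, map_ofNat, pow_succ, two_eq_zero', mul_zero]
  · rw [chi_ey, map_mul, map_ofNat, two_eq_zero', zero_mul]

theorem chi_e_one : d.chi (d.e 1) ≠ 0 := by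
  rw [chi_e, map_one]; decide

end Cfsg.Agent.H20.QDData

namespace Cfsg.Agent.H65

open Subgroup
open scoped commutatorElement

universe u

variable {G : Type u} [Group G] [Finite G]

/-- `C(z)` is a 2-group and there is a Brauer-Suzuki-Wall configuration, dihedral case. -/
theorem conf_of_dihedral [IsSimpleGroup G] (hna : ¬ IsMulCommutative G) (hG : SC G) (S : Sylow 2 G) (n : ℕ)
    (hn : 2 ≤ n) (hS : Nonempty ((S : Subgroup G) ≃* DihedralGroup n)) {z t : G} (hzS : z ∈ (S : Subgroup G))
    (htS : t ∈ (S : Subgroup G)) (hz : z * z = 1) (hz1 : z ≠ 1) (ht : t * t = 1) (ht1 : t ≠ 1) (hzt : z ≠ t)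
    (hcen : ∀ s ∈ (S : Subgroup G), s * z = z * s) :
    IsPGroup 2 (centralizer ({z} : Set G)) ∧ ∃ (K : Subgroup G) (s : G), BSW.Conf K z s := by
  have hc : z * t = t * z := (hcen t htS).symm
  have hoz : orderOf z = 2 := orderOf_eq_prime (by rw [pow_two]; exact hz) hz1
  have htC : t ∈ centralizer ({z} : Set G) := mem_centralizer_singleton_iff.2 hc.symm
  -- odd normal subgroups of `C(z)` are trivial
  have hodd : ∀ N : Subgroup (centralizer ({z} : Set G)), N.Normal → Odd (Nat.card N) → N = ⊥ := by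
    intro N hN hNodd
    have h1 : N.map (centralizer ({z} : Set G)).subtype = ⊥ := by
      refine odd_normalized hG hz hz1 ht ht1 hzt hc _ ?_ ?_ ?_
      · rintro _ ⟨n, -, rfl⟩
        exact (mem_centralizer_singleton_iff.1 n.2).symm
      · rintro _ ⟨n, hn, rfl⟩
        exact ⟨_, hN.conj_mem n hn ⟨t, htC⟩, rfl⟩
      · rintro _ ⟨n, hn, rfl⟩
        rw [Subgroup.subtype_apply, Subgroup.orderOf_coe]
        have : orderOf n ∣ Nat.card N := by
          have h2 := orderOf_dvd_natCard (⟨n, hn⟩ : N)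
          rwa [Subgroup.orderOf_mk] at h2
        exact Odd.of_dvd_nat hNodd this
    rwa [Subgroup.map_eq_bot_iff_of_injective _ (Subgroup.subtype_injective _)] at h1
  obtain ⟨N, hN, hNodd, k, hk⟩ := Cfsg.Agent.S0514.result S n hn hS z hoz
  have hNb := hodd N hN hNodd
  constructor
  · apply IsPGroup.of_card (n := k)
    rw [← hk, hNb, index_bot]
  · have hO : Cfsg.oddCore (centralizer ({z} : Set G)) = ⊥ := by
      apply hodd
      · infer_instance
      · exact Nat.coprime_two_right.1 (Cfsg.Agent.Solv.pPrimeCore_card_coprime 2)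
    apply BSW.exists_conf (index_ne_two hna) S n hn hS z hoz hzS hcen ⊥
    · rw [hO, Subgroup.map_bot]
    · intro h; exact absurd rfl h
    · intro s _ hs y hy
      rw [mem_bot] at hy
      rw [hy]; simp
    · intro Y hY hYne
      exact absurd (le_bot_iff.1 hY) hYne

/-- Products of an involution `u ≠ z` of `C(z)` with conjugates have 2-power order; so `u ∈ O_2(C(z))`. -/
theorem mem_pCore_of_inv (hG : SC G) {z u : G} (hz : z * z = 1) (hz1 : z ≠ 1) (hu : u * u = 1)
    (hzu : z ≠ u) (hc : u ∈ centralizer ({z} : Set G)) :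
    (⟨u, hc⟩ : centralizer ({z} : Set G)) ∈ Cfsg.pCore 2 (centralizer ({z} : Set G)) := by
  haveI : Fact (Nat.Prime 2) := ⟨Nat.prime_two⟩
  set C := centralizer ({z} : Set G) with hC
  have hzC : ∀ c : C, z * (c : G) = c * z := fun c => (mem_centralizer_singleton_iff.1 c.2).symm
  set U : C := ⟨u, hc⟩ with hU
  have hUU : U * U = 1 := Subtype.ext hu
  have hUi : U⁻¹ = U := inv_eq_of_mul_eq_one_left hUU
  have hXp : IsPGroup 2 (zpowers U) := by
    intro x
    obtain ⟨k, hk⟩ := x.2
    refine ⟨1, Subtype.ext ?_⟩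
    show (x : C) ^ 2 ^ 1 = 1
    have hk' : U ^ k = x := hk
    rw [← hk', pow_one, pow_two, ← zpow_add, ← two_mul, zpow_mul, zpow_ofNat, pow_two, hUU, one_zpow]
  obtain ⟨N, hN, hNp, hXN⟩ := Cfsg.Agent.S0199.result (zpowers U) hXp (by
    intro g
    set w : C := g * U * g⁻¹ with hw
    have hww : w * w = 1 := by
      calc w * w = g * (U * U) * g⁻¹ := by rw [hw]; group
        _ = 1 := by rw [hUU]; group
    have hwi : w⁻¹ = w := inv_eq_of_mul_eq_one_left hww
    set y : C := U * w with hy
    have hinv : U * y * U⁻¹ = y⁻¹ := by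
      rw [hy, mul_inv_rev, hUi, hwi, ← mul_assoc, hUU, one_mul]
    -- `y` has two-power order
    obtain ⟨a, b, hb, hab⟩ : ∃ a b : ℕ, ¬ 2 ∣ b ∧ orderOf y = 2 ^ a * b := by
      obtain ⟨a, b, hb, hab⟩ := Nat.exists_eq_pow_mul_and_not_dvd (orderOf_pos y).ne' 2 (by norm_num)
      exact ⟨a, b, hb, hab⟩
    have hb1 : b = 1 := by
      by_contra hb1
      have hob : orderOf (y ^ 2 ^ a) = b := by
        rw [orderOf_pow_of_dvd (by positivity) (by rw [hab]; exact dvd_mul_right _ _), hab,
          Nat.mul_div_cancel_left _ (by positivity)]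
      refine no_inverted hG (z := z) (t := u) (y := ((y ^ 2 ^ a : C) : G)) hz hz1 hu hzu ?_ ?_ ?_ ?_ ?_
      · exact (mem_centralizer_singleton_iff.1 hc).symm
      · rw [Subgroup.orderOf_coe, hob, ← Nat.not_even_iff_odd, even_iff_two_dvd]
        exact hb
      · intro e
        have e' : y ^ 2 ^ a = 1 := Subtype.ext e
        rw [e', orderOf_one] at hob
        exact hb1 hob.symm
      · exact hzC _
      · have h1 : U * (y ^ 2 ^ a) * U⁻¹ = (y ^ 2 ^ a)⁻¹ := by
          rw [← conj_pow, hinv, inv_pow]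
        exact congrArg Subtype.val h1
    have hle : zpowers U ⊔ (zpowers U).map (MulAut.conj g).toMonoidHom ≤ dihSub y U hUU hinv := by
      apply sup_le
      · rw [zpowers_le]; exact t_mem_dihSub _ _
      · rw [MonoidHom.map_zpowers, zpowers_le]
        show g * U * g⁻¹ ∈ _
        refine ⟨-1, Or.inr ?_⟩
        rw [← hw, hy, zpow_neg_one, mul_inv_rev, hUi, hwi, mul_assoc, hUU, mul_one]
    refine IsPGroup.to_le ?_ hle
    rintro ⟨x, i, hx | hx⟩
    · refine ⟨a, Subtype.ext ?_⟩
      show x ^ 2 ^ a = 1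
      rw [hx, ← zpow_natCast, zpow_comm, zpow_natCast]
      have : y ^ 2 ^ a = 1 := by
        rw [← orderOf_dvd_iff_pow_eq_one, hab, hb1, mul_one]
      rw [this, one_zpow]
    · refine ⟨1, Subtype.ext ?_⟩
      show x ^ 2 ^ 1 = 1
      rw [pow_one, pow_two, hx]
      have h1 := t_zpow hinv i
      calc y ^ i * U * (y ^ i * U) = y ^ i * (U * y ^ i) * U := by group
        _ = y ^ i * y ^ (-i) * (U * U) := by rw [h1]; group
        _ = 1 := by rw [hUU]; group)
  exact Solv.le_pCore hN hNp (hXN (mem_zpowers U))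

omit [Finite G] in
theorem pow_eq_z_of_order (hG : SC G) {S : Subgroup G} {z : G} (hz : z * z = 1) (hz1 : z ≠ 1)
    (hcen : ∀ s ∈ S, s * z = z * s) {x : G} (hx : x ∈ S) (hxx : x * x ≠ 1) {k : ℕ}
    (hk : orderOf x = 2 ^ (k + 1)) : x ^ 2 ^ k = z := by
  by_contra hne
  set w := x ^ 2 ^ k with hw
  have hww : w * w = 1 := by
    rw [hw, ← pow_two, ← pow_mul, ← pow_succ, ← hk, pow_orderOf_eq_one]
  have hw1 : w ≠ 1 := by
    intro h
    have h1 := orderOf_dvd_of_pow_eq_one h
    rw [hk, Nat.pow_dvd_pow_iff_le_right (by norm_num)] at h1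
    omega
  have hwS : w ∈ S := pow_mem hx _
  have hxw : x * w = w * x := ((Commute.refl x).pow_right _).eq
  exact hxx (klein_sq hz hww (hcen w hwS).symm
    (klein_self hG hz hz1 hww hw1 (fun h => hne h.symm) (hcen w hwS).symm (hcen x hx) hxw))

/-- no quasidihedral Sylow 2-subgroups. -/
theorem no_quasidihedral [IsSimpleGroup G] (hna : ¬ IsMulCommutative G) (hG : SC G) (S : Sylow 2 G)
    (hS : Cfsg.IsQuasiDihedral (S : Subgroup G)) : False := by
  haveI : Fact (Nat.Prime 2) := ⟨Nat.prime_two⟩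
  obtain ⟨m, hcard, ⟨d⟩⟩ := H20.QDData.exists_of_isQuasiDihedral hS
  set z' : (S : Subgroup G) := d.e (2 ^ (m + 2)) with hz'
  set z : G := (z' : G) with hzdef
  have hcen : ∀ s ∈ (S : Subgroup G), s * z = z * s := by
    intro s hs
    exact (congrArg Subtype.val (d.e_h_comm ⟨s, hs⟩)).symm
  have hz : z * z = 1 := congrArg Subtype.val (mul_self_of_orderOf d.orderOf_e_h)
  have hz1 : z ≠ 1 := by
    intro h
    have : z' = 1 := Subtype.ext h
    have h2 := d.orderOf_e_h
    rw [← hz', this, orderOf_one] at h2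
    omega
  set C := centralizer ({z} : Set G) with hC
  have hSC : (S : Subgroup G) ≤ C := by
    intro s hs
    rw [hC, mem_centralizer_singleton_iff]
    exact hcen s hs
  -- the non-central involutions
  have hinv : ∀ j, (d.e (2 * j) * d.y) * (d.e (2 * j) * d.y) = 1 := fun j => mul_self_of_orderOf (d.orderOf_ey_even j)
  have hinvz : ∀ j, z ≠ ((d.e (2 * j) * d.y : (S : Subgroup G)) : G) := by
    intro j h
    have : d.e (2 ^ (m + 2)) = d.e (2 * j) * d.y := Subtype.ext h
    exact d.e_ne_ey _ _ this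
  set Q : Subgroup C := Cfsg.pCore 2 C with hQ
  have hQp : IsPGroup 2 Q := Solv.pCore_isPGroup 2
  have hQn : Q.Normal := Solv.pCore_normal 2
  have hQS : Q ≤ (S : Subgroup G).subgroupOf C := by
    have := Solv.pCore_le_sylow (S.subtype hSC)
    exact this
  have hmemQ : ∀ j, (⟨((d.e (2 * j) * d.y : (S : Subgroup G)) : G), hSC (d.e (2 * j) * d.y).2⟩ : C) ∈ Q := by
    intro j
    exact mem_pCore_of_inv hG hz hz1 (congrArg Subtype.val (hinv j)) (hinvz j) _
  -- `z ∈ Q`
  have hzC : z ∈ C := hSC z'.2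
  have hZn : (zpowers (⟨z, hzC⟩ : C)).Normal := by
    constructor
    intro n hn g
    have hgz : (⟨z, hzC⟩ : C) ∈ center C := by
      rw [mem_center_iff]
      intro g
      exact Subtype.ext (mem_centralizer_singleton_iff.1 g.2)
    have hnz : n ∈ center C := (zpowers_le.2 hgz) hn
    have h1 := mem_center_iff.1 hnz g
    rw [h1, mul_inv_cancel_right]
    exact hn
  have hzzC : (⟨z, hzC⟩ : C) * ⟨z, hzC⟩ = 1 := Subtype.ext hz
  have hZp : IsPGroup 2 (zpowers (⟨z, hzC⟩ : C)) := by
    apply IsPGroup.of_card (n := 1)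
    rw [Nat.card_zpowers, pow_one]
    apply orderOf_eq_prime
    · rw [pow_two]; exact hzzC
    · intro h; exact hz1 (congrArg Subtype.val h)
  have hzQ : (⟨z, hzC⟩ : C) ∈ Q := Solv.le_pCore hZn hZp (mem_zpowers _)
  -- the involution `t = y`
  set t : C := ⟨((d.e (2 * 0) * d.y : (S : Subgroup G)) : G), hSC (d.e (2 * 0) * d.y).2⟩ with ht
  have htQ : t ∈ Q := hmemQ 0
  have htt : (t : G) * t = 1 := congrArg Subtype.val (hinv 0)
  have ht1 : (t : G) ≠ 1 := by
    intro h
    have h1 : d.e (2 * 0) * d.y = 1 := Subtype.ext h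
    rw [← d.e_zero] at h1
    exact d.e_ne_ey _ _ h1.symm
  have hzt : z ≠ t := hinvz 0
  have hczt : z * t = t * z := (hcen _ (d.e (2 * 0) * d.y).2).symm
  have hself : ∀ x : G, x * z = z * x → x * t = t * x → x = 1 ∨ x = z ∨ x = t ∨ x = z * t :=
    fun x h1 h2 => klein_self hG hz hz1 htt ht1 hzt hczt h1 h2
  -- `C_Q(t)` has order four
  have hcardCQ : Nat.card ↥(centralizer ({⟨t, htQ⟩} : Set Q)) = 4 := by
    have hztQ : (⟨z, hzC⟩ : C) * t ∈ Q := mul_mem hzQ htQ
    have h1 : ((centralizer ({⟨t, htQ⟩} : Set Q) : Subgroup Q) : Set Q) =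
        {1, ⟨⟨z, hzC⟩, hzQ⟩, ⟨t, htQ⟩, ⟨⟨z, hzC⟩ * t, hztQ⟩} := by
      ext x
      rw [SetLike.mem_coe, mem_centralizer_singleton_iff]
      simp only [Set.mem_insert_iff, Set.mem_singleton_iff]
      constructor
      · intro h
        have h2 : ((x : C) : G) * t = t * ((x : C) : G) := congrArg (fun q : Q => ((q : C) : G)) h
        have h3 : ((x : C) : G) * z = z * ((x : C) : G) := mem_centralizer_singleton_iff.1 (x : C).2
        rcases hself _ h3 h2 with h4 | h4 | h4 | h4
        · left; exact Subtype.ext (Subtype.ext h4)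
        · right; left; exact Subtype.ext (Subtype.ext h4)
        · right; right; left; exact Subtype.ext (Subtype.ext h4)
        · right; right; right; exact Subtype.ext (Subtype.ext h4)
      · rintro (h | h | h | h)
        · rw [h]; simp
        · rw [h]; exact Subtype.ext (Subtype.ext hczt)
        · rw [h]
        · rw [h]
          apply Subtype.ext
          apply Subtype.ext
          show z * t * t = t * (z * t)
          rw [← mul_assoc, ← hczt]
    have h2 : Nat.card ↥(centralizer ({⟨t, htQ⟩} : Set Q)) =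
        Set.ncard ((centralizer ({⟨t, htQ⟩} : Set Q) : Subgroup Q) : Set Q) := rfl
    rw [h2, h1, Set.ncard_insert_of_notMem, Set.ncard_insert_of_notMem, Set.ncard_pair]
    · intro e
      have e' : (t : G) = z * t := congrArg (fun q : Q => ((q : C) : G)) e
      exact hz1 (right_eq_mul.1 e')
    · simp only [Set.mem_insert_iff, Set.mem_singleton_iff, not_or]
      constructor
      · intro e
        exact hzt (congrArg (fun q : Q => ((q : C) : G)) e)
      · intro e
        have e' : z = z * t := congrArg (fun q : Q => ((q : C) : G)) e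
        exact ht1 (left_eq_mul.1 e')
    · simp only [Set.mem_insert_iff, Set.mem_singleton_iff, not_or]
      refine ⟨?_, ?_, ?_⟩
      · intro e
        exact hz1 (congrArg (fun q : Q => ((q : C) : G)) e).symm
      · intro e
        exact ht1 (congrArg (fun q : Q => ((q : C) : G)) e).symm
      · intro e
        have e' : (1 : G) = z * t := congrArg (fun q : Q => ((q : C) : G)) e
        apply hzt
        calc z = z * (t * t) := by rw [htt, mul_one]
          _ = (z * t) * t := by group
          _ = t := by rw [← e', one_mul]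
  -- `Q` is dihedral or quasidihedral, of order at least eight
  have hQ4 : Nat.card Q ≠ 4 := by
    intro h4
    have h1 : centralizer ({⟨t, htQ⟩} : Set Q) = ⊤ := by
      apply Subgroup.eq_top_of_card_eq
      rw [hcardCQ, h4]
    have h2 : (⟨_, hmemQ 1⟩ : Q) ∈ centralizer ({⟨t, htQ⟩} : Set Q) := by rw [h1]; exact mem_top _
    rw [mem_centralizer_singleton_iff] at h2
    have h3 : ((d.e (2 * 1) * d.y : (S : Subgroup G)) : G) * t = t * ((d.e (2 * 1) * d.y : (S : Subgroup G)) : G) :=
      congrArg (fun q : Q => ((q : C) : G)) h2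
    have h4' : (d.e (2 * 1) * d.y) * (d.e (2 * 0) * d.y) = (d.e (2 * 0) * d.y) * (d.e (2 * 1) * d.y) := Subtype.ext h3
    rw [d.ey_mul_ey, d.ey_mul_ey] at h4'
    have h5 := d.e_inj h4'
    have h6 : (2 : ZMod (2 ^ (m + 3))) ^ 2 ≠ 0 := H20.two_pow_zmod_ne_zero (by omega)
    apply h6
    have h7 : (2 : ZMod (2 ^ (m + 3))) * 2 ^ (m + 2) = 0 := H20.QDData.two_h
    linear_combination h5 + h7
  have hQcard : 4 < Nat.card Q := by
    have h1 : 4 ≤ Nat.card Q := by
      rw [← hcardCQ]
      exact Nat.le_of_dvd Nat.card_pos (card_subgroup_dvd_card _)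
    omega
  have hoT : orderOf (⟨t, htQ⟩ : Q) = 2 := by
    apply orderOf_eq_prime
    · rw [pow_two]; exact Subtype.ext (Subtype.ext htt)
    · intro e; exact ht1 (congrArg (fun q : Q => ((q : C) : G)) e)
  have hAut : IsPGroup 2 (MulAut Q) := by
    apply Cfsg.Agent.S3116.result hQp
    rcases Cfsg.Agent.S3224.result hQp ⟨t, htQ⟩ hoT hcardCQ with ⟨n, ⟨e⟩⟩ | h | h
    · left
      refine ⟨n, ?_, ⟨e⟩⟩
      obtain ⟨k, hk⟩ := hQp.exists_card_eq
      have h1 : Nat.card Q = 2 * n := by
        rw [Nat.card_congr e.toEquiv, DihedralGroup.nat_card]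
      rw [hk] at hQcard h1
      have hk3 : 3 ≤ k := by
        by_contra hcon
        have : 2 ^ k ≤ 2 ^ 2 := Nat.pow_le_pow_right (by norm_num) (by omega)
        omega
      have : 2 ^ 3 ≤ 2 ^ k := Nat.pow_le_pow_right (by norm_num) hk3
      omega
    · right; exact h
    · exact absurd h hQ4
  have hCp : IsPGroup 2 C := by
    intro x
    obtain ⟨k, hk⟩ := hAut (MulAut.conjNormal x)
    refine ⟨k + 1, ?_⟩
    rw [← map_pow] at hk
    have hcomm : ∀ q ∈ Q, x ^ 2 ^ k * q = q * x ^ 2 ^ k := by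
      intro q hq
      have h1 := congrArg (fun f : MulAut Q => ((f ⟨q, hq⟩ : Q) : C)) hk
      simp only [MulAut.conjNormal_apply, MulAut.one_apply] at h1
      rw [mul_inv_eq_iff_eq_mul] at h1
      exact h1
    have h1 := hself ((x ^ 2 ^ k : C) : G) (congrArg Subtype.val (hcomm _ hzQ)) (congrArg Subtype.val (hcomm _ htQ))
    have h2 := klein_sq hz htt hczt h1
    rw [pow_succ, pow_mul, pow_two]
    exact Subtype.ext h2
  have hCS : C = S := S.is_maximal' hCp hSC
  -- the focal subgroup theorem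
  have hfoc : (S : Subgroup G).focalSubgroup = S := by
    rw [← Subgroup.commutator_inf_eq_focalSubgroup S, BSW.commutator_eq_top (not_cyclic_of_na hna), top_inf_eq]
  have hle : (S : Subgroup G).focalSubgroup ≤ d.chiHom.ker.map (S : Subgroup G).subtype := by
    rw [focalSubgroup_def, closure_le]
    rintro g ⟨hgS, x, hxS, u, hg⟩
    refine ⟨⟨g, hgS⟩, ?_, rfl⟩
    rw [SetLike.mem_coe]
    have hux : u * x * u⁻¹ ∈ (S : Subgroup G) := by
      have h1 : (x⁻¹ * g)⁻¹ ∈ (S : Subgroup G) := inv_mem (mul_mem (inv_mem hxS) hgS)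
      have h2 : (x⁻¹ * g)⁻¹ = u * x * u⁻¹ := by
        rw [hg, commutatorElement_def]; group
      rwa [h2] at h1
    by_cases hxx : x * x = 1
    · have h1 : (⟨g, hgS⟩ : (S : Subgroup G)) = ⟨x, hxS⟩ * (⟨u * x * u⁻¹, hux⟩)⁻¹ := by
        apply Subtype.ext
        show g = x * (u * x * u⁻¹)⁻¹
        rw [hg, commutatorElement_def]; group
      rw [h1]
      apply mul_mem
      · rw [d.mem_ker]; exact d.chi_of_sq (Subtype.ext hxx)
      · apply inv_mem
        rw [d.mem_ker]
        apply d.chi_of_sq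
        apply Subtype.ext
        show u * x * u⁻¹ * (u * x * u⁻¹) = 1
        calc u * x * u⁻¹ * (u * x * u⁻¹) = u * (x * x) * u⁻¹ := by group
          _ = 1 := by rw [hxx]; group
    · -- `x` has order `2 ^ (k+1)`
      obtain ⟨k, hk⟩ : ∃ k, orderOf x = 2 ^ (k + 1) := by
        obtain ⟨j, hj⟩ := S.isPGroup'.exists_orderOf_eq_pow ⟨x, hxS⟩
        rw [Subgroup.orderOf_mk] at hj
        rcases j with _ | k
        · exfalso
          rw [pow_zero, orderOf_eq_one_iff] at hj
          exact hxx (by rw [hj, one_mul])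
        · exact ⟨k, hj⟩
      have h1 := pow_eq_z_of_order hG hz hz1 hcen hxS hxx hk
      have h2 : (u * x * u⁻¹) ^ 2 ^ k = z := by
        refine pow_eq_z_of_order hG hz hz1 hcen hux ?_ ?_
        · intro h
          apply hxx
          have h3 : u * (x * x) * u⁻¹ = 1 := by
            rw [← h]; group
          rwa [conj_eq_one_iff] at h3
        · rw [← hk]
          have : u * x * u⁻¹ = MulAut.conj u x := rfl
          rw [this, MulEquiv.orderOf_eq]
      have huC : u ∈ (S : Subgroup G) := by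
        rw [← hCS, hC, mem_centralizer_singleton_iff]
        rw [conj_pow, h1, mul_inv_eq_iff_eq_mul] at h2
        exact h2
      have h3 : (⟨g, hgS⟩ : (S : Subgroup G)) = ⁅(⟨x, hxS⟩ : (S : Subgroup G)), ⟨u, huC⟩⁆ := by
        apply Subtype.ext
        show g = ⁅x, u⁆
        exact hg
      rw [h3, MonoidHom.mem_ker, map_commutatorElement, commutatorElement_eq_one_iff_mul_comm]
      exact mul_comm _ _
  rw [hfoc] at hle
  obtain ⟨s, hs, hse⟩ := hle (d.e 1).2
  have : s = d.e 1 := Subtype.ext hse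
  rw [this, SetLike.mem_coe, d.mem_ker] at hs
  exact d.chi_e_one hs

/-- A simple group with self-centralizing noncyclic subgroups is `PSL(2,q)`, `q` odd, and has an involution
whose centralizer is a 2-group. -/
theorem exists_psl_of_selfCent [IsSimpleGroup G] (hna : ¬ IsMulCommutative G) (hG : SC G) :
    (∃ (F : Type) (_ : Field F) (_ : Fintype F), Odd (Fintype.card F) ∧
      Nonempty (G ≃* Matrix.ProjectiveSpecialLinearGroup (Fin 2) F)) ∧
    ∃ z : G, orderOf z = 2 ∧ IsPGroup 2 (centralizer ({z} : Set G)) := by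
  haveI : Fact (Nat.Prime 2) := ⟨Nat.prime_two⟩
  obtain ⟨S⟩ : Nonempty (Sylow 2 G) := inferInstance
  obtain ⟨z, hzS, t, htS, hz, hz1, ht, ht1, hzt, hcen⟩ := exists_two_inv hna (even_of_selfCent hna hG) S
  have hc : z * t = t * z := (hcen t htS).symm
  have hoz : orderOf z = 2 := orderOf_eq_prime (by rw [pow_two]; exact hz) hz1
  have hself : ∀ x : G, x * z = z * x → x * t = t * x → x = 1 ∨ x = z ∨ x = t ∨ x = z * t :=
    fun x h1 h2 => klein_self hG hz hz1 ht ht1 hzt hc h1 h2
  have hztS : z * t ∈ (S : Subgroup G) := mul_mem hzS htS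
  have hcardC : Nat.card ↥(centralizer ({⟨t, htS⟩} : Set (S : Subgroup G))) = 4 := by
    have h1 : ((centralizer ({⟨t, htS⟩} : Set (S : Subgroup G)) : Subgroup (S : Subgroup G)) : Set (S : Subgroup G)) =
        {1, ⟨z, hzS⟩, ⟨t, htS⟩, ⟨z * t, hztS⟩} := by
      ext x
      rw [SetLike.mem_coe, mem_centralizer_singleton_iff]
      simp only [Set.mem_insert_iff, Set.mem_singleton_iff]
      constructor
      · intro h
        rcases hself _ (hcen x x.2) (congrArg Subtype.val h) with h4 | h4 | h4 | h4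
        · left; exact Subtype.ext h4
        · right; left; exact Subtype.ext h4
        · right; right; left; exact Subtype.ext h4
        · right; right; right; exact Subtype.ext h4
      · rintro (h | h | h | h)
        · rw [h]; simp
        · rw [h]; exact Subtype.ext hc
        · rw [h]
        · rw [h]
          apply Subtype.ext
          show z * t * t = t * (z * t)
          rw [← mul_assoc, ← hc]
    have h2 : Nat.card ↥(centralizer ({⟨t, htS⟩} : Set (S : Subgroup G))) =
        Set.ncard ((centralizer ({⟨t, htS⟩} : Set (S : Subgroup G)) : Subgroup (S : Subgroup G)) : Set (S : Subgroup G)) := rfl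
    rw [h2, h1, Set.ncard_insert_of_notMem, Set.ncard_insert_of_notMem, Set.ncard_pair]
    · intro e
      exact hz1 (right_eq_mul.1 (congrArg Subtype.val e))
    · simp only [Set.mem_insert_iff, Set.mem_singleton_iff, not_or]
      constructor
      · intro e
        exact hzt (congrArg Subtype.val e)
      · intro e
        exact ht1 (left_eq_mul.1 (congrArg Subtype.val e))
    · simp only [Set.mem_insert_iff, Set.mem_singleton_iff, not_or]
      refine ⟨?_, ?_, ?_⟩
      · intro e
        exact hz1 (congrArg Subtype.val e).symm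
      · intro e
        exact ht1 (congrArg Subtype.val e).symm
      · intro e
        have e' : (1 : G) = z * t := congrArg Subtype.val e
        apply hzt
        calc z = z * (t * t) := by rw [ht, mul_one]
          _ = (z * t) * t := by group
          _ = t := by rw [← e', one_mul]
  have hoT : orderOf (⟨t, htS⟩ : (S : Subgroup G)) = 2 := by
    rw [Subgroup.orderOf_mk]
    exact orderOf_eq_prime (by rw [pow_two]; exact ht) ht1
  have h4le : 4 ≤ Nat.card (S : Subgroup G) := by
    rw [← hcardC]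
    exact Nat.le_of_dvd Nat.card_pos (card_subgroup_dvd_card _)
  have hdih : ∃ n, 2 ≤ n ∧ Nonempty ((S : Subgroup G) ≃* DihedralGroup n) := by
    rcases Cfsg.Agent.S3224.result S.isPGroup' ⟨t, htS⟩ hoT hcardC with ⟨n, ⟨e⟩⟩ | h | h
    · refine ⟨n, ?_, ⟨e⟩⟩
      have h1 : Nat.card (S : Subgroup G) = 2 * n := by
        rw [Nat.card_congr e.toEquiv, DihedralGroup.nat_card]
      omega
    · exact (no_quasidihedral hna hG S h).elim
    · refine ⟨2, le_rfl, ?_⟩
      have htop : centralizer ({⟨t, htS⟩} : Set (S : Subgroup G)) = ⊤ := by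
        apply Subgroup.eq_top_of_card_eq
        rw [hcardC, h]
      have hsq : ∀ x : (S : Subgroup G), x ^ 2 = 1 := by
        intro x
        have h1 : x ∈ centralizer ({⟨t, htS⟩} : Set (S : Subgroup G)) := by rw [htop]; exact mem_top _
        rw [mem_centralizer_singleton_iff] at h1
        rw [pow_two]
        exact Subtype.ext (klein_sq hz ht hc (hself _ (hcen x x.2) (congrArg Subtype.val h1)))
      haveI : IsKleinFour (S : Subgroup G) := by
        refine ⟨h, ?_⟩
        have h1 := Monoid.exponent_dvd_of_forall_pow_eq_one hsq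
        rcases (Nat.dvd_prime Nat.prime_two).1 h1 with h2 | h2
        · exfalso
          rw [Monoid.exp_eq_one_iff] at h2
          rw [Nat.card_unique] at h
          omega
        · exact h2
      exact IsKleinFour.nonempty_mulEquiv
  obtain ⟨n, hn, hS⟩ := hdih
  obtain ⟨h1, K, s, hK⟩ := conf_of_dihedral hna hG S n hn hS hzS htS hz hz1 ht ht1 hzt hcen
  exact ⟨BSW.psl_of_conf_simple hK, z, hoz, h1⟩

end Cfsg.Agent.H65
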