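import Cfsg.Agent.H65.SelfCentB
import Cfsg.Agent.H14.SL2Four

/-! # PSL(2,q), q odd: noncyclic subgroups and their centralizers (helper65) -/

set_option autoImplicit false

namespace Cfsg.Agent.H65

open Subgroup Matrix
open Cfsg.Agent.H41 Cfsg.Agent.H14.SL2Four

section arith

theorem odd_cofactor_add (p : ℤ) (hp : Odd p) (j : ℕ) : ∃ s : ℤ, Odd s ∧ p ^ (2 * j + 1) + 1 = (p + 1) * s := by
  induction j with
  | zero => exact ⟨1, odd_one, by ring⟩
  | succ j ih =>
    obtain ⟨s, hs, h⟩ := ih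
    refine ⟨p ^ 2 * s - (p - 1), ?_, ?_⟩
    · apply Odd.sub_even
      · exact (hp.pow).mul hs
      · exact hp.sub_odd odd_one
    · have : p ^ (2 * (j + 1) + 1) + 1 = p ^ 2 * (p ^ (2 * j + 1) + 1) - (p ^ 2 - 1) := by ring
      rw [this, h]; ring

theorem odd_cofactor_sub (p : ℤ) (hp : Odd p) (j : ℕ) : ∃ s : ℤ, Odd s ∧ p ^ (2 * j + 1) - 1 = (p - 1) * s := by
  induction j with
  | zero => exact ⟨1, odd_one, by ring⟩
  | succ j ih =>
    obtain ⟨s, hs, h⟩ := ih
    refine ⟨p ^ 2 * s + (p + 1), ?_, ?_⟩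
    · apply Odd.add_even
      · exact (hp.pow).mul hs
      · exact hp.add_odd odd_one
    · have : p ^ (2 * (j + 1) + 1) - 1 = p ^ 2 * (p ^ (2 * j + 1) - 1) + (p ^ 2 - 1) := by ring
      rw [this, h]; ring

theorem eq_one_of_odd_dvd_two_pow {s : ℤ} (hs : Odd s) {k : ℕ} (h : s ∣ 2 ^ k) : s = 1 ∨ s = -1 := by
  have h1 : s.natAbs ∣ 2 ^ k := by
    have := Int.natAbs_dvd_natAbs.2 h
    rwa [Int.natAbs_pow] at this
  obtain ⟨j, -, hj⟩ := (Nat.dvd_prime_pow Nat.prime_two).1 h1
  have h2 : j = 0 := by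
    by_contra hj0
    have h3 : Odd s.natAbs := Int.natAbs_odd.2 hs
    rw [hj] at h3
    exact (Nat.not_odd_iff_even.2 ((Nat.even_pow.2 ⟨even_two, hj0⟩))) h3
  rw [h2, pow_zero] at hj
  exact Int.natAbs_eq_iff.1 hj |>.imp (by intro h; simpa using h) (by intro h; simpa using h)

theorem pow_add_one_eq_two_pow {p f k : ℕ} (hp : p.Prime) (hp2 : p ≠ 2) (hf : f ≠ 0) (h : p ^ f + 1 = 2 ^ k) :
    f = 1 := by
  have hpo : Odd p := hp.odd_of_ne_two hp2
  have hp3 : 3 ≤ p := by
    have := hp.two_le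
    omega
  rcases Nat.even_or_odd' f with ⟨j, rfl | rfl⟩
  · exfalso
    have h1 : Odd (p ^ j) := hpo.pow
    obtain ⟨c, hc⟩ := h1
    have h2 : p ^ (2 * j) = (2 * c + 1) * (2 * c + 1) := by rw [two_mul, pow_add, hc]
    have hj : j ≠ 0 := by rintro rfl; exact hf (by norm_num)
    have h3 : 3 ≤ p ^ (2 * j) := by
      calc 3 ≤ p := hp3
        _ = p ^ 1 := (pow_one p).symm
        _ ≤ p ^ (2 * j) := Nat.pow_le_pow_right hp.pos (by omega)
    have h4 : 2 ≤ k := by
      by_contra hcon
      have : 2 ^ k ≤ 2 ^ 1 := Nat.pow_le_pow_right (by norm_num) (by omega)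
      omega
    obtain ⟨l, rfl⟩ : ∃ l, k = l + 2 := ⟨k - 2, by omega⟩
    rw [h2, pow_add] at h
    have : (2 * c + 1) * (2 * c + 1) = 4 * (c * c + c) + 1 := by ring
    omega
  · obtain ⟨s, hs, h1⟩ := odd_cofactor_add (p : ℤ) (by exact_mod_cast hpo) j
    have h2 : ((p : ℤ) ^ (2 * j + 1) + 1) = 2 ^ k := by exact_mod_cast h
    rw [h2] at h1
    have h3 : s ∣ 2 ^ k := ⟨(p : ℤ) + 1, by rw [h1]; ring⟩
    have hpos : (0 : ℤ) < (p : ℤ) + 1 := by positivity
    rcases eq_one_of_odd_dvd_two_pow hs h3 with h4 | h4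
    · rw [h4, mul_one, ← h2] at h1
      have h5 : p ^ (2 * j + 1) = p ^ 1 := by
        have : (p : ℤ) ^ (2 * j + 1) = (p : ℤ) := by linarith
        rw [pow_one]; exact_mod_cast this
      exact Nat.pow_right_injective hp.two_le h5
    · exfalso
      rw [h4] at h1
      have : (0 : ℤ) < 2 ^ k := by positivity
      linarith

theorem pow_eq_two_pow_add_one {p f k : ℕ} (hp : p.Prime) (hp2 : p ≠ 2) (hf : f ≠ 0) (h : p ^ f = 2 ^ k + 1) :
    f = 1 ∨ p ^ f = 9 := by
  have hpo : Odd p := hp.odd_of_ne_two hp2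
  have hp3 : 3 ≤ p := by
    have := hp.two_le
    omega
  rcases Nat.even_or_odd' f with ⟨j, rfl | rfl⟩
  · right
    have hj : j ≠ 0 := by rintro rfl; exact hf (by norm_num)
    have h3 : 3 ≤ p ^ j := by
      calc 3 ≤ p := hp3
        _ = p ^ 1 := (pow_one p).symm
        _ ≤ p ^ j := Nat.pow_le_pow_right hp.pos (by omega)
    obtain ⟨c, hc⟩ : ∃ c, p ^ j = c + 1 := ⟨p ^ j - 1, by omega⟩
    have h1 : p ^ (2 * j) = (c + 1) * (c + 1) := by rw [two_mul, pow_add, hc]
    have h2 : c * (c + 2) = 2 ^ k := by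
      have : (c + 1) * (c + 1) = c * (c + 2) + 1 := by ring
      rw [h1, this] at h
      omega
    obtain ⟨a, -, ha⟩ := (Nat.dvd_prime_pow Nat.prime_two).1 (Dvd.intro _ h2)
    obtain ⟨b, -, hb⟩ := (Nat.dvd_prime_pow Nat.prime_two).1 (Dvd.intro_left _ h2)
    -- `2 ^ b = 2 ^ a + 2`
    have ha1 : a = 1 := by
      have hab : 2 ^ b = 2 ^ a + 2 := by rw [← hb, ← ha]
      have ha0 : a ≠ 0 := by
        rintro rfl
        rw [pow_zero] at ha
        omega
      by_contra ha1
      obtain ⟨a', rfl⟩ : ∃ a', a = a' + 2 := ⟨a - 2, by omega⟩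
      have hb2 : 2 ≤ b := by
        by_contra hcon
        have : 2 ^ b ≤ 2 ^ 1 := Nat.pow_le_pow_right (by norm_num) (by omega)
        omega
      obtain ⟨b', rfl⟩ : ∃ b', b = b' + 2 := ⟨b - 2, by omega⟩
      rw [pow_add, pow_add] at hab
      omega
    rw [ha1, pow_one] at ha
    rw [h1, ha]
  · left
    obtain ⟨s, hs, h1⟩ := odd_cofactor_sub (p : ℤ) (by exact_mod_cast hpo) j
    have h2 : ((p : ℤ) ^ (2 * j + 1) - 1) = 2 ^ k := by
      have : (p : ℤ) ^ (2 * j + 1) = 2 ^ k + 1 := by exact_mod_cast h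
      rw [this]; ring
    rw [h2] at h1
    have h3 : s ∣ 2 ^ k := ⟨(p : ℤ) - 1, by rw [h1]; ring⟩
    have hpos : (0 : ℤ) < (p : ℤ) - 1 := by
      have : (3 : ℤ) ≤ p := by exact_mod_cast hp3
      linarith
    rcases eq_one_of_odd_dvd_two_pow hs h3 with h4 | h4
    · rw [h4, mul_one, ← h2] at h1
      have h5 : p ^ (2 * j + 1) = p ^ 1 := by
        have : (p : ℤ) ^ (2 * j + 1) = (p : ℤ) := by linarith
        rw [pow_one]; exact_mod_cast this
      exact Nat.pow_right_injective hp.two_le h5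
    · exfalso
      rw [h4] at h1
      have : (0 : ℤ) < 2 ^ k := by positivity
      linarith

end arith

variable {F : Type*} [Field F] [Fintype F]

theorem two_ne_zero_odd (h : Odd (Fintype.card F)) : (2 : F) ≠ 0 := by
  intro h2
  have : ringChar F = 2 := by
    have : CharP F 2 := CharTwo.of_one_ne_zero_of_two_eq_zero one_ne_zero h2
    exact ringChar.eq F 2
  have h3 := FiniteField.even_card_iff_char_two.1 this
  rw [Nat.odd_iff] at h
  omega

/-- the centralizer of an element of trace zero has order `q - 1` (`q ≡ 1 mod 4`) or `q + 1` (`q ≡ 3 mod 4`) -/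
theorem card_centralizer_tr_zero (hodd : Odd (Fintype.card F)) {A : SpecialLinearGroup (Fin 2) F} (hA : tr A = 0) :
    (Fintype.card F % 4 = 1 ∧ Nat.card (centralizer ({A} : Set (SpecialLinearGroup (Fin 2) F))) = Fintype.card F - 1) ∨
    (Fintype.card F % 4 = 3 ∧ Nat.card (centralizer ({A} : Set (SpecialLinearGroup (Fin 2) F))) = Fintype.card F + 1) := by
  have h2 := two_ne_zero_odd hodd
  rw [Nat.odd_iff] at hodd
  by_cases hsq : IsSquare (-1 : F)
  · left
    have h3 := FiniteField.isSquare_neg_one_iff.1 hsq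
    refine ⟨by omega, ?_⟩
    obtain ⟨i, hi⟩ := hsq
    rw [(centralizer_of_eig A (sq_ne_four h2 hA) i (by rw [hA, zero_mul, sub_zero, pow_two, ← hi]; ring)).2,
      Nat.card_eq_fintype_card]
  · right
    have h3 : ¬ (Fintype.card F % 4 ≠ 3) := fun h => hsq (FiniteField.isSquare_neg_one_iff.2 h)
    refine ⟨by omega, ?_⟩
    rw [(centralizer_of_noEig A (by
      intro a ha
      apply hsq
      refine ⟨a, ?_⟩
      rw [hA] at ha
      linear_combination -ha)).2, Nat.card_eq_fintype_card]

/-- The condition on `q`. -/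
def QCond (q : ℕ) : Prop := q = 9 ∨ (q.Prime ∧ ∃ k : ℕ, q = 2 ^ k + 1 ∨ q = 2 ^ k - 1)

/-- if `PSL(2,q)`, `q` odd, has an involution whose centralizer is a 2-group, then `q = 9` or a Fermat or Mersenne
prime -/
theorem qCond_of_two_centralizer (hodd : Odd (Fintype.card F)) {z : ProjectiveSpecialLinearGroup (Fin 2) F}
    (hz : orderOf z = 2) (hC : IsPGroup 2 (centralizer ({z} : Set (ProjectiveSpecialLinearGroup (Fin 2) F)))) :
    QCond (Fintype.card F) := by
  have h2 := two_ne_zero_odd hodd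
  haveI : Fact (Nat.Prime 2) := ⟨Nat.prime_two⟩
  obtain ⟨A, rfl⟩ := QuotientGroup.mk_surjective z
  have hA := tr_of_orderOf_two h2 hz
  have hT : IsPGroup 2 (centralizer ({A} : Set (SpecialLinearGroup (Fin 2) F))) := by
    rintro ⟨B, hB⟩
    have hB' := mem_centralizer_singleton_iff.1 hB
    obtain ⟨k, hk⟩ := hC ⟨QuotientGroup.mk B, by
      rw [mem_centralizer_singleton_iff, ← QuotientGroup.mk_mul, ← QuotientGroup.mk_mul, hB']⟩
    have hk' : (QuotientGroup.mk (B ^ 2 ^ k) : ProjectiveSpecialLinearGroup (Fin 2) F) = 1 := congrArg Subtype.val hk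
    rw [psl2_mk_eq_one_iff] at hk'
    refine ⟨k + 1, Subtype.ext ?_⟩
    show B ^ 2 ^ (k + 1) = 1
    rw [pow_succ, pow_mul]
    rcases hk' with h | h
    · rw [h, one_pow]
    · rw [h]; simp
  obtain ⟨k, hk⟩ := hT.exists_card_eq
  obtain ⟨p, n, hp, hpn⟩ : ∃ (p : ℕ) (n : ℕ+), p.Prime ∧ Fintype.card F = p ^ (n : ℕ) := by
    obtain ⟨p, -, n, hp, hpn⟩ := FiniteField.card' F
    exact ⟨p, n, hp, hpn⟩
  have hp2 : p ≠ 2 := by
    rintro rfl
    rw [hpn] at hodd
    exact (Nat.not_odd_iff_even.2 (Nat.even_pow.2 ⟨even_two, n.ne_zero⟩)) hodd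
  rcases card_centralizer_tr_zero hodd hA with ⟨-, h⟩ | ⟨-, h⟩
  · rw [hk] at h
    have h3 : Fintype.card F = 2 ^ k + 1 := by
      have : 0 < Fintype.card F := Fintype.card_pos
      omega
    rw [hpn] at h3 ⊢
    rcases pow_eq_two_pow_add_one hp hp2 n.ne_zero h3 with h4 | h4
    · right
      refine ⟨?_, k, Or.inl h3⟩
      rw [h4, pow_one]; exact hp
    · left; exact h4
  · rw [hk] at h
    rw [hpn] at h ⊢
    have h4 := pow_add_one_eq_two_pow hp hp2 n.ne_zero h.symm
    right
    refine ⟨?_, k, Or.inr ?_⟩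
    · rw [h4, pow_one]; exact hp
    · omega

/-- under the condition on `q`, centralizers of elements of trace zero in `SL(2,q)` are 2-groups -/
theorem isPGroup_centralizer (hodd : Odd (Fintype.card F)) (hq : QCond (Fintype.card F))
    {A : SpecialLinearGroup (Fin 2) F} (hA : tr A = 0) :
    IsPGroup 2 (centralizer ({A} : Set (SpecialLinearGroup (Fin 2) F))) := by
  haveI : Fact (Nat.Prime 2) := ⟨Nat.prime_two⟩
  rcases card_centralizer_tr_zero hodd hA with ⟨h4, h⟩ | ⟨h4, h⟩
  · rcases hq with hq | ⟨hp, k, hq | hq⟩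
    · apply IsPGroup.of_card (n := 3)
      rw [h, hq]; norm_num
    · apply IsPGroup.of_card (n := k)
      rw [h, hq]; rfl
    · exfalso
      have hk : 2 ≤ k := by
        by_contra hcon
        have h5 : 2 ^ k ≤ 2 ^ 1 := Nat.pow_le_pow_right (by norm_num) (by omega)
        have := hp.two_le
        omega
      obtain ⟨l, rfl⟩ : ∃ l, k = l + 2 := ⟨k - 2, by omega⟩
      rw [pow_add] at hq
      have : 0 < 2 ^ l := by positivity
      omega
  · rcases hq with hq | ⟨hp, k, hq | hq⟩
    · omega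
    · have hk : k = 1 := by
        by_contra hk1
        rcases Nat.lt_or_ge k 2 with hk2 | hk2
        · have : k = 0 := by omega
          rw [this] at hq
          omega
        · obtain ⟨l, rfl⟩ : ∃ l, k = l + 2 := ⟨k - 2, by omega⟩
          rw [pow_add] at hq
          omega
      apply IsPGroup.of_card (n := 2)
      rw [h, hq, hk]; rfl
    · apply IsPGroup.of_card (n := k)
      rw [h, hq]
      have := hp.two_le
      omega

/-! ### the unipotent case -/

/-- `1 + y (A - 1)` -/
def uni (A : SpecialLinearGroup (Fin 2) F) (hA : tr A = 2) (y : F) : SpecialLinearGroup (Fin 2) F :=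
  mk4 (1 + y * (A 0 0 - 1)) (y * A 0 1) (y * A 1 0) (1 + y * (A 1 1 - 1)) (by
    have hd := det_eq A
    simp only [tr] at hA
    linear_combination (y - y ^ 2) * hA + y ^ 2 * hd)

theorem uni_mul (A : SpecialLinearGroup (Fin 2) F) (hA : tr A = 2) (y w : F) :
    uni A hA y * uni A hA w = uni A hA (y + w) := by
  have hd := det_eq A
  have hA' := hA
  simp only [tr] at hA'
  apply sl2_ext
  · rw [mul_00]
    simp only [uni, mk4_00, mk4_01, mk4_10]
    linear_combination (y * w * (A 0 0)) * hA' - y * w * hd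
  · rw [mul_01]
    simp only [uni, mk4_00, mk4_01, mk4_11]
    linear_combination (y * w * (A 0 1)) * hA'
  · rw [mul_10]
    simp only [uni, mk4_00, mk4_10, mk4_11]
    linear_combination (y * w * (A 1 0)) * hA'
  · rw [mul_11]
    simp only [uni, mk4_11, mk4_01, mk4_10]
    linear_combination (y * w * (A 1 1)) * hA' - y * w * hd

theorem uni_one (A : SpecialLinearGroup (Fin 2) F) (hA : tr A = 2) : uni A hA 1 = A := by
  apply sl2_ext
  · simp only [uni, mk4_00]; ring
  · simp only [uni, mk4_01]; ring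
  · simp only [uni, mk4_10]; ring
  · simp only [uni, mk4_11]; ring

theorem uni_zero (A : SpecialLinearGroup (Fin 2) F) (hA : tr A = 2) : uni A hA 0 = 1 := by
  apply sl2_ext
  · simp [uni]
  · simp [uni]
  · simp [uni]
  · simp [uni]

/-- the homomorphism `y ↦ 1 + y (A - 1)` into `PSL₂` -/
def uniHom (A : SpecialLinearGroup (Fin 2) F) (hA : tr A = 2) :
    Multiplicative F →* ProjectiveSpecialLinearGroup (Fin 2) F where
  toFun y := QuotientGroup.mk (uni A hA y.toAdd)
  map_one' := by
    rw [toAdd_one, uni_zero]; rfl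
  map_mul' y w := by
    rw [toAdd_mul, ← uni_mul]; rfl

theorem comm_uni {A B : SpecialLinearGroup (Fin 2) F} (hA : tr A = 2) (hA1 : A ≠ 1)
    (hBA : B * A = A * B) : ∃ y : F, B = uni A hA y ∨ B = -uni A hA y := by
  have hd := det_eq A
  have hdB := det_eq B
  have hA' := hA
  simp only [tr] at hA'
  have e00 := congrArg (fun M : SpecialLinearGroup (Fin 2) F => M 0 0) hBA
  have e01 := congrArg (fun M : SpecialLinearGroup (Fin 2) F => M 0 1) hBA
  have e10 := congrArg (fun M : SpecialLinearGroup (Fin 2) F => M 1 0) hBA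
  simp only [mul_00, mul_01, mul_10] at e00 e01 e10
  have key : ∀ x y : F, B 0 0 = x * (1 + y * (A 0 0 - 1)) → B 0 1 = x * (y * A 0 1) → B 1 0 = x * (y * A 1 0) →
      B 1 1 = x * (1 + y * (A 1 1 - 1)) → (x = 1 ∨ x = -1) → B = uni A hA y ∨ B = -uni A hA y := by
    intro x y h1 h2 h3 h4 hx
    rcases hx with rfl | rfl
    · left
      apply sl2_ext
      · simp only [uni, mk4_00]; rw [h1]; ring
      · simp only [uni, mk4_01]; rw [h2]; ring
      · simp only [uni, mk4_10]; rw [h3]; ring
      · simp only [uni, mk4_11]; rw [h4]; ring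
    · right
      apply sl2_ext
      · rw [neg_00]; simp only [uni, mk4_00]; rw [h1]; ring
      · rw [neg_01]; simp only [uni, mk4_01]; rw [h2]; ring
      · rw [neg_10]; simp only [uni, mk4_10]; rw [h3]; ring
      · rw [neg_11]; simp only [uni, mk4_11]; rw [h4]; ring
  -- `B = p + c (A - 1)`, `p = ± 1`
  obtain ⟨p, c, h00, h01, h10, h11⟩ : ∃ p c : F, B 0 0 = p + c * (A 0 0 - 1) ∧ B 0 1 = c * A 0 1 ∧
      B 1 0 = c * A 1 0 ∧ B 1 1 = p + c * (A 1 1 - 1) := by
    by_cases hb : A 0 1 = 0
    · by_cases hc : A 1 0 = 0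
      · exfalso
        apply hA1
        have h1 : A 0 0 = 1 := by
          have : (A 0 0 - 1) ^ 2 = 0 := by
            rw [hb] at hd
            linear_combination (A 0 0) * hA' - hd
          have := pow_eq_zero_iff (two_ne_zero) |>.mp this
          linear_combination this
        apply sl2_ext
        · rw [h1, one_00]
        · rw [hb, one_01]
        · rw [hc, one_10]
        · rw [one_11]; linear_combination hA' - h1
      · refine ⟨B 0 0 - B 1 0 / A 1 0 * (A 0 0 - 1), B 1 0 / A 1 0, ?_, ?_, ?_, ?_⟩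
        · ring
        · field_simp
          linear_combination e00
        · field_simp
        · field_simp
          linear_combination e10
    · refine ⟨B 0 0 - B 0 1 / A 0 1 * (A 0 0 - 1), B 0 1 / A 0 1, ?_, ?_, ?_, ?_⟩
      · ring
      · field_simp
      · field_simp
        linear_combination -e00
      · field_simp
        linear_combination -e01
  have hp : (p - 1) * (p + 1) = 0 := by
    rw [h00, h01, h10, h11] at hdB
    linear_combination hdB - (p * c - c ^ 2) * hA' - c ^ 2 * hd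
  rcases mul_eq_zero.1 hp with h | h
  · have hp1 : p = 1 := by linear_combination h
    refine ⟨c, key 1 c ?_ ?_ ?_ ?_ (Or.inl rfl)⟩
    · rw [h00, hp1]; ring
    · rw [h01]; ring
    · rw [h10]; ring
    · rw [h11, hp1]; ring
  · have hp1 : p = -1 := by linear_combination h
    refine ⟨-c, key (-1) (-c) ?_ ?_ ?_ ?_ (Or.inr rfl)⟩
    · rw [h00, hp1]; ring
    · rw [h01]; ring
    · rw [h10]; ring
    · rw [h11, hp1]; ring

/-- the preimage property of centralizers in `PSL₂` -/
theorem comm_or_neg {A B : SpecialLinearGroup (Fin 2) F}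
    (h : (QuotientGroup.mk B : ProjectiveSpecialLinearGroup (Fin 2) F) * QuotientGroup.mk A =
      QuotientGroup.mk A * QuotientGroup.mk B) : B * A = A * B ∨ B * A = -(A * B) := by
  have h1 : (QuotientGroup.mk (B * A) : ProjectiveSpecialLinearGroup (Fin 2) F) = QuotientGroup.mk (A * B) := h
  rwa [psl2_mk_eq_iff] at h1

theorem comm_of_tr_ne (h2 : (2 : F) ≠ 0) {A B : SpecialLinearGroup (Fin 2) F} (hA : tr A ≠ 0)
    (h : B * A = A * B ∨ B * A = -(A * B)) : B * A = A * B := by
  rcases h with h | h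
  · exact h
  · exfalso
    have h1 : B * A * B⁻¹ = -A := by
      rw [h, neg_mul, mul_assoc, mul_inv_cancel, mul_one]
    have h3 := tr_conj A B
    rw [h1, tr_neg] at h3
    apply hA
    have : 2 * tr A = 0 := by linear_combination -h3
    rcases mul_eq_zero.1 this with h4 | h4
    · exact absurd h4 h2
    · exact h4

/-- a subgroup contained in a cyclic group is cyclic -/
theorem isCyclic_of_le {G : Type*} [Group G] {H K : Subgroup G} (hHK : H ≤ K) (hK : IsCyclic K) : IsCyclic H := by
  haveI := hK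
  exact isCyclic_of_injective (Subgroup.inclusion hHK) (Subgroup.inclusion_injective hHK)

theorem psl_unip_case (hq : QCond (Fintype.card F)) (H : Subgroup (ProjectiveSpecialLinearGroup (Fin 2) F))
    (hH : ¬ IsCyclic H) {A : SpecialLinearGroup (Fin 2) F} (hA : tr A = 2) (hA1 : A ≠ 1)
    (hc : ∀ B : SpecialLinearGroup (Fin 2) F, (QuotientGroup.mk B : ProjectiveSpecialLinearGroup (Fin 2) F) ∈ H →
      B * A = A * B) : (QuotientGroup.mk A : ProjectiveSpecialLinearGroup (Fin 2) F) ∈ H := by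
  classical
  have hle : H ≤ (uniHom A hA).range := by
    intro h hh
    obtain ⟨B, rfl⟩ := QuotientGroup.mk_surjective h
    obtain ⟨y, hy | hy⟩ := comm_uni hA hA1 (hc B hh)
    · exact ⟨Multiplicative.ofAdd y, by rw [hy]; rfl⟩
    · refine ⟨Multiplicative.ofAdd y, ?_⟩
      show QuotientGroup.mk (uni A hA y) = _
      rw [psl2_mk_eq_iff, hy, neg_neg]
      right; rfl
  have hR : Nat.card (uniHom A hA).range ∣ Fintype.card F := by
    have h1 := Subgroup.card_range_dvd (uniHom A hA)
    have h2 : Nat.card (Multiplicative F) = Fintype.card F := by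
      rw [← Nat.card_eq_fintype_card (α := F)]
      exact Nat.card_congr Multiplicative.toAdd
    rwa [h2] at h1
  have hHR : Nat.card H ∣ Nat.card (uniHom A hA).range := Subgroup.card_dvd_of_le hle
  have hAR : (QuotientGroup.mk A : ProjectiveSpecialLinearGroup (Fin 2) F) ∈ (uniHom A hA).range := by
    refine ⟨Multiplicative.ofAdd 1, ?_⟩
    show QuotientGroup.mk (uni A hA 1) = _
    rw [uni_one]
  rcases hq with hq | ⟨hp, -⟩
  · rw [hq] at hR
    have h9 : Nat.card H ∣ 3 ^ 2 := hHR.trans hR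
    obtain ⟨j, hj, hj'⟩ := (Nat.dvd_prime_pow Nat.prime_three).1 h9
    haveI := Fact.mk Nat.prime_three
    have hj2 : j = 2 := by
      by_contra hne
      apply hH
      have : j = 0 ∨ j = 1 := by omega
      rcases this with rfl | rfl
      · rw [pow_zero] at hj'
        haveI := (Nat.card_eq_one_iff_unique.1 hj').1
        exact isCyclic_of_subsingleton
      · rw [pow_one] at hj'
        exact isCyclic_of_prime_card hj'
    rw [hj2] at hj'
    have : H = (uniHom A hA).range := by
      haveI : Finite (uniHom A hA).range := Nat.finite_of_card_ne_zero (by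
        intro h0
        rw [h0] at hR
        simp at hR)
      apply Subgroup.eq_of_le_of_card_ge hle
      rw [hj']
      exact Nat.le_of_dvd (by norm_num) hR
    rw [this]; exact hAR
  · exfalso
    apply hH
    rcases (Nat.dvd_prime hp).1 (hHR.trans hR) with h | h
    · haveI := (Nat.card_eq_one_iff_unique.1 h).1
      exact isCyclic_of_subsingleton
    · haveI := Fact.mk hp
      exact isCyclic_of_prime_card h

theorem psl_tr_zero_case (hodd : Odd (Fintype.card F)) (hq : QCond (Fintype.card F))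
    (H : Subgroup (ProjectiveSpecialLinearGroup (Fin 2) F))
    (hH : ¬ IsCyclic H) {A : SpecialLinearGroup (Fin 2) F} (hA : tr A = 0)
    (hc : ∀ B : SpecialLinearGroup (Fin 2) F, (QuotientGroup.mk B : ProjectiveSpecialLinearGroup (Fin 2) F) ∈ H →
      B * A = A * B ∨ B * A = -(A * B)) : (QuotientGroup.mk A : ProjectiveSpecialLinearGroup (Fin 2) F) ∈ H := by
  have h2 := two_ne_zero_odd hodd
  haveI : Fact (Nat.Prime 2) := ⟨Nat.prime_two⟩
  have hT := isPGroup_centralizer hodd hq hA
  by_cases hex : ∃ B : SpecialLinearGroup (Fin 2) F, (QuotientGroup.mk B : ProjectiveSpecialLinearGroup (Fin 2) F) ∈ H ∧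
      (QuotientGroup.mk B : ProjectiveSpecialLinearGroup (Fin 2) F) ≠ 1 ∧ B * A = A * B
  · obtain ⟨B, hBH, hB1, hBA⟩ := hex
    rw [Ne, psl2_mk_eq_one_iff, not_or] at hB1
    obtain ⟨j, hj⟩ := hT.exists_orderOf_eq_pow ⟨B, mem_centralizer_singleton_iff.2 hBA⟩
    rw [Subgroup.orderOf_mk] at hj
    have hj2 : 2 ≤ j := by
      by_contra hcon
      have h1 : B * B = 1 := by
        rw [← pow_two, ← orderOf_dvd_iff_pow_eq_one, hj]
        calc 2 ^ j ∣ 2 ^ 1 := pow_dvd_pow 2 (by omega)
          _ = 2 := pow_one 2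
      rcases eq_one_or_neg_one h2 h1 with h | h
      · exact hB1.1 h
      · exact hB1.2 h
    obtain ⟨l, rfl⟩ : ∃ l, j = l + 2 := ⟨j - 2, by omega⟩
    set B' := B ^ 2 ^ l with hB'
    have hoB' : orderOf B' = 4 := by
      rw [hB', orderOf_pow_of_dvd (by positivity) (by rw [hj]; exact pow_dvd_pow 2 (by omega)), hj, pow_add,
        Nat.mul_div_cancel_left _ (by positivity)]
      norm_num
    have hsq : (B' * B') * (B' * B') = 1 := by
      have := pow_orderOf_eq_one B'
      rw [hoB'] at this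
      rw [← this, show 4 = 2 + 2 from rfl, pow_add, pow_two]
    have hBB : B' * B' = -1 := by
      rcases eq_one_or_neg_one h2 hsq with h | h
      · exfalso
        have h3 : B' ^ 2 = 1 := by rw [pow_two]; exact h
        have h4 := orderOf_dvd_of_pow_eq_one h3
        rw [hoB'] at h4
        exact absurd h4 (by norm_num)
      · exact h
    have htr : tr B' = 0 := tr_eq_zero hBB
    have hcomm : B' * A = A * B' := ((show Commute B A from hBA).pow_left _).eq
    have hmem : (QuotientGroup.mk B' : ProjectiveSpecialLinearGroup (Fin 2) F) ∈ H := by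
      have : (QuotientGroup.mk B' : ProjectiveSpecialLinearGroup (Fin 2) F) = (QuotientGroup.mk B) ^ 2 ^ l := rfl
      rw [this]; exact pow_mem hBH _
    rcases eq_or_inv_of_commute h2 (sq_ne_four h2 hA) hcomm (htr.trans hA.symm) with h | h
    · rw [← h]; exact hmem
    · have h3 : (QuotientGroup.mk A : ProjectiveSpecialLinearGroup (Fin 2) F) = (QuotientGroup.mk B')⁻¹ := by
        rw [h]
        show _ = (QuotientGroup.mk A⁻¹⁻¹ : ProjectiveSpecialLinearGroup (Fin 2) F)
        rw [inv_inv]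
      rw [h3]; exact inv_mem hmem
  · exfalso
    push Not at hex
    apply hH
    -- nontrivial elements of `H` anticommute with `A`
    have hanti : ∀ B : SpecialLinearGroup (Fin 2) F, (QuotientGroup.mk B : ProjectiveSpecialLinearGroup (Fin 2) F) ∈ H →
        (QuotientGroup.mk B : ProjectiveSpecialLinearGroup (Fin 2) F) ≠ 1 → B * A = -(A * B) := by
      intro B hB hB1
      rcases hc B hB with h | h
      · exact absurd h (hex B hB hB1)
      · exact h
    have hprod : ∀ h₁ ∈ H, ∀ h₂ ∈ H, h₁ ≠ 1 → h₂ ≠ 1 → h₁ * h₂ = 1 := by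
      intro h₁ hh₁ h₂ hh₂ hn₁ hn₂
      obtain ⟨B₁, rfl⟩ := QuotientGroup.mk_surjective h₁
      obtain ⟨B₂, rfl⟩ := QuotientGroup.mk_surjective h₂
      by_contra hne
      apply hex (B₁ * B₂) (mul_mem hh₁ hh₂) hne
      rw [mul_assoc, hanti B₂ hh₂ hn₂, mul_neg, ← mul_assoc, hanti B₁ hh₁ hn₁, neg_mul, neg_neg, mul_assoc]
    by_cases hne : ∃ h₁ ∈ H, h₁ ≠ 1
    · obtain ⟨h₁, hh₁, hn₁⟩ := hne
      refine ⟨⟨h₁, hh₁⟩, ?_⟩
      rintro ⟨x, hx⟩
      by_cases hx1 : x = 1
      · refine ⟨0, ?_⟩
        apply Subtype.ext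
        show h₁ ^ (0 : ℤ) = x
        rw [zpow_zero, hx1]
      · refine ⟨-1, ?_⟩
        apply Subtype.ext
        show h₁ ^ (-1 : ℤ) = x
        rw [_root_.zpow_neg_one, inv_eq_iff_mul_eq_one]
        exact hprod h₁ hh₁ x hx hn₁ hx1
    · push Not at hne
      have : H = ⊥ := by
        rw [eq_bot_iff]
        intro x hx
        rw [mem_bot]; exact hne x hx
      rw [this]
      infer_instance

/-- `PSL(2,q)` has self-centralizing noncyclic subgroups. -/
theorem sc_psl {F : Type} [Field F] [Fintype F] (hodd : Odd (Fintype.card F)) (hq : QCond (Fintype.card F)) :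
    SC (ProjectiveSpecialLinearGroup (Fin 2) F) := by
  have h2 := two_ne_zero_odd hodd
  intro H hH x hx
  obtain ⟨A, rfl⟩ := QuotientGroup.mk_surjective x
  have hc : ∀ B : SpecialLinearGroup (Fin 2) F, (QuotientGroup.mk B : ProjectiveSpecialLinearGroup (Fin 2) F) ∈ H →
      B * A = A * B ∨ B * A = -(A * B) := by
    intro B hB
    exact comm_or_neg (mem_centralizer_iff.1 hx _ hB)
  by_cases hA0 : tr A = 0
  · exact psl_tr_zero_case hodd hq H hH hA0 hc
  have hc' : ∀ B : SpecialLinearGroup (Fin 2) F, (QuotientGroup.mk B : ProjectiveSpecialLinearGroup (Fin 2) F) ∈ H →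
      B * A = A * B := fun B hB => comm_of_tr_ne h2 hA0 (hc B hB)
  by_cases hA4 : tr A ^ 2 = 4
  · by_cases hA1 : A = 1
    · rw [hA1]; exact H.one_mem
    by_cases hA1' : -A = 1
    · have : (QuotientGroup.mk A : ProjectiveSpecialLinearGroup (Fin 2) F) = 1 := by
        rw [psl2_mk_eq_one_iff]
        right
        rw [← hA1', neg_neg]
      rw [this]; exact H.one_mem
    have h4 : (tr A - 2) * (tr A + 2) = 0 := by linear_combination hA4
    rcases mul_eq_zero.1 h4 with h | h
    · exact psl_unip_case hq H hH (by linear_combination h) hA1 hc'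
    · have h5 : (QuotientGroup.mk A : ProjectiveSpecialLinearGroup (Fin 2) F) = QuotientGroup.mk (-A) := by
        rw [psl2_mk_eq_iff]
        right
        rw [neg_neg]
      rw [h5]
      refine psl_unip_case hq H hH (A := -A) (by rw [tr_neg]; linear_combination -h) hA1' ?_
      intro B hB
      rw [mul_neg, neg_mul, hc' B hB]
  · exfalso
    apply hH
    have hcyc : IsCyclic (centralizer ({A} : Set (SpecialLinearGroup (Fin 2) F))) := by
      by_cases hn : NoEig (tr A)
      · exact (centralizer_of_noEig A hn).1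
      · rw [NoEig] at hn
        push Not at hn
        obtain ⟨a, ha⟩ := hn
        exact (centralizer_of_eig A hA4 a ha).1
    set φ := (QuotientGroup.mk' (Subgroup.center (SpecialLinearGroup (Fin 2) F))) with hφ
    have h3 : IsCyclic ((centralizer ({A} : Set (SpecialLinearGroup (Fin 2) F))).map φ) := by
      haveI := hcyc
      exact isCyclic_of_surjective (φ.subgroupMap (centralizer ({A} : Set (SpecialLinearGroup (Fin 2) F))))
        (φ.subgroupMap_surjective _)
    refine isCyclic_of_le (K := (centralizer ({A} : Set (SpecialLinearGroup (Fin 2) F))).map φ) ?_ h3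
    intro h hh
    obtain ⟨B, rfl⟩ := QuotientGroup.mk_surjective h
    exact ⟨B, mem_centralizer_singleton_iff.2 (hc' B hh), rfl⟩

end Cfsg.Agent.H65
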