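import Cfsg.Agent.H65.RegP
import Cfsg.Agent.BG.PrimeCard

set_option autoImplicit false

/-! `|G : ℧₁(G)| ≤ p²` implies metacyclic, `p` odd -/

namespace Cfsg.Agent.H65

open Subgroup
open scoped commutatorElement

universe u

theorem isMetacyclic_of_isCyclic {G : Type*} [Group G] (h : IsCyclic G) : Cfsg.IsMetacyclic G := by
  refine ⟨⊤, inferInstance, ?_, ?_⟩
  · exact isCyclic_of_surjective (topEquiv (G := G)).symm (topEquiv (G := G)).symm.surjective
  · have : Subsingleton (G ⧸ (⊤ : Subgroup G)) := QuotientGroup.subsingleton_quotient_top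
    exact isCyclic_of_subsingleton

theorem isCyclic_of_index_le {G : Type*} [Group G] [Finite G] {p : ℕ} [hpf : Fact p.Prime] (hG : IsPGroup p G)
    (h : (closure {x : G | ∃ y : G, y ^ p = x}).index ≤ p) : IsCyclic G := by
  have h1 : (frattini G).index ≤ p := by
    refine le_trans (Nat.le_of_dvd (Nat.pos_of_ne_zero index_ne_zero_of_finite) (index_dvd_of_le ?_)) h
    rw [closure_le]
    rintro _ ⟨y, rfl⟩
    exact Solv.pow_mem_frattini_of_pGroup hG y
  obtain ⟨n, hn⟩ := hG.index (frattini G)
  have hn1 : n ≤ 1 := by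
    rw [hn] at h1
    exact (Nat.pow_le_pow_iff_right hpf.out.one_lt).1 (h1.trans (pow_one p).ge)
  obtain ⟨⟨T, -, hT, hcl⟩, -⟩ := Solv.burnside_basis hG hn Set.univ (closure_univ)
  have h2 : ∃ g : G, closure ({g} : Set G) = ⊤ := by
    interval_cases n
    · have : T = ∅ := (Set.ncard_eq_zero (Set.toFinite T)).mp hT
      subst this
      refine ⟨1, ?_⟩
      rw [Subgroup.closure_empty] at hcl
      rw [closure_singleton_one, hcl]
    · obtain ⟨g, rfl⟩ := Set.ncard_eq_one.1 hT
      exact ⟨g, hcl⟩
  obtain ⟨g, hg⟩ := h2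
  rw [← zpowers_eq_closure] at hg
  refine ⟨g, fun x => ?_⟩
  have : x ∈ zpowers g := by rw [hg]; exact mem_top x
  exact this

/-- the image of the group generated by the `p`-th powers -/
theorem map_closure_pow {G H : Type*} [Group G] [Group H] (f : G →* H) (hf : Function.Surjective f) (m : ℕ) :
    (closure {x : G | ∃ y : G, y ^ m = x}).map f = closure {x : H | ∃ y : H, y ^ m = x} := by
  rw [MonoidHom.map_closure]
  congr 1
  ext x
  constructor
  · rintro ⟨_, ⟨y, rfl⟩, rfl⟩
    exact ⟨f y, by rw [map_pow]⟩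
  · rintro ⟨y, rfl⟩
    obtain ⟨y, rfl⟩ := hf y
    exact ⟨y ^ m, ⟨y, rfl⟩, map_pow f y m⟩

theorem index_map_closure_pow_le {G H : Type*} [Group G] [Group H] [Finite G] (f : G →* H) (hf : Function.Surjective f) (m : ℕ) :
    (closure {x : H | ∃ y : H, y ^ m = x}).index ≤ (closure {x : G | ∃ y : G, y ^ m = x}).index := by
  rw [← map_closure_pow f hf]
  apply Nat.le_of_dvd (Nat.pos_of_ne_zero index_ne_zero_of_finite)
  exact index_map_dvd _ hf

/-- base case: class at most two with derived subgroup of exponent `p` -/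
theorem isMetacyclic_of_class_two {G : Type u} [Group G] [Finite G] {p : ℕ} [hpf : Fact p.Prime] (hp2 : p ≠ 2)
    (hG : IsPGroup p G) (hcent : ∀ c ∈ commutator G, ∀ g : G, c * g = g * c) (hexp : ∀ c ∈ commutator G, c ^ p = 1)
    (h : (closure {x : G | ∃ y : G, y ^ p = x}).index ≤ p ^ 2) : Cfsg.IsMetacyclic G := by
  classical
  have hp : p.Prime := hpf.out
  set U := closure {x : G | ∃ y : G, y ^ p = x} with hU
  have hUn : U.Normal := normal_closure_pow _
  have hmul : ∀ x y : G, (x * y) ^ p = x ^ p * y ^ p := by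
    intro x y
    have hc : ⁅y⁻¹, x⁻¹⁆ ∈ commutator G := commutator_mem_commutator (mem_top _) (mem_top _)
    refine OddP.mul_pow_p_class2 hp hp2 (z := ⁅y⁻¹, x⁻¹⁆) ?_ (hcent _ hc x) (hcent _ hc y) (hexp _ hc)
    simp only [commutatorElement_def]; group
  have hUpow : ∀ u ∈ U, ∃ y : G, y ^ p = u := by
    intro u hu
    induction hu using closure_induction with
    | mem x hx => exact hx
    | one => exact ⟨1, one_pow _⟩
    | mul a b _ _ ha hb =>
      obtain ⟨a', rfl⟩ := ha
      obtain ⟨b', rfl⟩ := hb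
      exact ⟨a' * b', hmul _ _⟩
    | inv a _ ha =>
      obtain ⟨a', rfl⟩ := ha
      exact ⟨a'⁻¹, inv_pow _ _⟩
  have hfr : (frattini G).index ≤ p ^ 2 := by
    refine le_trans (Nat.le_of_dvd (Nat.pos_of_ne_zero index_ne_zero_of_finite) (index_dvd_of_le ?_)) h
    rw [hU, closure_le]
    rintro _ ⟨y, rfl⟩
    exact Solv.pow_mem_frattini_of_pGroup hG y
  obtain ⟨x, y, hxy⟩ := BG.exists_two_gen hG hfr
  set c := ⁅x, y⁆ with hc
  have hcm : c ∈ commutator G := commutator_mem_commutator (mem_top _) (mem_top _)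
  -- the derived subgroup is generated by c
  have hder : commutator G ≤ zpowers c := by
    have hn : (zpowers c).Normal := Solv.normal_of_le_center (zpowers_le.2 (mem_center_iff.2 fun g => (hcent c hcm g).symm))
    have hcomm : ∀ a b : G ⧸ zpowers c, a * b = b * a := by
      have hcl : closure ({(x : G ⧸ zpowers c), (y : G ⧸ zpowers c)} : Set (G ⧸ zpowers c)) = ⊤ := by
        have := congrArg (Subgroup.map (QuotientGroup.mk' (zpowers c))) hxy
        rw [MonoidHom.map_closure, Set.image_pair, map_top_of_surjective _ (QuotientGroup.mk'_surjective _)] at this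
        exact this
      have hxyc : (x : G ⧸ zpowers c) * y = y * x := by
        have h1 : ((c : G) : G ⧸ zpowers c) = 1 := (QuotientGroup.eq_one_iff _).2 (mem_zpowers c)
        have h2 : (x : G ⧸ zpowers c) * y * (x : G ⧸ zpowers c)⁻¹ * (y : G ⧸ zpowers c)⁻¹ = 1 := h1
        rwa [mul_inv_eq_one, mul_inv_eq_iff_eq_mul] at h2
      have hcentral : ∀ s ∈ ({(x : G ⧸ zpowers c), (y : G ⧸ zpowers c)} : Set (G ⧸ zpowers c)),
          ∀ t ∈ ({(x : G ⧸ zpowers c), (y : G ⧸ zpowers c)} : Set (G ⧸ zpowers c)), s * t = t * s := by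
        rintro s (rfl | rfl) t (rfl | rfl)
        · rfl
        · exact hxyc
        · exact hxyc.symm
        · rfl
      have h3 := isMulCommutative_closure hcentral
      rw [hcl] at h3
      intro a b
      exact congrArg Subtype.val (h3.is_comm.comm ⟨a, mem_top a⟩ ⟨b, mem_top b⟩)
    rw [commutator_def, commutator_le]
    intro a _ b _
    rw [← QuotientGroup.eq_one_iff]
    show ((a : G ⧸ zpowers c)) * b * (a : G ⧸ zpowers c)⁻¹ * (b : G ⧸ zpowers c)⁻¹ = 1
    rw [hcomm a b]; group
  have hcU : c ∈ U := by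
    have h2 : Nat.card (G ⧸ U) ≤ p ^ 2 := h
    obtain ⟨k, hk⟩ := (IsPGroup.iff_card).1 (hG.to_quotient U)
    have h3 : k ≤ 2 := by
      rw [hk] at h2
      exact (Nat.pow_le_pow_iff_right hp.one_lt).1 h2
    have h4 : IsMulCommutative (G ⧸ U) := by
      interval_cases k
      · have := (Nat.card_eq_one_iff_unique.mp (by rw [hk, pow_zero])).1
        exact ⟨⟨fun a b => Subsingleton.elim _ _⟩⟩
      · rw [pow_one] at hk
        exact (isCyclic_of_prime_card hk).isMulCommutative
      · exact IsPGroup.isMulCommutative_of_card_eq_prime_sq hk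
    rw [← QuotientGroup.eq_one_iff]
    show ((x : G ⧸ U)) * y * (x : G ⧸ U)⁻¹ * (y : G ⧸ U)⁻¹ = 1
    rw [h4.is_comm.comm (x : G ⧸ U) y]; group
  obtain ⟨g, hcg, hgmax⟩ := Set.exists_max_image {g : G | c ∈ zpowers g} (fun g => orderOf g) (Set.toFinite _)
    ⟨c, mem_zpowers c⟩
  simp only [Set.mem_setOf_eq] at hcg hgmax
  by_cases hgU : g ∈ U
  · obtain ⟨k, hk⟩ := hUpow g hgU
    have h1 : c ∈ zpowers k := by
      have : zpowers g ≤ zpowers k := by rw [zpowers_le, ← hk]; exact pow_mem (mem_zpowers k) p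
      exact this hcg
    have h2 := hgmax k h1
    have hk1 : k = 1 := by
      by_contra hk1
      obtain ⟨j, hj⟩ := (IsPGroup.iff_orderOf.1 hG) k
      have hj0 : j ≠ 0 := by
        rintro rfl
        rw [pow_zero, orderOf_eq_one_iff] at hj
        exact hk1 hj
      have h3 : orderOf g = p ^ (j - 1) := by
        rw [← hk, orderOf_pow_of_dvd hp.ne_zero (by rw [hj]; exact dvd_pow_self p hj0), hj]
        obtain ⟨j', rfl⟩ : ∃ j', j = j' + 1 := ⟨j - 1, by omega⟩
        rw [pow_succ, Nat.mul_div_cancel _ hp.pos, Nat.add_sub_cancel]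
      rw [h3, hj, Nat.pow_le_pow_iff_right hp.one_lt] at h2
      omega
    have hg1 : g = 1 := by rw [← hk, hk1, one_pow]
    have hc1 : c = 1 := by
      rw [hg1, zpowers_one_eq_bot, mem_bot] at hcg
      exact hcg
    have hsub : Subsingleton G := by
      refine ⟨fun a b => ?_⟩
      have hall : ∀ a : G, a = 1 := by
        intro a
        have h3 := hgmax a (by rw [hc1]; exact one_mem _)
        rw [hg1, orderOf_one] at h3
        have h4 := orderOf_pos a
        exact orderOf_eq_one_iff.1 (by omega)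
      rw [hall a, hall b]
    exact isMetacyclic_of_isCyclic isCyclic_of_subsingleton
  · have hn : (zpowers g).Normal := by
      refine ⟨fun a ha z => ?_⟩
      have h1 : z * a * z⁻¹ * a⁻¹ ∈ zpowers g := by
        have h2 : ⁅z, a⁆ ∈ commutator G := commutator_mem_commutator (mem_top _) (mem_top _)
        have h3 : zpowers c ≤ zpowers g := zpowers_le.2 hcg
        exact h3 (hder h2)
      have h4 := mul_mem h1 ha
      rwa [inv_mul_cancel_right] at h4
    refine ⟨zpowers g, hn, inferInstance, ?_⟩
    apply isCyclic_of_index_le (hG.to_quotient _)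
    rw [← map_closure_pow (QuotientGroup.mk' (zpowers g)) (QuotientGroup.mk'_surjective _), index_map,
      QuotientGroup.ker_mk', MonoidHom.range_eq_top.2 (QuotientGroup.mk'_surjective _), index_top, mul_one, ← hU]
    obtain ⟨i, hi⟩ := hG.index (U ⊔ zpowers g)
    obtain ⟨j, hj⟩ := hG.index U
    have h1 : U < U ⊔ zpowers g := by
      refine lt_of_le_of_ne le_sup_left fun heq => hgU ?_
      rw [heq]
      exact (le_sup_right : zpowers g ≤ U ⊔ zpowers g) (mem_zpowers g)
    have h2 : (U ⊔ zpowers g).index < U.index := index_strictAnti h1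
    rw [hi, hj, Nat.pow_lt_pow_iff_right hp.one_lt] at h2
    rw [hj, Nat.pow_le_pow_iff_right hp.one_lt] at h
    rw [hi]
    calc p ^ i ≤ p ^ 1 := Nat.pow_le_pow_right hp.pos (by omega)
      _ = p := pow_one p

/-- Blackburn's criterion: a finite `p`-group (`p` odd) with `|G : ℧₁(G)| ≤ p²` is metacyclic. -/
theorem isMetacyclic_of_index_le_aux {p : ℕ} [hpf : Fact p.Prime] (hp2 : p ≠ 2) (n : ℕ) :
    ∀ (G : Type u) [Group G] [Finite G], Nat.card G = n → IsPGroup p G →
      (closure {x : G | ∃ y : G, y ^ p = x}).index ≤ p ^ 2 → Cfsg.IsMetacyclic G := by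
  have hp : p.Prime := hpf.out
  induction n using Nat.strong_induction_on with
  | _ n ih =>
    intro G _ _ hn hG h
    set D : Subgroup G := closure {x : G | ∃ c ∈ commutator G, c ^ p = x} ⊔ ⁅commutator G, (⊤ : Subgroup G)⁆ with hD
    by_cases hDb : D = ⊥
    · refine isMetacyclic_of_class_two hp2 hG ?_ ?_ h
      · have h1 : ⁅commutator G, (⊤ : Subgroup G)⁆ = ⊥ := le_bot_iff.1 (hDb ▸ le_sup_right)
        intro c hc g
        rw [commutator_eq_bot_iff_le_centralizer] at h1
        exact (mem_centralizer_iff.1 (h1 hc) g (mem_top g)).symm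
      · intro c hc
        have h1 : c ^ p ∈ D := (le_sup_left : _ ≤ D) (subset_closure ⟨c, hc, rfl⟩)
        rw [hDb, mem_bot] at h1
        exact h1
    · have hDn1 : (closure {x : G | ∃ c ∈ commutator G, c ^ p = x}).Normal := by
        refine ⟨fun n hn g => ?_⟩
        have h1 : closure {x : G | ∃ c ∈ commutator G, c ^ p = x} ≤
            (closure {x : G | ∃ c ∈ commutator G, c ^ p = x}).comap (MulAut.conj g).toMonoidHom := by
          rw [closure_le]
          rintro _ ⟨c, hc, rfl⟩
          refine subset_closure ⟨g * c * g⁻¹, (inferInstance : (commutator G).Normal).conj_mem c hc g, ?_⟩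
          rw [conj_pow]; rfl
        exact h1 hn
      have hDn : D.Normal := inferInstance
      obtain ⟨z, hzD, hzo, hzc⟩ := H23.exists_central_orderOf hG hDn hDb
      have hzn : (zpowers z).Normal := Solv.normal_of_le_center (zpowers_le.2 hzc)
      set π := QuotientGroup.mk' (zpowers z) with hπ
      have hlt : Nat.card (G ⧸ zpowers z) < n := by
        have h1 := (zpowers z).card_mul_index
        rw [Nat.card_zpowers, hzo, hn] at h1
        have h2 : 0 < (zpowers z).index := Nat.pos_of_ne_zero index_ne_zero_of_finite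
        show (zpowers z).index < n
        nlinarith [hp.two_le]
      have hmc := ih _ hlt (G ⧸ zpowers z) rfl (hG.to_quotient _)
        ((index_map_closure_pow_le π (QuotientGroup.mk'_surjective _) p).trans h)
      obtain ⟨A', hA'n, hA'c, hQ⟩ := hmc
      set A : Subgroup G := A'.comap π with hA
      have hAn : A.Normal := inferInstance
      have hzA : z ∈ A := by
        rw [hA, mem_comap, hπ, QuotientGroup.mk'_apply, (QuotientGroup.eq_one_iff z).2 (mem_zpowers z)]
        exact one_mem _
      have hQA : IsCyclic (G ⧸ A) := by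
        let e : G ⧸ A →* (G ⧸ zpowers z) ⧸ A' := QuotientGroup.map A A' π le_rfl
        refine isCyclic_of_injective e ?_
        rw [injective_iff_map_eq_one]
        intro q hq
        obtain ⟨g, rfl⟩ := QuotientGroup.mk_surjective q
        rw [QuotientGroup.map_mk, QuotientGroup.eq_one_iff] at hq
        exact (QuotientGroup.eq_one_iff _).2 hq
      -- a generator of A modulo z
      obtain ⟨⟨a', ha'A⟩, ha'⟩ := hA'c.exists_generator
      obtain ⟨a, rfl⟩ := QuotientGroup.mk'_surjective _ a'
      have haA : a ∈ A := ha'A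
      have hAgen : ∀ u ∈ A, ∃ i j : ℤ, u = a ^ i * z ^ j := by
        intro u hu
        obtain ⟨i, hi⟩ := mem_zpowers_iff.1 (ha' ⟨π u, hu⟩)
        have h1 : π a ^ i = π u := congrArg Subtype.val hi
        have h2 : (a ^ i)⁻¹ * u ∈ zpowers z := by
          rw [← QuotientGroup.eq]
          show π (a ^ i) = π u
          rw [map_zpow, h1]
        obtain ⟨j, hj⟩ := mem_zpowers_iff.1 h2
        exact ⟨i, j, by rw [hj]; group⟩
      have hzcomm : ∀ g : G, Commute z g := fun g => (mem_center_iff.1 hzc g).symm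
      have hAc : IsMulCommutative A := by
        refine ⟨⟨?_⟩⟩
        rintro ⟨u, hu⟩ ⟨v, hv⟩
        obtain ⟨i, j, rfl⟩ := hAgen u hu
        obtain ⟨k, l, rfl⟩ := hAgen v hv
        apply Subtype.ext
        show a ^ i * z ^ j * (a ^ k * z ^ l) = a ^ k * z ^ l * (a ^ i * z ^ j)
        have h1 : Commute (a ^ i) (a ^ k) := (Commute.refl a).zpow_zpow i k
        have h2 : ∀ (m : ℤ) (g : G), Commute (z ^ m) g := fun m g => (hzcomm g).zpow_left m
        exact ((h1.mul_right (h2 l _).symm).mul_left (h2 j _)).eq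
      obtain ⟨b, hb⟩ := H64.exists_generator_mod hQA
      obtain ⟨h66a, h66b, h66c, -⟩ := S3866.result A hAc b hb
      -- the derived subgroup is cyclic
      set g := b * a * b⁻¹ * a⁻¹ with hg
      have hgm : g ∈ commutator G := h66a a haA
      have hder : commutator G ≤ zpowers g := by
        let f : A →* G := MonoidHom.mk' (fun u => b * u * b⁻¹ * (u : G)⁻¹) (fun u v => h66c u u.2 v v.2)
        intro c hc
        obtain ⟨u, hu, rfl⟩ := h66b c hc
        obtain ⟨i, j, rfl⟩ := hAgen u hu
        have h1 : f ⟨a, haA⟩ = g := rfl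
        have h2 : f ⟨z, hzA⟩ = 1 := by
          show b * z * b⁻¹ * z⁻¹ = 1
          rw [← (hzcomm b).eq]; group
        have h3 : f (⟨a, haA⟩ ^ i * ⟨z, hzA⟩ ^ j) = g ^ i := by
          rw [map_mul, map_zpow, map_zpow, h1, h2, one_zpow, mul_one]
        have h4 : b * (a ^ i * z ^ j) * b⁻¹ * (a ^ i * z ^ j)⁻¹ = g ^ i := h3
        rw [h4]
        exact zpow_mem (mem_zpowers g) i
      have hcomm_eq : commutator G = zpowers g := le_antisymm hder (zpowers_le.2 hgm)
      have hcc : IsCyclic (commutator G) := by rw [hcomm_eq]; infer_instance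
      have hgpn : (zpowers (g ^ p)).Normal := zpowers_normal_of_cyclic hcc (pow_mem hgm p)
      have hDle : D ≤ zpowers (g ^ p) := by
        apply sup_le
        · rw [closure_le]
          rintro _ ⟨c, hc, rfl⟩
          obtain ⟨k, rfl⟩ := mem_zpowers_iff.1 (hder hc)
          refine mem_zpowers_iff.2 ⟨k, ?_⟩
          rw [← zpow_natCast, ← zpow_natCast, ← zpow_mul, ← zpow_mul, mul_comm]
        · rw [commutator_le]
          intro c hc x _
          obtain ⟨k, rfl⟩ := mem_zpowers_iff.1 (hder hc)
          have h1 := commutator_mem_zpowers_pow hG hcc (zpow_mem hgm k) x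
          have h2 : zpowers ((g ^ k) ^ p) ≤ zpowers (g ^ p) := by
            rw [zpowers_le]
            refine mem_zpowers_iff.2 ⟨k, ?_⟩
            rw [← zpow_natCast, ← zpow_natCast, ← zpow_mul, ← zpow_mul, mul_comm]
          have h3 : ⁅g ^ k, x⁆ = (x * g ^ k * x⁻¹ * (g ^ k)⁻¹)⁻¹ := by
            simp only [commutatorElement_def]; group
          rw [h3]
          exact inv_mem (h2 h1)
      obtain ⟨k, hk⟩ := mem_zpowers_iff.1 (hDle hzD)
      have hgA : g ∈ A := by
        have h1 := mul_mem (hAn.conj_mem a haA b) (inv_mem haA)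
        exact h1
      obtain ⟨i, j, hij⟩ := hAgen (g ^ k) (zpow_mem hgA k)
      have hza : z ∈ zpowers a := by
        have h1 : (g ^ k) ^ p = z := by
          rw [← hk, ← zpow_natCast, ← zpow_natCast, ← zpow_mul, ← zpow_mul, mul_comm]
        rw [hij, ((hzcomm (a ^ i)).zpow_left j).symm.mul_pow] at h1
        have h2 : (z ^ j) ^ p = 1 := by
          rw [← zpow_natCast, ← zpow_mul, mul_comm, zpow_mul, zpow_natCast, ← hzo, pow_orderOf_eq_one, one_zpow]
        rw [h2, mul_one] at h1
        rw [← h1]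
        exact pow_mem (zpow_mem (mem_zpowers a) i) p
      have hAa : A = zpowers a := by
        apply le_antisymm
        · intro u hu
          obtain ⟨i, j, rfl⟩ := hAgen u hu
          exact mul_mem (zpow_mem (mem_zpowers a) i) (zpow_mem hza j)
        · rw [zpowers_le]; exact haA
      exact ⟨A, hAn, by rw [hAa]; infer_instance, hQA⟩

theorem isMetacyclic_of_index_le {p : ℕ} [hpf : Fact p.Prime] (hp2 : p ≠ 2) {G : Type u} [Group G] [Finite G]
    (hG : IsPGroup p G) (h : (closure {x : G | ∃ y : G, y ^ p = x}).index ≤ p ^ 2) : Cfsg.IsMetacyclic G :=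
  isMetacyclic_of_index_le_aux hp2 _ G rfl hG h

end Cfsg.Agent.H65
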