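import Mathlib
import Cfsg.Agent.SigF.Coprime
import Cfsg.Agent.H1.SylowNumbers

/-!
# Sylow numbers: multiplicativity
-/

set_option autoImplicit false

namespace Cfsg.Agent.H65.SylowNum

open Subgroup Cfsg.Agent.SigF

variable {G : Type*} [Group G]

theorem relIndex_ne_zero_fin [Finite G] (H L : Subgroup G) : H.relIndex L ≠ 0 := by
  rw [relIndex]
  exact Subgroup.index_ne_zero_of_finite

/-- `n_p(M) = |M : N_G(P) ∩ M|` for `P ≤ M`. -/
theorem card_sylow_subgroup [Finite G] {p : ℕ} [Fact p.Prime] (P : Sylow p G) {M : Subgroup G}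
    (hPM : (P : Subgroup G) ≤ M) :
    Nat.card (Sylow p M) = (normalizer ((P : Subgroup G) : Set G)).relIndex M := by
  rw [(P.subtype hPM).card_eq_index_normalizer]
  have h2 := Subgroup.subgroupOf_normalizer_eq hPM
  rw [relIndex, h2]
  rfl

/-- All Sylow subgroups are in the normal subgroup `T ≥ P`. -/
theorem card_sylow_of_normal_ge [Finite G] {p : ℕ} [Fact p.Prime] (P : Sylow p G) {T : Subgroup G}
    [hT : T.Normal] (hPT : (P : Subgroup G) ≤ T) : Nat.card (Sylow p G) = Nat.card (Sylow p T) := by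
  rw [card_sylow_subgroup P hPT, P.card_eq_index_normalizer]
  refine Cfsg.Agent.H1.index_eq_relIndex_of_sup_eq_top T _ ?_
  rw [sup_comm]
  exact Sylow.normalizer_sup_eq_top' P hPT

/-- `n_p(G) = |G : N_G(M)| n_p(M)`-type formula: for `N_G(P) ≤ M`, `n_p(G) = |G : M| n_p(M)`. -/
theorem card_sylow_of_normalizer_le [Finite G] {p : ℕ} [Fact p.Prime] (P : Sylow p G) {M : Subgroup G}
    (hM : normalizer ((P : Subgroup G) : Set G) ≤ M) :
    Nat.card (Sylow p G) = Nat.card (Sylow p M) * M.index := by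
  rw [card_sylow_subgroup P (le_normalizer.trans hM), P.card_eq_index_normalizer, relIndex_mul_index hM]
  rfl

/-- `n_p(G/K) = |G : N_G(PK)|`. -/
theorem card_sylow_quotient [Finite G] {p : ℕ} [Fact p.Prime] (P : Sylow p G) (K : Subgroup G) [K.Normal] :
    Nat.card (Sylow p (G ⧸ K)) = (normalizer (((P : Subgroup G) ⊔ K : Subgroup G) : Set G)).index := by
  have hπ : Function.Surjective (QuotientGroup.mk' K) := QuotientGroup.mk'_surjective K
  have h1 := comap_normalizer_eq_of_surjective ((P.mapSurjective hπ : Sylow p (G ⧸ K)) : Subgroup (G ⧸ K)) hπ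
  rw [Sylow.coe_mapSurjective, Subgroup.comap_map_eq, QuotientGroup.ker_mk'] at h1
  rw [(P.mapSurjective hπ).card_eq_index_normalizer, ← Subgroup.index_comap_of_surjective _ hπ, ← h1]
  rfl

theorem normalizer_le_normalizer_sup {P K : Subgroup G} [K.Normal] :
    normalizer (P : Set G) ≤ normalizer ((P ⊔ K : Subgroup G) : Set G) := by
  intro g hg
  have key : ∀ g ∈ normalizer (P : Set G), ∀ x ∈ P ⊔ K, g * x * g⁻¹ ∈ P ⊔ K := by
    intro g hg x hx
    rw [mem_sup_of_normal_right] at hx ⊢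
    obtain ⟨a, ha, b, hb, rfl⟩ := hx
    refine ⟨g * a * g⁻¹, (mem_normalizer_iff.1 hg a).1 ha, g * b * g⁻¹, Subgroup.Normal.conj_mem inferInstance b hb g, ?_⟩
    group
  rw [mem_normalizer_iff]
  intro x
  refine ⟨fun hx => key g hg x hx, fun hx => ?_⟩
  have := key g⁻¹ (inv_mem hg) _ hx
  have e : g⁻¹ * (g * x * g⁻¹) * g⁻¹⁻¹ = x := by group
  rwa [e] at this

theorem normalizer_le_normalizer_inf {P K : Subgroup G} [K.Normal] :
    normalizer (P : Set G) ≤ normalizer ((P ⊓ K : Subgroup G) : Set G) := by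
  intro g hg
  rw [mem_normalizer_iff] at hg ⊢
  intro x
  have h2 : x ∈ K ↔ g * x * g⁻¹ ∈ K := by
    constructor
    · exact fun h => Subgroup.Normal.conj_mem inferInstance x h g
    · intro h
      have := Subgroup.Normal.conj_mem (inferInstance : K.Normal) _ h g⁻¹
      have e : g⁻¹ * (g * x * g⁻¹) * g⁻¹⁻¹ = x := by group
      rwa [e] at this
  constructor
  · rintro ⟨h1, h3⟩; exact ⟨(hg x).1 h1, h2.1 h3⟩
  · rintro ⟨h1, h3⟩; exact ⟨(hg x).2 h1, h2.2 h3⟩

/-- `n_p(K) = |G : N_G(P ∩ K)|`. -/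
theorem card_sylow_normal [Finite G] {p : ℕ} [Fact p.Prime] (P : Sylow p G) (K : Subgroup G) [K.Normal]
    (hP : ¬ p ∣ (P : Subgroup G).relIndex K) :
    Nat.card (Sylow p K) = (normalizer (((P : Subgroup G) ⊓ K : Subgroup G) : Set G)).index := by
  have h1 : IsPGroup p ((P : Subgroup G).subgroupOf K) := P.2.comap_subtype
  let Q : Sylow p K := h1.toSylow hP
  have hQ : ((Q : Sylow p K) : Subgroup K) = (P : Subgroup G).subgroupOf K := IsPGroup.toSylow_coe _ _
  have hmap : ((Q : Sylow p K) : Subgroup K).map K.subtype = (P : Subgroup G) ⊓ K := by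
    rw [hQ, subgroupOf_map_subtype]
  have h2 := Sylow.normalizer_sup_eq_top Q
  rw [hmap] at h2
  have h3 := Cfsg.Agent.H1.index_eq_relIndex_of_sup_eq_top K (normalizer (((P : Subgroup G) ⊓ K : Subgroup G) : Set G)) (by rw [sup_comm]; exact h2)
  rw [h3, Q.card_eq_index_normalizer, relIndex]
  have h4 := Subgroup.subgroupOf_normalizer_eq (inf_le_right : (P : Subgroup G) ⊓ K ≤ K)
  rw [h4]
  have h5 : ((P : Subgroup G) ⊓ K).subgroupOf K = Q := by rw [hQ, inf_subgroupOf_right]
  rw [h5]
  rfl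

/-- for a `p`-group `A` acting on a `p'`-group `K`: the `r`-part of `|K : C_K(A)|` is `1` mod `p`. -/
theorem rpart_modEq [Finite G] {p r : ℕ} [hp : Fact p.Prime] [hr : Fact r.Prime] {A K : Subgroup G} (hA : IsPGroup p A)
    (hK : ¬ p ∣ Nat.card K) (hAK : A ≤ normalizer (K : Set G)) :
    r ^ ((K ⊓ centralizer (A : Set G)).relIndex K).factorization r % p = 1 := by
  obtain ⟨Q, hQ, hAQ⟩ := exists_inv_isSyl hA hK hAK r
  have hC := IsSyl.inf_centralizer hA hK hAK hQ hAQ
  set C := K ⊓ centralizer (A : Set G) with hCdef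
  set D := Q ⊓ centralizer (A : Set G) with hDdef
  have hDC : D ≤ C := hC.le
  have hQK : Q ≤ K := hQ.le
  have hDQ : D ≤ Q := inf_le_left
  have hCK : C ≤ K := inf_le_left
  -- orders
  have e1 := Subgroup.relIndex_mul_relIndex D C K hDC hCK
  have e2 := Subgroup.relIndex_mul_relIndex D Q K hDQ hQK
  have n1 : ¬ r ∣ D.relIndex C := hC.not_dvd_relIndex
  have n2 : ¬ r ∣ Q.relIndex K := hQ.not_dvd_relIndex
  have pos : ∀ H L : Subgroup G, H.relIndex L ≠ 0 := relIndex_ne_zero_fin
  have hQp : ∃ k, D.relIndex Q = r ^ k := by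
    obtain ⟨k, hk⟩ := hQ.isPGroup.exists_card_eq
    have : D.relIndex Q ∣ Nat.card Q := relIndex_dvd_card _ _
    rw [hk] at this
    obtain ⟨j, _, hj⟩ := (Nat.dvd_prime_pow hr.out).1 this
    exact ⟨j, hj⟩
  obtain ⟨k, hk⟩ := hQp
  have hfac : (C.relIndex K).factorization r = k := by
    have h1 : (D.relIndex C * C.relIndex K).factorization r = (C.relIndex K).factorization r := by
      rw [Nat.factorization_mul (pos _ _) (pos _ _), Finsupp.add_apply, Nat.factorization_eq_zero_of_not_dvd n1, zero_add]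
    have h2 : (D.relIndex Q * Q.relIndex K).factorization r = k := by
      rw [Nat.factorization_mul (pos _ _) (pos _ _), Finsupp.add_apply, Nat.factorization_eq_zero_of_not_dvd n2, add_zero, hk,
        hr.out.factorization_pow, Finsupp.single_eq_same]
    rw [← h1, e1, ← e2, h2]
  rw [hfac, ← hk]
  -- fixed points
  have hmod : Nat.card Q ≡ Nat.card D [MOD p] := by
    let _ : MulAction A Q :=
      { smul := fun a x => ⟨a * x * (a : G)⁻¹, (mem_normalizer_iff.1 (hAQ a.2) x).1 x.2⟩
        one_smul := fun x => Subtype.ext (by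
          change ((1 : A) : G) * x * ((1 : A) : G)⁻¹ = x
          simp)
        mul_smul := fun a b x => Subtype.ext (by
          change ((a * b : A) : G) * x * ((a * b : A) : G)⁻¹ = a * (b * x * (b : G)⁻¹) * (a : G)⁻¹
          push_cast; group) }
    have h1 := hA.card_modEq_card_fixedPoints Q
    have h2 : Nat.card (MulAction.fixedPoints A Q) = Nat.card D := by
      refine Nat.card_congr
        { toFun := fun x => ⟨x.1, x.1.2, ?_⟩
          invFun := fun x => ⟨⟨x.1, x.2.1⟩, ?_⟩
          left_inv := fun x => rfl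
          right_inv := fun x => rfl }
      · change (x.1 : G) ∈ centralizer (A : Set G)
        rw [mem_centralizer_iff]
        intro a ha
        have h3 : (a : G) * x.1 * (a : G)⁻¹ = x.1 := congrArg Subtype.val (x.2 ⟨a, ha⟩)
        calc a * (x.1 : G) = (a : G) * x.1 * (a : G)⁻¹ * a := by group
          _ = _ := by rw [h3]
      · rintro ⟨a, ha⟩
        apply Subtype.ext
        change a * (x : G) * a⁻¹ = x
        rw [(mem_centralizer_iff.1 x.2.2) a ha]; group
    rw [← h2]
    exact h1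
  have hcard : Nat.card Q = Nat.card D * D.relIndex Q := by
    rw [← relIndex_bot_left, ← relIndex_bot_left, Subgroup.relIndex_mul_relIndex _ _ _ bot_le hDQ]
  have hcop : (Nat.card D).Coprime p := by
    rw [Nat.coprime_comm, hp.out.coprime_iff_not_dvd]
    intro h
    exact hK (h.trans (Subgroup.card_dvd_of_le (hDQ.trans hQK)))
  rw [hcard] at hmod
  have h3 : D.relIndex Q ≡ 1 [MOD p] := by
    have : Nat.card D * D.relIndex Q ≡ Nat.card D * 1 [MOD p] := by rw [mul_one]; exact hmod
    exact Nat.ModEq.cancel_left_of_coprime (by rw [Nat.coprime_comm] at hcop; exact hcop) this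
  have h4 : 1 % p = 1 := Nat.mod_eq_of_lt hp.out.one_lt
  rw [Nat.ModEq, h4] at h3
  exact h3

theorem exists_list [Finite G] {p : ℕ} [hp : Fact p.Prime] {A K : Subgroup G} (hA : IsPGroup p A)
    (hK : ¬ p ∣ Nat.card K) (hAK : A ≤ normalizer (K : Set G)) :
    ∃ l : List ℕ, l.prod = (K ⊓ centralizer (A : Set G)).relIndex K ∧ ∀ m ∈ l, IsPrimePow m ∧ m % p = 1 := by
  set n := (K ⊓ centralizer (A : Set G)).relIndex K with hn
  have hn0 : n ≠ 0 := relIndex_ne_zero_fin _ _
  refine ⟨n.primeFactors.toList.map (fun r => r ^ n.factorization r), ?_, ?_⟩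
  · rw [Finset.prod_map_toList]
    exact Nat.prod_factorization_pow_eq_self hn0
  · intro m hm
    rw [List.mem_map] at hm
    obtain ⟨r, hr, rfl⟩ := hm
    rw [Finset.mem_toList] at hr
    have hrp : r.Prime := Nat.prime_of_mem_primeFactors hr
    have : Fact r.Prime := ⟨hrp⟩
    refine ⟨hrp.isPrimePow.pow (Nat.pos_iff_ne_zero.1 (hrp.factorization_pos_of_dvd hn0 (Nat.dvd_of_mem_primeFactors hr))), ?_⟩
    exact rpart_modEq hA hK hAK

end Cfsg.Agent.H65.SylowNum
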