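import Mathlib

set_option autoImplicit false

namespace Cfsg.Agent.H65

open Subgroup
open scoped Pointwise

section aux
variable {G : Type*} [Group G]

/-- `G = QP` with `Q` normal and both factors solvable. -/
theorem solvable_of_sup_eq_top {P Q : Subgroup G} [Q.Normal] (hP : Group.IsSolvable P)
    (hQ : Group.IsSolvable Q) (h : Q ⊔ P = ⊤) : Group.IsSolvable G := by
  rw [Group.isSolvable_iff_subgroup_quotient Q]
  refine ⟨hQ, ?_⟩
  let f : P →* G ⧸ Q := (QuotientGroup.mk' Q).comp P.subtype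
  have hf : Function.Surjective f := by
    intro y
    obtain ⟨g, rfl⟩ := QuotientGroup.mk'_surjective Q y
    have hg : g ∈ Q ⊔ P := h ▸ Subgroup.mem_top g
    obtain ⟨q, hq, x, hx, rfl⟩ := Subgroup.mem_sup_of_normal_left.mp hg
    refine ⟨⟨x, hx⟩, ?_⟩
    simp only [f, MonoidHom.comp_apply, Subgroup.coe_subtype, QuotientGroup.mk'_apply]
    rw [QuotientGroup.eq]
    have : x⁻¹ * (q * x) = x⁻¹ * q * x⁻¹⁻¹ := by group
    rw [this]
    exact Subgroup.Normal.conj_mem inferInstance q hq x⁻¹
  exact Group.isSolvable_of_surjective hf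

theorem solvable_zpowers (g : G) : Group.IsSolvable (zpowers g) := by
  apply Group.isSolvable_of_comm
  intro a b
  exact mul_comm' a b

theorem solvable_of_normal_coatom {P : Subgroup G} [P.Normal] (hP : Group.IsSolvable P)
    (hc : IsCoatom P) : Group.IsSolvable G := by
  obtain ⟨g, hg⟩ : ∃ g : G, g ∉ P := by
    by_contra h
    push Not at h
    exact hc.1 ((Subgroup.eq_top_iff' P).mpr h)
  have hs : P ⊔ zpowers g = ⊤ := by
    apply hc.2
    refine lt_of_le_of_ne le_sup_left ?_
    intro h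
    apply hg
    rw [h]
    exact (le_sup_right : zpowers g ≤ P ⊔ zpowers g) (mem_zpowers g)
  exact solvable_of_sup_eq_top (solvable_zpowers g) hP hs

/-- A `q`-group acting by conjugation on a set of cardinality prime to `q` fixes a point. -/
theorem exists_conj_fixed {q : ℕ} [Fact q.Prime] (A : Subgroup G) (hA : IsPGroup q A)
    (X : Set G) (hX : ∀ a ∈ A, ∀ x ∈ X, a * x * a⁻¹ ∈ X) (hc : ¬ q ∣ Nat.card X) :
    ∃ x ∈ X, ∀ a ∈ A, a * x * a⁻¹ = x := by
  let _ : MulAction A X :=
    { smul := fun a x => ⟨a * x * (a : G)⁻¹, hX a a.2 x x.2⟩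
      one_smul := fun x => Subtype.ext (by
        change ((1 : A) : G) * x * ((1 : A) : G)⁻¹ = x
        simp)
      mul_smul := fun a b x => Subtype.ext (by
        change ((a * b : A) : G) * x * ((a * b : A) : G)⁻¹ = (a : G) * (b * x * (b : G)⁻¹) * (a : G)⁻¹
        simp [mul_assoc]) }
  obtain ⟨x, hx⟩ := hA.nonempty_fixed_point_of_prime_not_dvd_card X hc
  refine ⟨x, x.2, fun a ha => ?_⟩
  have := hx ⟨a, ha⟩
  exact congrArg Subtype.val this

end aux

section fin
variable {G : Type*} [Group G] [Finite G]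

theorem isPGroup_of_forall_prime {p : ℕ} (hp : p.Prime)
    (h : ∀ q : ℕ, q.Prime → ∀ y : G, orderOf y = q → q = p) : IsPGroup p G := by
  rw [isPGroup_iff_primeFactors_card_subset hp.ne_zero]
  intro q hq
  have hq' := Nat.prime_of_mem_primeFactors hq
  have : Fact q.Prime := ⟨hq'⟩
  obtain ⟨y, hy⟩ := exists_prime_orderOf_dvd_card' q (Nat.dvd_of_mem_primeFactors hq)
  have := h q hq' y hy
  rw [this]
  exact Nat.mem_primeFactors.mpr ⟨hp, dvd_rfl, hp.ne_zero⟩

theorem solvable_of_pgroup {p : ℕ} (hp : p.Prime) (h : IsPGroup p G) : Group.IsSolvable G := by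
  have : Fact p.Prime := ⟨hp⟩
  have := h.isNilpotent
  infer_instance

omit [Finite G] in
theorem isCoatom_smul {P : Subgroup G} (g : G) (h : IsCoatom P) :
    IsCoatom (MulAut.conj g • P) := by
  have := (OrderIso.isCoatom_iff (MulEquiv.mapSubgroup (MulAut.conj g)) P).mpr h
  exact this

/-- If `N_G(Q)` covers `G/K` with `K` a `p'`-group then it contains a Sylow `p`-subgroup. -/
theorem exists_sylow_le_of_sup_eq_top {p : ℕ} [Fact p.Prime] {M K : Subgroup G} [K.Normal]
    (h : M ⊔ K = ⊤) (hK : ¬ p ∣ Nat.card K) : ∃ P : Sylow p G, (P : Subgroup G) ≤ M := by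
  obtain ⟨S⟩ := (inferInstance : Nonempty (Sylow p M))
  obtain ⟨P, hP⟩ := (S.2.map M.subtype).exists_le_sylow
  refine ⟨P, ?_⟩
  have hS : Nat.card ((S : Subgroup M).map M.subtype) = Nat.card S :=
    Nat.card_congr ((S : Subgroup M).equivMapOfInjective M.subtype M.subtype_injective).symm.toEquiv
  have h1 : Nat.card P ∣ Nat.card M := by
    have h2 : Nat.card P ∣ Nat.card K * K.index := by
      rw [K.card_mul_index]; exact Subgroup.card_subgroup_dvd_card _
    have h3 : Nat.Coprime (Nat.card P) (Nat.card K) := by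
      obtain ⟨n, hn⟩ := IsPGroup.iff_card.mp P.2
      rw [hn]
      exact Nat.Coprime.pow_left _ ((Nat.Prime.coprime_iff_not_dvd Fact.out).mpr hK)
    have h4 : K.index = K.relIndex M := by
      rw [← relIndex_top_right, ← h, relIndex_sup_right]
    exact ((h3.dvd_of_dvd_mul_left h2).trans (h4 ▸ K.relIndex_dvd_card M))
  have h5 : Nat.card P ∣ Nat.card S := by
    obtain ⟨n, hn⟩ := IsPGroup.iff_card.mp P.2
    have hn' : Nat.card P = p ^ n := hn
    rw [hn'] at h1 ⊢
    exact S.pow_dvd_card_of_pow_dvd_card h1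
  have h6 : (S : Subgroup M).map M.subtype = P := by
    apply Subgroup.eq_of_le_of_card_ge hP
    rw [hS]
    exact Nat.le_of_dvd Nat.card_pos h5
  rw [← h6]
  exact Subgroup.map_subtype_le _

theorem card_lt_card_of_lt {H K : Subgroup G} (h : H < K) : Nat.card H < Nat.card K := by
  have h1 : ((H : Set G)).ncard < ((K : Set G)).ncard :=
    Set.ncard_lt_ncard (SetLike.coe_ssubset_coe.mpr h) (Set.toFinite _)
  exact h1

omit [Finite G] in
/-- Normalizers grow inside a nilpotent subgroup. -/
theorem lt_normalizer_inf {D Q : Subgroup G} (hQ : Group.IsNilpotent Q) (h : D < Q) :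
    D < normalizer (D : Set G) ⊓ Q := by
  have hnc := (Group.normalizerCondition_of_isNilpotent (G := Q) (D.subgroupOf Q) (by
    rw [lt_top_iff_ne_top, Ne, Subgroup.subgroupOf_eq_top]
    exact not_le_of_gt h))
  obtain ⟨hle1, z, hz, hzD⟩ := (SetLike.lt_iff_le_and_exists.mp hnc)
  refine lt_of_le_of_ne (le_inf le_normalizer h.le) ?_
  intro heq
  apply hzD
  rw [Subgroup.mem_subgroupOf]
  have goal : (z : G) ∈ normalizer (D : Set G) ⊓ Q := by
    refine Subgroup.mem_inf.mpr ⟨?_, z.2⟩
    rw [mem_normalizer_iff]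
    intro g
    have := (mem_normalizer_iff.mp hz)
    constructor
    · intro hg
      have := (this ⟨g, h.le hg⟩).mp (by rwa [Subgroup.mem_subgroupOf])
      rwa [Subgroup.mem_subgroupOf] at this
    · intro hg
      have hgQ : g ∈ Q := by
        have h5 := Q.mul_mem (Q.mul_mem (Q.inv_mem z.2) (h.le hg)) z.2
        have e : (z : G)⁻¹ * (z * g * (z : G)⁻¹) * z = g := by group
        rwa [e] at h5
      have := (this ⟨g, hgQ⟩).mpr (by rwa [Subgroup.mem_subgroupOf])
      rwa [Subgroup.mem_subgroupOf] at this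
  rw [← heq] at goal
  exact goal

/-- a coatom that is a Sylow `p`-subgroup with `N(P) ≤ C(P)`. -/
theorem solvable_of_coatom_sylow {p : ℕ} [Fact p.Prime] (P : Sylow p G)
    (hc : IsCoatom (P : Subgroup G)) (hPP : normalizer (P : Set G) ≤ centralizer (P : Set G)) :
    Group.IsSolvable G := by
  set K := (MonoidHom.transferSylow P hPP).ker with hKdef
  have hKc : IsComplement' K P := MonoidHom.ker_transferSylow_isComplement' P hPP
  have hKp : ¬ p ∣ Nat.card K := MonoidHom.not_dvd_card_ker_transferSylow P hPP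
  have hK1 : Nat.card K ≠ 1 := by
    intro h1
    apply hc.1
    have h2 := hKc.card_mul_card
    rw [h1, one_mul] at h2
    exact Subgroup.eq_top_of_card_eq _ h2
  obtain ⟨q, hq, hqK⟩ := Nat.exists_prime_and_dvd hK1
  have : Fact q.Prime := ⟨hq⟩
  have hqp : q ≠ p := fun h => hKp (h ▸ hqK)
  obtain ⟨Q⟩ := (inferInstance : Nonempty (Sylow q K))
  have hfr := Sylow.normalizer_sup_eq_top Q
  set Q' := (Q : Subgroup K).map K.subtype with hQ'
  obtain ⟨P', hP'⟩ := exists_sylow_le_of_sup_eq_top hfr hKp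
  have hQq : IsPGroup q Q' := Q.2.map K.subtype
  have hQ1 : Q' ≠ ⊥ := by
    intro h
    have h3 : (Q : Subgroup K) = ⊥ := by
      rwa [hQ', Subgroup.map_eq_bot_iff_of_injective _ K.subtype_injective] at h
    exact Q.ne_bot_of_dvd_card hqK h3
  have hcoat : ∀ R : Sylow p G, IsCoatom (R : Subgroup G) := by
    intro R
    obtain ⟨g, hg⟩ := MulAction.exists_smul_eq G P R
    rw [← hg]
    exact isCoatom_smul g hc
  have hnle : ∀ R : Sylow p G, ¬ Q' ≤ R := by
    intro R hR
    apply hQ1
    have hd : Disjoint Q' (R : Subgroup G) := IsPGroup.disjoint_of_ne q p hqp _ _ hQq R.2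
    exact le_bot_iff.mp (hd le_rfl hR)
  have hnorm : normalizer (Q' : Set G) = ⊤ := by
    rcases eq_or_lt_of_le hP' with h | h
    · exact absurd (h ▸ le_normalizer) (hnle P')
    · exact (hcoat P').2 _ h
  have : Q'.Normal := normalizer_eq_top_iff.mp hnorm
  have hsup : Q' ⊔ P = ⊤ := by
    apply hc.2
    refine lt_of_le_of_ne le_sup_right ?_
    intro h
    exact hnle P (h ▸ le_sup_left)
  exact solvable_of_sup_eq_top (solvable_of_pgroup Fact.out P.2) (solvable_of_pgroup hq hQq) hsup

end fin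

end Cfsg.Agent.H65
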