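import Cfsg.Prelude
import Cfsg.Agent.H65.Basic
import Cfsg.Agent.MaxClass.UniqueOrderP
import Cfsg.Agent.Transfer.Frobenius
import Cfsg.Agent.Solv.MinNormal

set_option autoImplicit false
open Cfsg

namespace Cfsg.Agent.H65

open Subgroup
open scoped Pointwise

/-- any two abelian subgroups of the same order are conjugate -/
def BP (G : Type*) [Group G] : Prop :=
  ∀ A B : Subgroup G, IsMulCommutative ↥A → IsMulCommutative ↥B → Nat.card ↥A = Nat.card ↥B →
    ∃ g : G, B = A.map (MulAut.conj g).toMonoidHom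

variable {G : Type*} [Group G]

theorem isMulCommutative_zpowers (x : G) : IsMulCommutative (zpowers x) := inferInstance

theorem BP.mem_of_orderOf_eq (hB : BP G) (M : Subgroup G) [hM : M.Normal] {a m : G}
    (hm : m ∈ M) (hma : orderOf m = orderOf a) : a ∈ M := by
  obtain ⟨g, hg⟩ := hB (zpowers m) (zpowers a) inferInstance inferInstance
    (by rw [Nat.card_zpowers, Nat.card_zpowers, hma])
  have h1 : a ∈ zpowers a := mem_zpowers a
  rw [hg] at h1
  obtain ⟨y, hy, rfl⟩ := h1
  have hyM : y ∈ M := (zpowers_le.mpr hm) hy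
  exact hM.conj_mem y hyM g

/-- an abelian subgroup of order `p²` determines the structure of all those -/
theorem BP.exponent_of_elementary (hB : BP G) [Finite G] {p : ℕ} [hp : Fact p.Prime]
    (E : Subgroup G) (hE : IsMulCommutative E) (hEc : Nat.card E = p ^ 2)
    (hexp : ∀ x ∈ E, x ^ p = 1) {x : G} {k : ℕ} (hx : orderOf x = p ^ k) : x ^ p = 1 := by
  by_contra hne
  have hk : 2 ≤ k := by
    by_contra hk
    apply hne
    rw [← orderOf_dvd_iff_pow_eq_one, hx]
    calc p ^ k ∣ p ^ 1 := pow_dvd_pow p (by omega)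
      _ = p := pow_one p
  have hord : orderOf (x ^ (p ^ (k - 2))) = p ^ 2 := by
    rw [orderOf_pow, hx]
    have : Nat.gcd (p ^ k) (p ^ (k - 2)) = p ^ (k - 2) :=
      Nat.gcd_eq_right (pow_dvd_pow p (by omega))
    rw [this, Nat.pow_div (by omega) hp.out.pos]
    congr 1
    omega
  obtain ⟨g, hg⟩ := hB E (zpowers (x ^ (p ^ (k - 2)))) hE inferInstance
    (by rw [Nat.card_zpowers, hord, hEc])
  have h1 : x ^ (p ^ (k - 2)) ∈ zpowers (x ^ (p ^ (k - 2))) := mem_zpowers _
  rw [hg] at h1
  obtain ⟨y, hy, hy2⟩ := h1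
  have h3 : (x ^ (p ^ (k - 2))) ^ p = 1 := by
    rw [← hy2, ← map_pow, hexp y hy, map_one]
  rw [← orderOf_dvd_iff_pow_eq_one, hord] at h3
  have := Nat.le_of_dvd hp.out.pos h3
  have h5 : p < p ^ 2 := by
    rw [sq]
    exact lt_mul_of_one_lt_left hp.out.pos hp.out.one_lt
  omega

/-- a subgroup generated by two commuting elements of order `p` -/
theorem card_sup_zpowers {p : ℕ} [hp : Fact p.Prime] {z x : G} (hz : orderOf z = p)
    (hx : orderOf x = p) (hc : z * x = x * z) (hnot : x ∉ zpowers z) :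
    ∃ E : Subgroup G, IsMulCommutative E ∧ Nat.card E = p ^ 2 ∧ (∀ y ∈ E, y ^ p = 1) ∧
      z ∈ E ∧ x ∈ E := by
  have hcomm : ∀ i j : ℤ, z ^ i * x ^ j = x ^ j * z ^ i := fun i j =>
    ((Commute.zpow_zpow (show Commute z x from hc) i j)).eq
  have hdisj : Disjoint (zpowers z) (zpowers x) := by
    rw [disjoint_iff]
    by_contra hne
    have h1 : Nat.card (zpowers z ⊓ zpowers x : Subgroup G) ∣ p := by
      rw [← hx, ← Nat.card_zpowers]
      exact Subgroup.card_dvd_of_le inf_le_right
    rcases (Nat.dvd_prime hp.out).mp h1 with h2 | h2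
    · exact hne (Subgroup.card_eq_one.mp h2)
    · apply hnot
      have hfin : Finite (zpowers x) := by
        apply Nat.finite_of_card_ne_zero
        rw [Nat.card_zpowers, hx]
        exact hp.out.pos.ne'
      have h3 : zpowers z ⊓ zpowers x = zpowers x := by
        apply Subgroup.eq_of_le_of_card_ge inf_le_right
        rw [h2, Nat.card_zpowers, hx]
      have : x ∈ zpowers z ⊓ zpowers x := h3.symm ▸ mem_zpowers x
      exact this.1
  let E : Subgroup G :=
    { carrier := {y | ∃ i j : ℤ, y = z ^ i * x ^ j}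
      mul_mem' := by
        rintro a b ⟨i, j, rfl⟩ ⟨k, l, rfl⟩
        refine ⟨i + k, j + l, ?_⟩
        calc z ^ i * x ^ j * (z ^ k * x ^ l) = z ^ i * (x ^ j * z ^ k) * x ^ l := by group
          _ = z ^ i * (z ^ k * x ^ j) * x ^ l := by rw [hcomm]
          _ = z ^ (i + k) * x ^ (j + l) := by rw [zpow_add, zpow_add]; group
      one_mem' := ⟨0, 0, by simp⟩
      inv_mem' := by
        rintro a ⟨i, j, rfl⟩
        refine ⟨-i, -j, ?_⟩
        rw [hcomm, mul_inv_rev, zpow_neg, zpow_neg] }
  have hmulc : ∀ a ∈ E, ∀ b ∈ E, a * b = b * a := by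
    rintro a ⟨i, j, rfl⟩ b ⟨k, l, rfl⟩
    have c1 : Commute (z ^ i) (z ^ k) := (Commute.refl z).zpow_zpow i k
    have c2 : Commute (z ^ i) (x ^ l) := hcomm i l
    have c3 : Commute (x ^ j) (z ^ k) := (hcomm k j).symm
    have c4 : Commute (x ^ j) (x ^ l) := (Commute.refl x).zpow_zpow j l
    exact ((c1.mul_right c2).mul_left (c3.mul_right c4)).eq
  refine ⟨E, ⟨⟨fun a b => Subtype.ext (hmulc a a.2 b b.2)⟩⟩, ?_, ?_, ?_, ?_⟩
  · have hE : (E : Set G) = (zpowers z : Set G) * (zpowers x : Set G) := by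
      ext y
      constructor
      · rintro ⟨i, j, rfl⟩
        exact Set.mul_mem_mul ⟨i, rfl⟩ ⟨j, rfl⟩
      · rintro ⟨_, ⟨i, rfl⟩, _, ⟨j, rfl⟩, rfl⟩
        exact ⟨i, j, rfl⟩
    have h1 : Nat.card E = Nat.card (zpowers z × zpowers x) := by
      apply Nat.card_congr
      symm
      refine Equiv.ofBijective (fun q => ⟨q.1 * q.2, ?_⟩) ⟨?_, ?_⟩
      · obtain ⟨⟨_, i, rfl⟩, ⟨_, j, rfl⟩⟩ := q
        exact ⟨i, j, rfl⟩
      · rintro ⟨a, b⟩ ⟨c, d⟩ h
        have h2 := congrArg Subtype.val h
        simp only at h2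
        have := Subgroup.mul_injective_of_disjoint hdisj (a₁ := (a, b)) (a₂ := (c, d)) h2
        exact this
      · rintro ⟨y, i, j, rfl⟩
        exact ⟨(⟨z ^ i, i, rfl⟩, ⟨x ^ j, j, rfl⟩), rfl⟩
    rw [h1, Nat.card_prod, Nat.card_zpowers, Nat.card_zpowers, hz, hx, sq]
  · rintro y ⟨i, j, rfl⟩
    have hz1 : z ^ p = 1 := by rw [← hz]; exact pow_orderOf_eq_one z
    have hx1 : x ^ p = 1 := by rw [← hx]; exact pow_orderOf_eq_one x
    rw [(show Commute (z ^ i) (x ^ j) from hcomm i j).mul_pow, ← zpow_natCast, ← zpow_natCast,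
      ← zpow_mul, ← zpow_mul, mul_comm i, mul_comm j, zpow_mul, zpow_mul, zpow_natCast,
      zpow_natCast, hz1, hx1, one_zpow, one_zpow, one_mul]
  · exact ⟨1, 0, by simp⟩
  · exact ⟨0, 1, by simp⟩

/-- a `p`-group is cyclic, generalized quaternion or contains an elementary abelian subgroup
of order `p²` -/
theorem pgroup_cases [Finite G] {p : ℕ} [hp : Fact p.Prime] (hG : IsPGroup p G) :
    IsCyclic G ∨ (p = 2 ∧ ∃ n : ℕ, Nonempty (G ≃* QuaternionGroup (2 ^ n))) ∨
    ∃ E : Subgroup G, IsMulCommutative E ∧ Nat.card E = p ^ 2 ∧ (∀ y ∈ E, y ^ p = 1) := by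
  by_cases huniq : ∀ H K : Subgroup G, Nat.card H = p → Nat.card K = p → H = K
  · rcases MaxClass.cyclic_or_quaternion hG huniq with h | h
    · exact Or.inl h
    · exact Or.inr (Or.inl h)
  · right; right
    push Not at huniq
    obtain ⟨H, K, hH, hK, hne⟩ := huniq
    have hnt : Nontrivial G := by
      by_contra h
      rw [not_nontrivial_iff_subsingleton] at h
      exact hne (Subsingleton.elim H K)
    have hZ : Nontrivial (Subgroup.center G) := hG.center_nontrivial
    have hpZ : p ∣ Nat.card (Subgroup.center G) := by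
      have h1 : IsPGroup p (Subgroup.center G) := hG.to_subgroup _
      obtain ⟨k, hk⟩ := IsPGroup.iff_card.mp h1
      rw [hk]
      apply dvd_pow_self
      rintro rfl
      rw [pow_zero] at hk
      have := Finite.one_lt_card_iff_nontrivial.mpr hZ
      omega
    obtain ⟨z, hz⟩ := exists_prime_orderOf_dvd_card' p hpZ
    have hzo : orderOf (z : G) = p := by rw [Subgroup.orderOf_coe]; exact hz
    have hex : ∃ x : G, orderOf x = p ∧ x ∉ zpowers (z : G) := by
      by_contra h
      push Not at h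
      apply hne
      have key : ∀ L : Subgroup G, Nat.card L = p → L = zpowers (z : G) := by
        intro L hL
        apply Subgroup.eq_of_le_of_card_ge
        · intro y hy
          rcases eq_or_ne y 1 with rfl | hy1
          · exact one_mem _
          · apply h
            have h1 : orderOf (⟨y, hy⟩ : L) ∣ p := hL ▸ orderOf_dvd_natCard _
            rw [Subgroup.orderOf_mk] at h1
            exact ((Nat.dvd_prime hp.out).mp h1).resolve_left (fun h => hy1 (orderOf_eq_one_iff.mp h))
        · rw [Nat.card_zpowers, hzo, hL]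
      rw [key H hH, key K hK]
    obtain ⟨x, hx, hxz⟩ := hex
    obtain ⟨E, h1, h2, h3, -, -⟩ := card_sup_zpowers hzo hx
      ((mem_center_iff.mp z.2 x).symm) hxz
    exact ⟨E, h1, h2, h3⟩

theorem BP.sylow_cases (hB : BP G) [Finite G] {p : ℕ} [hp : Fact p.Prime] (P : Sylow p G) :
    IsCyclic (P : Subgroup G) ∨
    (p = 2 ∧ ∃ n : ℕ, Nonempty ((P : Subgroup G) ≃* QuaternionGroup (2 ^ n))) ∨
    (∀ (x : G) (k : ℕ), orderOf x = p ^ k → x ^ p = 1) := by
  rcases pgroup_cases P.2 with h | h | ⟨E, h1, h2, h3⟩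
  · exact Or.inl h
  · exact Or.inr (Or.inl h)
  · right; right
    intro x k hx
    refine hB.exponent_of_elementary (E.map (P : Subgroup G).subtype) ?_ ?_ ?_ hx
    · infer_instance
    · rw [Subgroup.card_map_of_injective (Subgroup.subtype_injective _), h2]
    · rintro _ ⟨y, hy, rfl⟩
      rw [← map_pow, h3 y hy, map_one]

/-- in a nilpotent group conjugation on a Sylow subgroup is induced by the Sylow subgroup -/
theorem exists_conj_eq_of_nilpotent [Finite G] (hG : Group.IsNilpotent G) {p : ℕ}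
    [hp : Fact p.Prime] (P : Sylow p G) (g : G) :
    ∃ u ∈ P, ∀ x ∈ P, g * x * g⁻¹ = u * x * u⁻¹ := by
  obtain ⟨i, j, hij, ⟨l, hl⟩, hj⟩ := Transfer.exists_pow_decomp p g (orderOf_pos g).ne'
  have hPn : (P : Subgroup G).Normal := inferInstance
  have hu : g ^ i ∈ P := by
    obtain ⟨k, hk⟩ : ∃ k, orderOf (g ^ i) = p ^ k := ⟨l, hl⟩
    have h1 : IsPGroup p (zpowers (g ^ i)) := by
      apply IsPGroup.of_card (n := k)
      rw [Nat.card_zpowers, hk]
    obtain ⟨Q, hQ⟩ := h1.exists_le_sylow
    obtain ⟨h, rfl⟩ := MulAction.exists_smul_eq G P Q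
    have : h • P = P := Sylow.smul_eq_of_normal
    rw [this] at hQ
    exact hQ (mem_zpowers _)
  refine ⟨g ^ i, hu, ?_⟩
  intro x hx
  obtain ⟨k, hk⟩ := P.2 ⟨x, hx⟩
  have hk' : x ^ p ^ k = 1 := congrArg Subtype.val hk
  have hc : Commute x (g ^ j) := Transfer.commute_of_isNilpotent hG hk' hj
  have hg : g = g ^ i * g ^ j := hij
  have hg2 : g * x * g⁻¹ = (g ^ i * g ^ j) * x * (g ^ i * g ^ j)⁻¹ := by rw [← hg]
  rw [hg2]
  calc (g ^ i * g ^ j) * x * (g ^ i * g ^ j)⁻¹ = g ^ i * (g ^ j * x) * (g ^ j)⁻¹ * (g ^ i)⁻¹ := by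
        group
    _ = g ^ i * (x * g ^ j) * (g ^ j)⁻¹ * (g ^ i)⁻¹ := by rw [hc.eq]
    _ = g ^ i * x * (g ^ i)⁻¹ := by group

/-- a nilpotent group with (BP) is cyclic -/
theorem BP.isCyclic_of_nilpotent (hB : BP G) [Finite G] (hG : Group.IsNilpotent G) :
    IsCyclic G := by
  have hZ : IsZGroup G := by
    constructor
    intro p hp P
    have : Fact p.Prime := ⟨hp⟩
    have hPn : (P : Subgroup G).Normal := inferInstance
    by_cases hP : (P : Subgroup G) = ⊥
    · rw [hP]; infer_instance
    have h1 := Solv.inf_center_ne_bot_of_nilpotent (P : Subgroup G) hP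
    have h2 : p ∣ Nat.card ((P : Subgroup G) ⊓ Subgroup.center G : Subgroup G) := by
      have h3 : IsPGroup p ((P : Subgroup G) ⊓ Subgroup.center G : Subgroup G) := 
        P.2.to_le inf_le_left
      obtain ⟨k, hk⟩ := IsPGroup.iff_card.mp h3
      rw [hk]
      apply dvd_pow_self
      rintro rfl
      rw [pow_zero] at hk
      exact h1 (Subgroup.card_eq_one.mp hk)
    obtain ⟨z, hz⟩ := exists_prime_orderOf_dvd_card' p h2
    have hzo : orderOf (z : G) = p := by rw [Subgroup.orderOf_coe]; exact hz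
    have hzZ : (z : G) ∈ Subgroup.center G := z.2.2
    have hzn : (zpowers (z : G)).Normal := by
      constructor
      intro x hx g
      have : x ∈ Subgroup.center G := (zpowers_le.mpr hzZ) hx
      rw [mem_center_iff] at this
      rw [this g, mul_assoc, mul_inv_cancel, mul_one]
      exact hx
    have huniq : ∀ x : G, orderOf x = p → x ∈ zpowers (z : G) := fun x hx =>
      hB.mem_of_orderOf_eq (zpowers (z : G)) (mem_zpowers _) (hzo.trans hx.symm)
    have key : ∀ L : Subgroup P, Nat.card L = p → 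
        L.map (P : Subgroup G).subtype = zpowers (z : G) := by
      intro L hL
      have hL' : Nat.card (L.map (P : Subgroup G).subtype) = p := by
        rw [Subgroup.card_map_of_injective (Subgroup.subtype_injective _), hL]
      apply Subgroup.eq_of_le_of_card_ge
      · intro y hy
        rcases eq_or_ne y 1 with rfl | hy1
        · exact one_mem _
        · apply huniq
          have h1 : orderOf (⟨y, hy⟩ : L.map (P : Subgroup G).subtype) ∣ Nat.card (L.map (P : Subgroup G).subtype) :=
            orderOf_dvd_natCard _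
          rw [Subgroup.orderOf_mk, hL'] at h1
          exact ((Nat.dvd_prime hp).mp h1).resolve_left (fun h => hy1 (orderOf_eq_one_iff.mp h))
      · rw [Nat.card_zpowers, hzo, hL']
    rcases MaxClass.cyclic_or_quaternion P.2 (fun H K hH hK => 
      Subgroup.map_injective (Subgroup.subtype_injective _) ((key H hH).trans (key K hK).symm)) 
      with h | ⟨rfl, n, ⟨e⟩⟩
    · exact h
    · rcases Nat.eq_zero_or_pos n with rfl | hn
      · have : IsCyclic (QuaternionGroup (2 ^ 0)) := QuaternionGroup.quaternionGroup_one_isCyclic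
        exact isCyclic_of_surjective e.symm e.symm.surjective
      · exfalso
        have hnz : NeZero (2 ^ n) := ⟨by positivity⟩
        let a1 : QuaternionGroup (2 ^ n) := QuaternionGroup.a 1
        let d : QuaternionGroup (2 ^ n) := QuaternionGroup.xa 0
        have hd : orderOf d = 4 := QuaternionGroup.orderOf_xa 0
        have ha1 : orderOf a1 = 2 ^ (n + 1) := by
          rw [pow_succ, mul_comm]
          exact QuaternionGroup.orderOf_a_one
        have hc : orderOf (a1 ^ (2 ^ (n - 1))) = 4 := by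
          rw [orderOf_pow, ha1]
          have : Nat.gcd (2 ^ (n + 1)) (2 ^ (n - 1)) = 2 ^ (n - 1) :=
            Nat.gcd_eq_right (pow_dvd_pow 2 (by omega))
          rw [this, Nat.pow_div (by omega) (by norm_num)]
          have : n + 1 - (n - 1) = 2 := by omega
          rw [this]
        have hcard : Nat.card (QuaternionGroup (2 ^ n)) = 4 * 2 ^ n := by
          rw [Nat.card_eq_fintype_card, QuaternionGroup.card]
        have hidx : (zpowers a1).index = 2 := by
          have h1 := (zpowers a1).card_mul_index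
          rw [Nat.card_zpowers, ha1, hcard, pow_succ] at h1
          have h2 : 0 < 2 ^ n := by positivity
          nlinarith
        have hCn : (zpowers a1).Normal := Subgroup.normal_of_index_eq_two hidx
        have hdn : d ∉ zpowers a1 := by
          rintro ⟨k, hk⟩
          have h3 : ∃ m : ℕ, a1 ^ m = d := by
            have : d ∈ zpowers a1 := ⟨k, hk⟩
            rw [← mem_powers_iff_mem_zpowers] at this
            exact this
          obtain ⟨m, hm⟩ := h3
          rw [QuaternionGroup.a_one_pow] at hm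
          have hm' : (QuaternionGroup.a (m : ZMod (2 * 2 ^ n)) : QuaternionGroup (2 ^ n)) =
            QuaternionGroup.xa 0 := hm
          injection hm'
        have hc' : orderOf ((e.symm (a1 ^ (2 ^ (n - 1))) : P) : G) = 4 := by
          rw [Subgroup.orderOf_coe, MulEquiv.orderOf_eq, hc]
        have hd' : orderOf ((e.symm d : P) : G) = 4 := by
          rw [Subgroup.orderOf_coe, MulEquiv.orderOf_eq, hd]
        obtain ⟨g, hg⟩ := hB (zpowers ((e.symm (a1 ^ (2 ^ (n - 1))) : P) : G))
          (zpowers ((e.symm d : P) : G)) inferInstance inferInstance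
          (by rw [Nat.card_zpowers, Nat.card_zpowers, hc', hd'])
        have h1 : ((e.symm d : P) : G) ∈ zpowers ((e.symm d : P) : G) := mem_zpowers _
        rw [hg] at h1
        obtain ⟨_, ⟨k, rfl⟩, hy⟩ := h1
        obtain ⟨u, hu, hux⟩ := exists_conj_eq_of_nilpotent hG P g
        have h2 := hux (((e.symm (a1 ^ (2 ^ (n - 1))) : P) : G) ^ k) 
          (zpow_mem (SetLike.coe_mem (e.symm (a1 ^ (2 ^ (n - 1))) : P)) k)
        have h3 : u * (((e.symm (a1 ^ (2 ^ (n - 1))) : P) : G) ^ k) * u⁻¹ = ((e.symm d : P) : G) := by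
          rw [← h2]; exact hy
        have h4 : (⟨u, hu⟩ : P) * (e.symm (a1 ^ (2 ^ (n - 1)))) ^ k * (⟨u, hu⟩ : P)⁻¹ = e.symm d :=
          Subtype.ext h3
        have h5 := congrArg e h4
        rw [map_mul, map_mul, map_zpow, map_inv, e.apply_symm_apply, e.apply_symm_apply] at h5
        apply hdn
        rw [← h5]
        apply hCn.conj_mem
        exact zpow_mem (pow_mem (mem_zpowers _) _) _
  infer_instance

end Cfsg.Agent.H65
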