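import Cfsg.Prelude
import Cfsg.Agent.H65.BProp
import Cfsg.Agent.H32.Syl

set_option autoImplicit false
open Cfsg

namespace Cfsg.Agent.H65

open Subgroup
open scoped Pointwise

section Min
variable {W : Type*} [Group W] [Finite W] (K : Subgroup W) [K.Normal]
  (hK : commutator W ≤ K) (hmin : ∀ H : Subgroup W, H ⊔ K = ⊤ → H = ⊤)
include hK hmin

theorem sylow_normal_of_min {p : ℕ} [Fact p.Prime] (T : Sylow p W) : (T : Subgroup W).Normal := by
  have hN : ((T : Subgroup W) ⊔ K).Normal := Subgroup.Normal.of_commutator_le W (hK.trans le_sup_right)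
  have h1 := Sylow.normalizer_sup_eq_top' T (N := (T : Subgroup W) ⊔ K) le_sup_left
  have h2 : normalizer ((T : Subgroup W) : Set W) ⊔ K = ⊤ := by
    rw [← top_le_iff, ← h1]
    refine sup_le le_sup_left (sup_le ?_ le_sup_right)
    exact le_trans le_normalizer le_sup_left
  exact normalizer_eq_top_iff.mp (hmin _ h2)

theorem not_dvd_card_of_min {p : ℕ} [hp : Fact p.Prime] (h : ¬ p ∣ K.index) :
    ¬ p ∣ Nat.card W := by
  obtain ⟨T⟩ : Nonempty (Sylow p W) := inferInstance
  have hT : (T : Subgroup W).Normal := sylow_normal_of_min K hK hmin T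
  obtain ⟨C, hC⟩ := exists_right_complement'_of_coprime (N := (T : Subgroup W))
    (Sylow.card_coprime_index T)
  have hTK : (T : Subgroup W) ≤ K := by
    have h1 : IsPGroup p ((T : Subgroup W).map (QuotientGroup.mk' K)) := T.2.map _
    have h2 : (T : Subgroup W).map (QuotientGroup.mk' K) = ⊥ := by
      obtain ⟨k, hk⟩ := IsPGroup.iff_card.mp h1
      apply Subgroup.card_eq_one.mp
      rw [hk]
      rcases Nat.eq_zero_or_pos k with rfl | hk0
      · exact pow_zero p
      · exfalso
        apply h
        rw [Subgroup.index_eq_card]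
        exact (dvd_pow_self p hk0.ne').trans (hk ▸ Subgroup.card_subgroup_dvd_card _)
    rw [Subgroup.map_eq_bot_iff, QuotientGroup.ker_mk'] at h2
    exact h2
  have hCtop : C = ⊤ := by
    apply hmin
    rw [← top_le_iff, ← hC.sup_eq_top]
    exact sup_le (hTK.trans le_sup_right) le_sup_left
  intro hd
  have h2 := hC.card_mul_card
  rw [hCtop, Nat.card_congr (Subgroup.topEquiv (G := W)).toEquiv] at h2
  have hW : 0 < Nat.card W := Nat.card_pos
  have h3 : Nat.card (T : Subgroup W) = 1 := by
    have : Nat.card (T : Subgroup W) * Nat.card W = 1 * Nat.card W := by rw [one_mul]; exact h2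
    exact Nat.eq_of_mul_eq_mul_right hW this
  have h4 : p ∣ Nat.card (T : Subgroup W) := Sylow.dvd_card_of_dvd_card T hd
  rw [h3] at h4
  exact hp.out.one_lt.ne' (Nat.dvd_one.mp h4)

end Min

/-- a group with normal abelian Sylow subgroups is abelian -/
theorem comm_of_sylow {W : Type*} [Group W] [Finite W]
    (h1 : ∀ (p : ℕ) (hp : Fact p.Prime) (T : Sylow p W), (T : Subgroup W).Normal)
    (h2 : ∀ (p : ℕ) (hp : Fact p.Prime) (T : Sylow p W), IsMulCommutative (T : Subgroup W)) (a b : W) :
    a * b = b * a := by
  have hZ : Subgroup.center W = ⊤ := by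
    apply Subgroup.eq_top_of_card_eq
    apply Nat.dvd_antisymm (Subgroup.card_subgroup_dvd_card _)
    apply (Nat.dvd_iff_prime_pow_dvd_dvd _ _).mpr
    intro p k hp hpk
    haveI : Fact p.Prime := ⟨hp⟩
    obtain ⟨T⟩ : Nonempty (Sylow p W) := inferInstance
    have h3 : p ^ k ∣ Nat.card (T : Subgroup W) := by
      rw [Sylow.card_eq_multiplicity]
      apply pow_dvd_pow
      exact (hp.pow_dvd_iff_le_factorization (Nat.card_pos).ne').mp hpk
    refine h3.trans (Subgroup.card_dvd_of_le ?_)
    intro x hx
    rw [mem_center_iff]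
    intro g
    -- the centralizer of x contains every Sylow subgroup
    have key : centralizer ({x} : Set W) = ⊤ := by
      apply Subgroup.eq_top_of_card_eq
      apply Nat.dvd_antisymm (Subgroup.card_subgroup_dvd_card _)
      apply (Nat.dvd_iff_prime_pow_dvd_dvd _ _).mpr
      intro q l hq hql
      haveI : Fact q.Prime := ⟨hq⟩
      obtain ⟨S⟩ : Nonempty (Sylow q W) := inferInstance
      have h4 : q ^ l ∣ Nat.card (S : Subgroup W) := by
        rw [Sylow.card_eq_multiplicity]
        apply pow_dvd_pow
        exact (hq.pow_dvd_iff_le_factorization (Nat.card_pos).ne').mp hql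
      refine h4.trans (Subgroup.card_dvd_of_le ?_)
      intro y hy
      rw [mem_centralizer_singleton_iff]
      by_cases hpq : p = q
      · subst hpq
        have hTn := h1 p ⟨hp⟩ T
        have : S = T := by
          obtain ⟨w, rfl⟩ := MulAction.exists_smul_eq W T S
          exact Sylow.smul_eq_of_normal
        rw [this] at hy
        have h5 := (h2 p ⟨hp⟩ T).is_comm.comm ⟨y, hy⟩ ⟨x, hx⟩
        exact congrArg Subtype.val h5
      · have hd : Disjoint (T : Subgroup W) (S : Subgroup W) :=
          IsPGroup.disjoint_of_ne p q hpq _ _ T.2 S.2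
        exact (Subgroup.commute_of_normal_of_disjoint _ _ (h1 p ⟨hp⟩ T) (h1 q ⟨hq⟩ S) hd x y hx hy).eq.symm
    have : g ∈ centralizer ({x} : Set W) := key ▸ mem_top g
    exact mem_centralizer_singleton_iff.mp this
  have : a ∈ Subgroup.center W := hZ ▸ mem_top a
  exact (mem_center_iff.mp this b).symm

theorem cyclic_le_of_card_dvd {C : Type*} [Group C] [Finite C] [IsCyclic C] {H K : Subgroup C}
    (h : Nat.card H ∣ Nat.card K) : H ≤ K := by
  classical
  have := Fintype.ofFinite C
  intro x hx
  have h1 : x ^ Nat.card K = 1 := by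
    obtain ⟨m, hm⟩ := h
    have : x ^ Nat.card H = 1 := by
      have h2 : (⟨x, hx⟩ : H) ^ Nat.card H = 1 := pow_card_eq_one'
      exact congrArg Subtype.val h2
    rw [hm, pow_mul, this, one_pow]
  have h2 : (Finset.univ.filter fun a : C => a ∈ K) = Finset.univ.filter fun a : C => a ^ Nat.card K = 1 := by
    apply Finset.eq_of_subset_of_card_le
    · intro a ha
      rw [Finset.mem_filter] at ha ⊢
      refine ⟨ha.1, ?_⟩
      have h2 : (⟨a, ha.2⟩ : K) ^ Nat.card K = 1 := pow_card_eq_one'
      exact congrArg Subtype.val h2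
    · refine (IsCyclic.card_pow_eq_one_le Nat.card_pos).trans ?_
      rw [← Fintype.card_subtype, Nat.card_eq_fintype_card]
  have h3 : x ∈ (Finset.univ.filter fun a : C => a ^ Nat.card K = 1) := by
    rw [Finset.mem_filter]; exact ⟨Finset.mem_univ _, h1⟩
  rw [← h2, Finset.mem_filter] at h3
  exact h3.2

theorem le_or_le_of_cyclic {G : Type*} [Group G] [Finite G] {p : ℕ} [hp : Fact p.Prime] {P : Subgroup G}
    (hP : IsPGroup p P) [IsCyclic P] {H K : Subgroup G} (hH : H ≤ P) (hK : K ≤ P) : H ≤ K ∨ K ≤ H := by
  have h1 : Nat.card (H.subgroupOf P) = Nat.card H := by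
    rw [← Subgroup.card_map_of_injective (Subgroup.subtype_injective P), Subgroup.subgroupOf_map_subtype,
      inf_eq_left.mpr hH]
  have h2 : Nat.card (K.subgroupOf P) = Nat.card K := by
    rw [← Subgroup.card_map_of_injective (Subgroup.subtype_injective P), Subgroup.subgroupOf_map_subtype,
      inf_eq_left.mpr hK]
  obtain ⟨a, ha⟩ := IsPGroup.iff_card.mp (hP.to_le hH)
  obtain ⟨b, hb⟩ := IsPGroup.iff_card.mp (hP.to_le hK)
  rcases le_total a b with h | h
  · left
    have h3 : H.subgroupOf P ≤ K.subgroupOf P := by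
      apply cyclic_le_of_card_dvd
      rw [h1, h2, ha, hb]
      exact pow_dvd_pow p h
    intro x hx
    exact mem_subgroupOf.mp (h3 (mem_subgroupOf.mpr (show ((⟨x, hH hx⟩ : P) : G) ∈ H from hx)))
  · right
    have h3 : K.subgroupOf P ≤ H.subgroupOf P := by
      apply cyclic_le_of_card_dvd
      rw [h1, h2, ha, hb]
      exact pow_dvd_pow p h
    intro x hx
    exact mem_subgroupOf.mp (h3 (mem_subgroupOf.mpr (show ((⟨x, hK hx⟩ : P) : G) ∈ K from hx)))

/-- every abelian subgroup of `G ⧸ M` lifts to an abelian subgroup with controlled order -/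
theorem BP.exists_lift {G : Type*} [Group G] [Finite G] (hB : BP G) (M : Subgroup G) [hMn : M.Normal]
    (hM : Odd (Nat.card M)) (A : Subgroup (G ⧸ M)) (hA : IsMulCommutative A) :
    ∃ A₀ : Subgroup G, IsMulCommutative A₀ ∧ A₀.map (QuotientGroup.mk' M) = A ∧
      ∀ p : ℕ, p.Prime → (Nat.card A₀).factorization p =
        if p ∣ Nat.card A then (Nat.card A).factorization p + (Nat.card M).factorization p else 0 := by
  classical
  -- minimal supplement
  obtain ⟨A₀, hA₀, hmin⟩ : ∃ A₀ : Subgroup G, A₀.map (QuotientGroup.mk' M) = A ∧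
      ∀ H : Subgroup G, H.map (QuotientGroup.mk' M) = A → H ≤ A₀ → H = A₀ := by
    have hex : ({H : Subgroup G | H.map (QuotientGroup.mk' M) = A}).Nonempty :=
      ⟨A.comap (QuotientGroup.mk' M), Subgroup.map_comap_eq_self_of_surjective
        (QuotientGroup.mk'_surjective M) A⟩
    obtain ⟨A₀, h1, h2⟩ := (Set.toFinite {H : Subgroup G | H.map (QuotientGroup.mk' M) = A}).exists_minimal hex
    exact ⟨A₀, h1, fun H hH hle => le_antisymm hle (h2 hH hle)⟩
  -- the subgroup M ∩ A₀ of A₀
  let K : Subgroup A₀ := M.subgroupOf A₀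
  have hKn : K.Normal := inferInstance
  have hK : commutator A₀ ≤ K := by
    rw [commutator_def, commutator_le]
    intro x _ y _
    rw [mem_subgroupOf]
    have h1 : QuotientGroup.mk' M (x : G) ∈ A := hA₀ ▸ Subgroup.mem_map_of_mem _ x.2
    have h2 : QuotientGroup.mk' M (y : G) ∈ A := hA₀ ▸ Subgroup.mem_map_of_mem _ y.2
    have h3 := hA.is_comm.comm ⟨_, h1⟩ ⟨_, h2⟩
    have h4 : QuotientGroup.mk' M (x : G) * QuotientGroup.mk' M (y : G) =
      QuotientGroup.mk' M (y : G) * QuotientGroup.mk' M (x : G) := congrArg Subtype.val h3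
    rw [← QuotientGroup.ker_mk' M, MonoidHom.mem_ker, commutatorElement_def]
    push_cast
    rw [map_mul, map_mul, map_mul, map_inv, map_inv, h4]
    group
  have hKmin : ∀ H : Subgroup A₀, H ⊔ K = ⊤ → H = ⊤ := by
    intro H hH
    have h1 : (H.map A₀.subtype).map (QuotientGroup.mk' M) = A := by
      have h2 : ((H ⊔ K).map A₀.subtype).map (QuotientGroup.mk' M) = A := by
        rw [hH, ← MonoidHom.range_eq_map, Subgroup.range_subtype, hA₀]
      rw [Subgroup.map_sup, Subgroup.map_sup] at h2
      have h3 : (K.map A₀.subtype).map (QuotientGroup.mk' M) = ⊥ := by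
        rw [Subgroup.map_eq_bot_iff, QuotientGroup.ker_mk']
        rw [Subgroup.subgroupOf_map_subtype]
        exact inf_le_left
      rwa [h3, sup_bot_eq] at h2
    have h2 := hmin _ h1 (Subgroup.map_subtype_le H)
    rw [eq_top_iff]
    intro x _
    have h3 : (x : G) ∈ H.map A₀.subtype := by rw [h2]; exact x.2
    obtain ⟨y, hy, hyx⟩ := h3
    have : y = x := Subtype.ext hyx
    exact this ▸ hy
  have hcardA : K.index = Nat.card A := by
    rw [← hA₀]
    have := Subgroup.relIndex_ker (K := A₀) (QuotientGroup.mk' M)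
    rw [QuotientGroup.ker_mk'] at this
    exact this
  have hcard : Nat.card K * Nat.card A = Nat.card A₀ := by
    rw [← hcardA]; exact K.card_mul_index
  have hKcard : Nat.card K = Nat.card (M ⊓ A₀ : Subgroup G) := by
    rw [← Subgroup.subgroupOf_map_subtype, Subgroup.card_map_of_injective (Subgroup.subtype_injective _)]
  -- Sylow structure
  have key : ∀ (p : ℕ) (hp : Fact p.Prime) (T : Sylow p A₀), IsMulCommutative (T : Subgroup A₀) ∧
      (p ∣ Nat.card A → (Nat.card K).factorization p = (Nat.card M).factorization p) := by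
    intro p hp T
    by_cases hpA : p ∣ Nat.card A
    · by_cases hpM : p ∣ Nat.card M
      · -- Sylow subgroups of G are cyclic
        have hp2 : p ≠ 2 := by
          rintro rfl
          have := hM
          rw [← Nat.not_even_iff_odd] at this
          exact this (even_iff_two_dvd.mpr hpM)
        obtain ⟨P, hP⟩ := (T.2.map A₀.subtype).exists_le_sylow
        -- the image of P in G/M is nontrivial
        have hTM : ¬ ((T : Subgroup A₀).map A₀.subtype ≤ M) := by
          intro hle
          have h1 : (T : Subgroup A₀) ≤ K := by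
            intro x hx
            exact mem_subgroupOf.mpr (hle (Subgroup.mem_map_of_mem _ hx))
          have h2 : Nat.card (T : Subgroup A₀) * p ∣ Nat.card A₀ := by
            rw [← hcard]
            exact Nat.mul_dvd_mul (Subgroup.card_dvd_of_le h1) hpA
          rw [Sylow.card_eq_multiplicity, ← pow_succ] at h2
          have h3 := (hp.out.pow_dvd_iff_le_factorization (Nat.card_pos).ne').mp h2
          omega
        have hcyc : IsCyclic (P : Subgroup G) := by
          rcases hB.sylow_cases P with h | ⟨h, -⟩ | h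
          · exact h
          · exact absurd h hp2
          · exfalso
            apply hTM
            rintro _ ⟨x, hx, rfl⟩
            obtain ⟨m, hm⟩ := exists_prime_orderOf_dvd_card' p hpM
            rcases eq_or_ne x 1 with rfl | hx1
            · exact one_mem _
            obtain ⟨k, hk⟩ := IsPGroup.iff_orderOf.mp T.2 ⟨x, hx⟩
            rw [Subgroup.orderOf_mk, ← Subgroup.orderOf_coe] at hk
            have h1 := h _ _ hk
            have h2 : orderOf (x : G) = p := orderOf_eq_prime h1 (fun h => hx1 (Subtype.ext h))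
            exact hB.mem_of_orderOf_eq M m.2 (by
              rw [Subgroup.orderOf_coe, hm]; exact h2.symm)
        have hchain : (P : Subgroup G) ⊓ M ≤ (T : Subgroup A₀).map A₀.subtype := by
          rcases le_or_le_of_cyclic P.2 (H := (T : Subgroup A₀).map A₀.subtype) hP
            (inf_le_left : (P : Subgroup G) ⊓ M ≤ P) with h | h
          · exact absurd (h.trans inf_le_right) hTM
          · exact h
        have hPM : Nat.card ((P : Subgroup G) ⊓ M : Subgroup G) = p ^ (Nat.card M).factorization p := by
          have h1 := H32.not_dvd_relIndex_inf_of_normal P M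
          have h2 := H32.card_mul_relIndex (inf_le_right : (P : Subgroup G) ⊓ M ≤ M)
          obtain ⟨a, ha⟩ := IsPGroup.iff_card.mp
            (P.2.to_le (inf_le_left : (P : Subgroup G) ⊓ M ≤ P))
          have h3 : ((P : Subgroup G) ⊓ M).relIndex M ≠ 0 := by
            intro h0
            rw [h0, mul_zero] at h2
            exact (Nat.card_pos (α := M)).ne h2
          rw [ha, ← h2, ha, Nat.factorization_mul (pow_ne_zero _ hp.out.pos.ne') h3,
            Finsupp.add_apply, Nat.factorization_eq_zero_of_not_dvd h1, add_zero,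
            hp.out.factorization_pow, Finsupp.single_eq_same]
        constructor
        · refine ⟨⟨fun a b => ?_⟩⟩
          have h1 : (⟨((a : A₀) : G), hP (Subgroup.mem_map_of_mem _ a.2)⟩ : P) *
            ⟨((b : A₀) : G), hP (Subgroup.mem_map_of_mem _ b.2)⟩ = 
            ⟨((b : A₀) : G), hP (Subgroup.mem_map_of_mem _ b.2)⟩ * 
            ⟨((a : A₀) : G), hP (Subgroup.mem_map_of_mem _ a.2)⟩ := IsCyclic.isMulCommutative.is_comm.comm _ _
          have h2 := congrArg Subtype.val h1
          exact Subtype.ext (Subtype.ext h2)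
        · intro _
          apply le_antisymm
          · apply (Nat.factorization_le_iff_dvd (Nat.card_pos).ne' (Nat.card_pos).ne').mpr
            rw [hKcard]
            exact Subgroup.card_dvd_of_le inf_le_left
          · rw [← hp.out.pow_dvd_iff_le_factorization (Nat.card_pos).ne', ← hPM, hKcard]
            apply Subgroup.card_dvd_of_le
            exact le_inf inf_le_right (hchain.trans (Subgroup.map_subtype_le _))
      · constructor
        · refine ⟨⟨fun a b => ?_⟩⟩
          have h1 : (a : A₀) * b * (a : A₀)⁻¹ * (b : A₀)⁻¹ ∈ K := by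
            apply hK
            rw [← commutatorElement_def]
            exact commutator_mem_commutator (mem_top _) (mem_top _)
          have h2 : (a : A₀) * b * (a : A₀)⁻¹ * (b : A₀)⁻¹ ∈ (T : Subgroup A₀) :=
            mul_mem (mul_mem (mul_mem a.2 b.2) (inv_mem a.2)) (inv_mem b.2)
          obtain ⟨k, hk⟩ := IsPGroup.iff_orderOf.mp T.2 ⟨_, h2⟩
          have h3 : orderOf (⟨_, h1⟩ : K) ∣ Nat.card K := orderOf_dvd_natCard _
          rw [Subgroup.orderOf_mk] at hk h3
          rw [hk, hKcard] at h3
          have h4 : p ^ k ∣ Nat.card M := h3.trans (Subgroup.card_dvd_of_le inf_le_left)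
          have hk0 : k = 0 := by
            by_contra hk0
            exact hpM ((dvd_pow_self p hk0).trans h4)
          rw [hk0, pow_zero, orderOf_eq_one_iff] at hk
          apply Subtype.ext
          show (a : A₀) * b = b * a
          rw [mul_inv_eq_one, mul_inv_eq_iff_eq_mul] at hk
          exact hk
        · intro _
          rw [Nat.factorization_eq_zero_of_not_dvd hpM, Nat.factorization_eq_zero_of_not_dvd]
          intro h
          apply hpM
          rw [hKcard] at h
          exact h.trans (Subgroup.card_dvd_of_le inf_le_left)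
    · have h1 := not_dvd_card_of_min K hK hKmin (p := p) (by rw [hcardA]; exact hpA)
      refine ⟨?_, fun h => absurd h hpA⟩
      have h2 : Nat.card (T : Subgroup A₀) = 1 := by
        rw [Sylow.card_eq_multiplicity, Nat.factorization_eq_zero_of_not_dvd h1, pow_zero]
      have : Subsingleton (T : Subgroup A₀) := (Nat.card_eq_one_iff_unique.mp h2).1
      exact ⟨⟨fun a b => Subsingleton.elim _ _⟩⟩
  refine ⟨A₀, ?_, hA₀, ?_⟩
  · exact ⟨⟨comm_of_sylow (fun p hp T => sylow_normal_of_min K hK hKmin T) (fun p hp T => (key p hp T).1)⟩⟩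
  · intro p hp
    have : Fact p.Prime := ⟨hp⟩
    obtain ⟨T⟩ : Nonempty (Sylow p A₀) := inferInstance
    split_ifs with h
    · rw [← hcard, Nat.factorization_mul (Nat.card_pos).ne' (Nat.card_pos).ne', Finsupp.add_apply,
        (key p this T).2 h, add_comm]
    · exact Nat.factorization_eq_zero_of_not_dvd
        (not_dvd_card_of_min K hK hKmin (p := p) (by rw [hcardA]; exact h))

theorem BP.quotient_odd {G : Type*} [Group G] [Finite G] (hB : BP G) (M : Subgroup G)
    [hMn : M.Normal] (hM : Odd (Nat.card M)) : BP (G ⧸ M) := by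
  intro A B hA hBc hcard
  obtain ⟨A₀, hA1, hA2, hA3⟩ := hB.exists_lift M hM A hA
  obtain ⟨B₀, hB1, hB2, hB3⟩ := hB.exists_lift M hM B hBc
  have hc : Nat.card A₀ = Nat.card B₀ := by
    apply Nat.eq_of_factorization_eq (Nat.card_pos).ne' (Nat.card_pos).ne'
    intro p
    by_cases hp : p.Prime
    · rw [hA3 p hp, hB3 p hp, hcard]
    · rw [Nat.factorization_eq_zero_of_not_prime _ hp, Nat.factorization_eq_zero_of_not_prime _ hp]
  obtain ⟨g, hg⟩ := hB A₀ B₀ hA1 hB1 hc
  refine ⟨QuotientGroup.mk' M g, ?_⟩
  rw [← hA2, ← hB2, hg, Subgroup.map_map, Subgroup.map_map]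
  congr 1

end Cfsg.Agent.H65
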