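import Mathlib
import Cfsg.Agent.Transfer.Frobenius
import Cfsg.Agent.H65.Basic

set_option autoImplicit false

namespace Cfsg.Agent.H65

open Subgroup Cfsg.Agent.Transfer
open scoped Pointwise

/-- p-power order and coprime to p implies trivial. -/
theorem eq_one_of_coprime_of_pow {G : Type*} [Group G] {p : ℕ} {x : G} {k : ℕ}
    (h1 : (orderOf x).Coprime p) (h2 : orderOf x ∣ p ^ k) : x = 1 := by
  rw [← orderOf_eq_one_iff]
  exact Nat.Coprime.eq_one_of_dvd (h1.pow_right k) h2

theorem exists_enlarge_aux {H : Type*} [Group H] [Finite H] {p : ℕ} [Fact p.Prime]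
    (Q : Subgroup H) [Q.Normal] (hQ : IsPGroup p Q) {g : H}
    (hgp : (orderOf g).Coprime p) (hgC : g ∉ centralizer (Q : Set H))
    (T : Subgroup H) (hT : IsPGroup p T) (hTC : T ≤ centralizer (Q : Set H)) :
    ∃ R : Subgroup H, IsPGroup p R ∧ Q ≤ R ∧ T ≤ R ∧ ∃ a ∈ normalizer (R : Set H),
      (orderOf a).Coprime p ∧ a ∉ centralizer (Q : Set H) := by
  set C := centralizer (Q : Set H) with hC
  have hCn : C.Normal := by rw [hC]; infer_instance
  set N := Q ⊔ C with hN
  have hNn : N.Normal := by rw [hN]; infer_instance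
  have hQT : IsPGroup p (Q ⊔ T : Subgroup H) := IsPGroup.to_sup_of_normal_left hQ hT
  have hQTN : Q ⊔ T ≤ N := sup_le_sup_left hTC Q
  have hQT' : IsPGroup p ((Q ⊔ T).subgroupOf N) := hQT.comap_subtype
  obtain ⟨R', hR'⟩ := hQT'.exists_le_sylow
  set R := (R' : Subgroup N).map N.subtype with hR
  have hQTR : Q ⊔ T ≤ R := by
    intro x hx
    exact ⟨⟨x, hQTN hx⟩, hR' (by rwa [mem_subgroupOf]), rfl⟩
  have hfr := Sylow.normalizer_sup_eq_top R'
  have hg : g ∈ normalizer (R : Set H) ⊔ N := hfr ▸ mem_top g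
  obtain ⟨a, ha, n, hn, hgan⟩ := Subgroup.mem_sup_of_normal_right.mp hg
  obtain ⟨i, j, hij, ⟨k, hk⟩, hj⟩ := exists_pow_decomp p a (orderOf_pos a).ne'
  refine ⟨R, R'.2.map _, le_sup_left.trans hQTR, le_sup_right.trans hQTR, a ^ j,
    pow_mem ha j, hj, ?_⟩
  intro hajC
  -- g lies in N
  have hgN : g ∈ N := by
    have hN' : a ^ j ∈ N := (le_sup_right : C ≤ N) hajC
    have h1 : (QuotientGroup.mk' N) g = (QuotientGroup.mk' N) (a ^ i) := by
      rw [← hgan, map_mul]
      have e1 : (QuotientGroup.mk' N) n = 1 := by simpa using hn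
      have e2 : (QuotientGroup.mk' N) (a ^ j) = 1 := by
        rw [QuotientGroup.mk'_apply, QuotientGroup.eq_one_iff]; exact hN'
      rw [e1, mul_one]
      conv_lhs => rw [hij]
      rw [map_mul, e2, mul_one]
    have h2 : (QuotientGroup.mk' N) g = 1 := by
      apply eq_one_of_coprime_of_pow (p := p) (k := k)
      · exact Nat.Coprime.coprime_dvd_left (orderOf_map_dvd _ g) hgp
      · rw [h1, ← hk]; exact orderOf_map_dvd _ _
    rwa [QuotientGroup.mk'_apply, QuotientGroup.eq_one_iff] at h2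
  obtain ⟨q, hq, c, hc, hqc⟩ := Subgroup.mem_sup_of_normal_right.mp hgN
  apply hgC
  have h3 : (QuotientGroup.mk' C) g = (QuotientGroup.mk' C) q := by
    rw [← hqc, map_mul]
    have e1 : (QuotientGroup.mk' C) c = 1 := by
      rw [QuotientGroup.mk'_apply, QuotientGroup.eq_one_iff]; exact hc
    rw [e1, mul_one]
  have h4 : (QuotientGroup.mk' C) g = 1 := by
    obtain ⟨k, hk⟩ := hQ ⟨q, hq⟩
    have hk' : q ^ p ^ k = 1 := by
      have := congrArg Subtype.val hk
      simpa using this
    apply eq_one_of_coprime_of_pow (p := p) (k := k)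
    · exact Nat.Coprime.coprime_dvd_left (orderOf_map_dvd _ g) hgp
    · rw [h3]
      exact (orderOf_map_dvd _ _).trans (orderOf_dvd_of_pow_eq_one hk')
  rwa [QuotientGroup.mk'_apply, QuotientGroup.eq_one_iff] at h4

/-- A `p'`-element outside `C` has an `r`-part outside `C`. -/
theorem exists_prime_part {G : Type*} [Group G] [Finite G] {p : ℕ} (C : Subgroup G) {g : G}
    (hgp : (orderOf g).Coprime p) (hgC : g ∉ C) :
    ∃ (r : ℕ) (A : Subgroup G), r.Prime ∧ r ≠ p ∧ r ∣ orderOf g ∧ IsPGroup r A ∧ A ≤ zpowers g ∧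
      ¬ A ≤ C := by
  have h1 : (C.subgroupOf (zpowers g)).index ≠ 1 := by
    rw [Ne, index_eq_one, subgroupOf_eq_top]
    intro h
    exact hgC (h (mem_zpowers g))
  obtain ⟨r, hr, hrd⟩ := Nat.exists_prime_and_dvd h1
  have : Fact r.Prime := ⟨hr⟩
  obtain ⟨R⟩ := (inferInstance : Nonempty (Sylow r (zpowers g)))
  have hrg : r ∣ orderOf g := by
    rw [← Nat.card_zpowers]
    exact hrd.trans (index_dvd_card _)
  refine ⟨r, (R : Subgroup (zpowers g)).map (zpowers g).subtype, hr, ?_, hrg, R.2.map _,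
    Subgroup.map_subtype_le _, ?_⟩
  · rintro rfl
    exact hr.one_lt.ne'
      (Nat.Coprime.eq_one_of_dvd (Nat.Coprime.coprime_dvd_left hrg hgp) dvd_rfl)
  · intro h
    apply R.not_dvd_index
    refine hrd.trans (index_dvd_of_le ?_)
    intro x hx
    rw [mem_subgroupOf]
    exact h ⟨x, hx, rfl⟩

/-- If `G` has no normal `p`-complement then there are a centric `p`-subgroup `Q` and an `r`-subgroup,
`r ≠ p`, acting nontrivially on `Q`. -/
theorem exists_frobenius_witness {G : Type*} [Group G] [Finite G] {p : ℕ} [Fact p.Prime]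
    (h : ¬ Cfsg.HasNormalPComplement p G) :
    ∃ (P : Sylow p G) (Q A : Subgroup G) (r : ℕ), r.Prime ∧ r ≠ p ∧ r ∣ Nat.card G ∧
      Q ≤ P ∧ A ≤ normalizer (Q : Set G) ∧ IsPGroup r A ∧ ¬ A ≤ centralizer (Q : Set G) ∧
      (P : Subgroup G) ⊓ centralizer (Q : Set G) ≤ Q := by
  have hF := mt hasNPC_of_frobenius h
  push Not at hF
  obtain ⟨Q0, hQ0, g0, hg0, hg0p, hg0C⟩ := hF
  let S : Set (Subgroup G) := {Q | IsPGroup p Q ∧ ∃ g ∈ normalizer (Q : Set G),
    (orderOf g).Coprime p ∧ g ∉ centralizer (Q : Set G)}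
  obtain ⟨Q, ⟨hQ, g, hgN, hgp, hgC⟩, hmax⟩ := Set.exists_max_image S
    (fun Q => Nat.card Q) (Set.toFinite S) ⟨Q0, hQ0, g0, hg0, hg0p, hg0C⟩
  -- the claim
  have claim : ∀ T : Subgroup G, IsPGroup p T → T ≤ centralizer (Q : Set G) → T ≤ Q := by
    intro T hT hTC
    set H := normalizer (Q : Set G) with hH
    have hQH : Q ≤ H := le_normalizer
    have hCH : centralizer (Q : Set G) ≤ H := by
      intro x hx
      rw [hH, mem_normalizer_iff]
      rw [mem_centralizer_iff] at hx
      intro y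
      constructor
      · intro hy
        have : x * y * x⁻¹ = y := by rw [← hx y hy]; group
        rwa [this]
      · intro hy
        have h5 := hx _ hy
        have : x * y * x⁻¹ = y := by
          have e : x * y * x⁻¹ * x = x * (x * y * x⁻¹) := h5
          have e2 : x * y = x * (x * y * x⁻¹) := by rw [← e]; group
          exact (mul_left_cancel e2).symm
        rwa [this] at hy
    have hmemC : ∀ x : H, x ∈ centralizer ((Q.subgroupOf H : Subgroup H) : Set H) ↔
        (x : G) ∈ centralizer (Q : Set G) := by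
      intro x
      rw [mem_centralizer_iff, mem_centralizer_iff]
      constructor
      · intro hx y hy
        have := hx ⟨y, hQH hy⟩ (by rwa [SetLike.mem_coe, mem_subgroupOf])
        exact congrArg Subtype.val this
      · intro hx y hy
        apply Subtype.ext
        exact hx y (by rwa [SetLike.mem_coe, mem_subgroupOf] at hy)
    have hnorm : (Q.subgroupOf H).Normal := by rw [hH]; exact Subgroup.normal_in_normalizer
    obtain ⟨R, hR, hQR, hTR, a, ha, hap, haC⟩ := exists_enlarge_aux (p := p) (Q.subgroupOf H)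
      hQ.comap_subtype (g := ⟨g, hgN⟩) (by rwa [Subgroup.orderOf_mk])
      (by rw [hmemC]; exact hgC) (T.subgroupOf H) hT.comap_subtype (by
        intro x hx
        rw [hmemC]
        exact hTC (by rwa [mem_subgroupOf] at hx))
    have hQR' : Q ≤ R.map H.subtype := by
      intro x hx
      exact ⟨⟨x, hQH hx⟩, hQR (by rwa [mem_subgroupOf]), rfl⟩
    have hTR' : T ≤ R.map H.subtype := by
      intro x hx
      exact ⟨⟨x, hCH (hTC hx)⟩, hTR (by rwa [mem_subgroupOf]), rfl⟩
    have hRS : R.map H.subtype ∈ S := by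
      refine ⟨hR.map _, a, ?_, by rwa [orderOf_coe], ?_⟩
      · rw [mem_normalizer_iff]
        intro y
        rw [mem_normalizer_iff] at ha
        constructor
        · rintro ⟨y, hy, rfl⟩
          exact ⟨a * y * a⁻¹, (ha y).mp hy, by simp⟩
        · rintro ⟨z, hz, hzy⟩
          refine ⟨a⁻¹ * z * a, ?_, ?_⟩
          · rw [SetLike.mem_coe, ha]
            have : a * (a⁻¹ * z * a) * a⁻¹ = z := by group
            rw [this]; exact hz
          · simp only [map_mul, map_inv, hzy]
            simp only [Subgroup.coe_subtype]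
            group
      · intro hcen
        apply haC
        rw [hmemC]
        exact centralizer_le hQR' hcen
    have hle := hmax _ hRS
    have heq : Q = R.map H.subtype := Subgroup.eq_of_le_of_card_ge hQR' hle
    rw [heq]
    exact hTR'
  obtain ⟨P, hP⟩ := hQ.exists_le_sylow
  obtain ⟨r, A, hr, hrp, hrg, hA, hAg, hAC⟩ := exists_prime_part (centralizer (Q : Set G)) hgp hgC
  exact ⟨P, Q, A, r, hr, hrp, hrg.trans (orderOf_dvd_natCard g), hP,
    hAg.trans (by rwa [zpowers_le]), hA, hAC, claim _ (P.2.to_inf_left) inf_le_right⟩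

end Cfsg.Agent.H65
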