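import Mathlib
import Cfsg.Agent.H65.Enlarge

set_option autoImplicit false

namespace Cfsg.Agent.H65

open Subgroup Cfsg.Agent.Transfer
open scoped Pointwise

/-- `x` is a `π`-element. -/
def PiEl (π : Set ℕ) {G : Type*} [Group G] (x : G) : Prop :=
  ∀ r : ℕ, r.Prime → r ∣ orderOf x → r ∈ π

/-- number of classes of `π`-elements -/
noncomputable def kcl (π : Set ℕ) (G : Type*) [Group G] : ℕ :=
  Nat.card {c : ConjClasses G // ∀ x ∈ c.carrier, PiEl π x}

section basic
variable {G : Type*} [Group G]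

theorem orderOf_conj (g x : G) : orderOf (g * x * g⁻¹) = orderOf x := by
  have := orderOf_injective (MulAut.conj g).toMonoidHom (MulAut.conj g).injective x
  simpa using this

theorem piEl_conj {π : Set ℕ} (g x : G) : PiEl π (g * x * g⁻¹) ↔ PiEl π x := by
  unfold PiEl; rw [orderOf_conj]

theorem piEl_of_isConj {π : Set ℕ} {x y : G} (h : IsConj x y) : PiEl π x ↔ PiEl π y := by
  obtain ⟨g, rfl⟩ := isConj_iff.mp h
  exact (piEl_conj g x).symm

theorem forall_carrier_iff {π : Set ℕ} (x : G) :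
    (∀ y ∈ (ConjClasses.mk x).carrier, PiEl π y) ↔ PiEl π x := by
  constructor
  · intro h; exact h x ConjClasses.mem_carrier_mk
  · intro h y hy
    rw [ConjClasses.mem_carrier_iff_mk_eq, ConjClasses.mk_eq_mk_iff_isConj] at hy
    exact (piEl_of_isConj hy).mpr h

theorem piEl_singleton_iff [Finite G] {p : ℕ} (hp : p.Prime) (x : G) :
    PiEl {p} x ↔ ∃ k : ℕ, orderOf x = p ^ k := by
  constructor
  · intro h
    refine ⟨(orderOf x).primeFactorsList.length, ?_⟩
    apply Nat.eq_prime_pow_of_unique_prime_dvd (orderOf_pos x).ne'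
    intro d hd hdx
    exact h d hd hdx
  · rintro ⟨k, hk⟩ r hr hrx
    rw [hk] at hrx
    exact (Nat.prime_dvd_prime_iff_eq hr hp).mp (hr.dvd_of_dvd_pow hrx)

theorem kcl_singleton [Finite G] {p : ℕ} (hp : p.Prime) :
    kcl {p} G = Nat.card {c : ConjClasses G // ∀ x ∈ c.carrier, ∃ k : ℕ, orderOf x = p ^ k} := by
  unfold kcl
  simp_rw [piEl_singleton_iff hp]

/-- counting lemma: disjoint fibres of size at least `m`. -/
theorem mul_card_le_of_fiber {α β : Type*} [Finite α] [Finite β] (f : α → β) (X : Set α)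
    (T : Set β) (m : ℕ) (h : ∀ b ∈ T, m ≤ Nat.card {a : α // a ∈ X ∧ f a = b}) :
    m * Nat.card T ≤ Nat.card X := by
  classical
  have := Fintype.ofFinite T
  let F : (Σ b : T, {a : α // a ∈ X ∧ f a = b}) → X := fun s => ⟨s.2.1, s.2.2.1⟩
  have hF : Function.Injective F := by
    rintro ⟨⟨b, hb⟩, ⟨a, ha⟩⟩ ⟨⟨b', hb'⟩, ⟨a', ha'⟩⟩ heq
    have haa : a = a' := congrArg Subtype.val heq
    subst haa
    have hbb : b = b' := ha.2.symm.trans ha'.2
    subst hbb
    rfl
  have h1 := Nat.card_le_card_of_injective F hF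
  rw [Nat.card_sigma] at h1
  refine le_trans ?_ h1
  have h2 : ∑ _b : T, m ≤ ∑ b : T, Nat.card {a : α // a ∈ X ∧ f a = b} :=
    Finset.sum_le_sum (fun b _ => h b b.2)
  refine le_trans ?_ h2
  rw [Finset.sum_const, Finset.card_univ, smul_eq_mul, mul_comm, Nat.card_eq_fintype_card]

/-- a `q`-group acting by conjugation without fixed points. -/
theorem dvd_card_of_no_fixed {q : ℕ} [Fact q.Prime] (A : Subgroup G) (hA : IsPGroup q A)
    (X : Set G) (hX : ∀ a ∈ A, ∀ x ∈ X, a * x * a⁻¹ ∈ X)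
    (hf : ∀ x ∈ X, ∃ a ∈ A, a * x * a⁻¹ ≠ x) : q ∣ Nat.card X := by
  by_contra hc
  obtain ⟨x, hx, h⟩ := exists_conj_fixed A hA X hX hc
  obtain ⟨a, ha, hne⟩ := hf x hx
  exact hne (h a ha)

end basic

section count
variable {G : Type*} [Group G] [Finite G] {p : ℕ} [Fact p.Prime]

theorem exists_conj_mem_sylow (P : Sylow p G) {x : G} (hx : ∃ k, orderOf x = p ^ k) :
    ∃ g : G, g * x * g⁻¹ ∈ P := by
  obtain ⟨k, hk⟩ := hx
  have hx' : IsPGroup p (zpowers x) := by
    apply IsPGroup.of_card (n := k)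
    rw [Nat.card_zpowers, hk]
  obtain ⟨P', hP'⟩ := hx'.exists_le_sylow
  obtain ⟨g, hg⟩ := MulAction.exists_smul_eq G P' P
  refine ⟨g, ?_⟩
  rw [← hg]
  exact ⟨x, hP' (mem_zpowers x), rfl⟩

/-- The main counting estimate. -/
theorem count_bound (P : Sylow p G) (Q A : Subgroup G) {r : ℕ} (hr : r.Prime) 
    (hQP : Q ≤ P) (hAN : A ≤ normalizer (Q : Set G)) (hA : IsPGroup r A)
    (hcen : (P : Subgroup G) ⊓ centralizer (Q : Set G) ≤ Q) :
    ∃ t1 t2 : ℕ, kcl {p} G ≤ t1 + t2 + Nat.card (Q ⊓ centralizer (A : Set G) : Subgroup G) ∧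
      p * t1 + Nat.card Q ≤ Nat.card P ∧
      r * t2 + Nat.card (Q ⊓ centralizer (A : Set G) : Subgroup G) ≤ Nat.card Q := by
  have hp : p.Prime := Fact.out
  have : Fact r.Prime := ⟨hr⟩
  set F : Subgroup G := Q ⊓ centralizer (A : Set G) with hF
  let T : Set (ConjClasses G) := {c | ∀ x ∈ c.carrier, PiEl {p} x}
  let T1 : Set (ConjClasses G) := {c | c ∈ T ∧ ∀ y ∈ Q, ConjClasses.mk y ≠ c}
  let T2 : Set (ConjClasses G) := {c | c ∈ T ∧ (∃ y ∈ Q, ConjClasses.mk y = c) ∧
    ∀ y ∈ F, ConjClasses.mk y ≠ c}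
  let T3 : Set (ConjClasses G) := {c | c ∈ T ∧ ∃ y ∈ F, ConjClasses.mk y = c}
  refine ⟨Nat.card T1, Nat.card T2, ?_, ?_, ?_⟩
  · have h3 : 1 * Nat.card T3 ≤ Nat.card F := by
      apply mul_card_le_of_fiber ConjClasses.mk (F : Set G)
      rintro c ⟨hcT, y, hy, hyc⟩
      have : Nonempty {a : G // a ∈ (F : Set G) ∧ ConjClasses.mk a = c} := ⟨⟨y, hy, hyc⟩⟩
      exact Nat.card_pos
    have h4 : Nat.card T ≤ Nat.card T1 + Nat.card T2 + Nat.card T3 := by
      have hsub : T ⊆ T1 ∪ T2 ∪ T3 := by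
        intro c hc
        by_cases h1 : ∃ y ∈ Q, ConjClasses.mk y = c
        · by_cases h2 : ∃ y ∈ F, ConjClasses.mk y = c
          · exact Or.inr ⟨hc, h2⟩
          · push Not at h2
            exact Or.inl (Or.inr ⟨hc, h1, h2⟩)
        · push Not at h1
          exact Or.inl (Or.inl ⟨hc, h1⟩)
      calc Nat.card T ≤ Nat.card (T1 ∪ T2 ∪ T3 : Set (ConjClasses G)) :=
            Nat.card_mono (Set.toFinite _) hsub
        _ ≤ Nat.card (T1 ∪ T2 : Set (ConjClasses G)) + Nat.card T3 := by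
            exact Set.ncard_union_le _ _
        _ ≤ _ := by
            gcongr
            exact Set.ncard_union_le _ _
    rw [one_mul] at h3
    have h5 : kcl {p} G = Nat.card T := rfl
    rw [h5]
    omega
  · have h1 : p * Nat.card T1 ≤ Nat.card ((P : Set G) \ Q : Set G) := by
      apply mul_card_le_of_fiber ConjClasses.mk ((P : Set G) \ Q : Set G)
      rintro c ⟨hcT, hcQ⟩
      obtain ⟨x, rfl⟩ := ConjClasses.exists_rep c
      have hxp : PiEl {p} x := hcT x ConjClasses.mem_carrier_mk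
      rw [piEl_singleton_iff hp] at hxp
      obtain ⟨g, hg⟩ := exists_conj_mem_sylow P hxp
      have hgx : ConjClasses.mk (g * x * g⁻¹) = ConjClasses.mk x :=
        ConjClasses.mk_eq_mk_iff_isConj.mpr (isConj_iff.mpr ⟨g⁻¹, by group⟩)
      let X : Set G := {y | y ∈ (P : Set G) \ Q ∧ ConjClasses.mk y = ConjClasses.mk x}
      have hXne : (X).Nonempty := ⟨g * x * g⁻¹, ⟨hg, fun h => hcQ _ h hgx⟩, hgx⟩
      have hdvd : p ∣ Nat.card X := by
        apply dvd_card_of_no_fixed (P : Subgroup G) P.2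
        · rintro a ha y ⟨⟨hyP, hyQ⟩, hyc⟩
          have hc2 : ConjClasses.mk (a * y * a⁻¹) = ConjClasses.mk x := by
            rw [← hyc]
            exact ConjClasses.mk_eq_mk_iff_isConj.mpr (isConj_iff.mpr ⟨a⁻¹, by group⟩)
          exact ⟨⟨mul_mem (mul_mem ha hyP) (inv_mem ha), fun h => hcQ _ h hc2⟩, hc2⟩
        · rintro y ⟨⟨hyP, hyQ⟩, hyc⟩
          by_contra hall
          push Not at hall
          apply hyQ
          apply hcen
          refine Subgroup.mem_inf.mpr ⟨hyP, ?_⟩
          rw [mem_centralizer_iff]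
          intro q hq
          have := hall q (hQP hq)
          rw [mul_inv_eq_iff_eq_mul] at this
          exact this
      have hpos : 0 < Nat.card X := by
        have : Nonempty X := hXne.to_subtype
        exact Nat.card_pos
      exact Nat.le_of_dvd hpos hdvd
    have h2 : Nat.card ((P : Set G) \ Q : Set G) + Nat.card Q = Nat.card P := by
      exact Set.ncard_sdiff_add_ncard_of_subset (s := (Q : Set G)) (t := (P : Set G)) hQP (Set.toFinite _)
    omega
  · have h1 : r * Nat.card T2 ≤ Nat.card ((Q : Set G) \ F : Set G) := by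
      apply mul_card_le_of_fiber ConjClasses.mk ((Q : Set G) \ F : Set G)
      rintro c ⟨hcT, ⟨y0, hy0, hy0c⟩, hcF⟩
      let X : Set G := {y | y ∈ (Q : Set G) \ F ∧ ConjClasses.mk y = c}
      have hXne : (X).Nonempty := ⟨y0, ⟨hy0, fun h => hcF _ h hy0c⟩, hy0c⟩
      have hdvd : r ∣ Nat.card X := by
        apply dvd_card_of_no_fixed A hA
        · rintro a ha y ⟨⟨hyP, hyQ⟩, hyc⟩
          have hc2 : ConjClasses.mk (a * y * a⁻¹) = c := by
            rw [← hyc]
            exact ConjClasses.mk_eq_mk_iff_isConj.mpr (isConj_iff.mpr ⟨a⁻¹, by group⟩)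
          exact ⟨⟨(mem_normalizer_iff.mp (hAN ha) y).mp hyP, fun h => hcF _ h hc2⟩, hc2⟩
        · rintro y ⟨⟨hyP, hyQ⟩, hyc⟩
          by_contra hall
          push Not at hall
          apply hyQ
          rw [SetLike.mem_coe, hF, mem_inf]
          refine ⟨hyP, ?_⟩
          rw [mem_centralizer_iff]
          intro q hq
          have := hall q hq
          rw [mul_inv_eq_iff_eq_mul] at this
          exact this
      have hpos : 0 < Nat.card X := by
        have : Nonempty X := hXne.to_subtype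
        exact Nat.card_pos
      exact Nat.le_of_dvd hpos hdvd
    have h2 : Nat.card ((Q : Set G) \ F : Set G) + Nat.card F = Nat.card Q := by
      exact Set.ncard_sdiff_add_ncard_of_subset (s := (F : Set G)) (t := (Q : Set G)) (by
        intro x hx
        exact (mem_inf.mp hx).1) (Set.toFinite _)
    omega

/-- proper subgroups of `p`-groups have index at least `p`. -/
theorem mul_card_le_of_lt {F Q : Subgroup G} (hQ : IsPGroup p Q) (h : F < Q) :
    p * Nat.card F ≤ Nat.card Q := by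
  have hp : p.Prime := Fact.out
  have h1 : F.relIndex Q ≠ 1 := by
    rw [Ne, relIndex_eq_one]; exact not_le_of_gt h
  have h2 : Nat.card F * F.relIndex Q = Nat.card Q := by
    rw [← relIndex_bot_left, ← relIndex_bot_left, relIndex_mul_relIndex _ _ _ bot_le h.le]
  obtain ⟨n, hn⟩ := IsPGroup.iff_card.mp hQ
  have h3 : F.relIndex Q ∣ p ^ n := hn ▸ (Dvd.intro_left _ h2)
  obtain ⟨k, hk, hk2⟩ := (Nat.dvd_prime_pow hp).mp h3
  have hk0 : k ≠ 0 := by
    rintro rfl
    exact h1 (by rw [hk2, pow_zero])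
  have h4 : p ≤ F.relIndex Q := by
    rw [hk2]
    exact Nat.le_self_pow hk0 p
  calc p * Nat.card F ≤ F.relIndex Q * Nat.card F := Nat.mul_le_mul_right _ h4
    _ = Nat.card Q := by rw [mul_comm, h2]

/-- the same for a proper fixed point subgroup when `p = 2`. -/
theorem four_mul_card_le {Q A : Subgroup G} {r : ℕ} (hr : r.Prime) (hr2 : r ≠ 2)
    (hQ : IsPGroup 2 Q) (hAN : A ≤ normalizer (Q : Set G)) (hA : IsPGroup r A)
    (hAC : ¬ A ≤ centralizer (Q : Set G)) :
    4 * Nat.card (Q ⊓ centralizer (A : Set G) : Subgroup G) ≤ Nat.card Q := by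
  have : Fact (Nat.Prime 2) := ⟨Nat.prime_two⟩
  have : Fact r.Prime := ⟨hr⟩
  set F : Subgroup G := Q ⊓ centralizer (A : Set G) with hF
  have hlt : F < Q := by
    refine lt_of_le_of_ne inf_le_left ?_
    intro h
    apply hAC
    intro a ha
    rw [mem_centralizer_iff]
    intro q hq
    have : q ∈ F := by rw [h]; exact hq
    have := (mem_inf.mp this).2
    rw [mem_centralizer_iff] at this
    exact (this a ha).symm
  have h1 : F.relIndex Q ≠ 1 := by
    rw [Ne, relIndex_eq_one]; exact not_le_of_gt hlt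
  have h2 : Nat.card F * F.relIndex Q = Nat.card Q := by
    rw [← relIndex_bot_left, ← relIndex_bot_left, relIndex_mul_relIndex _ _ _ bot_le hlt.le]
  obtain ⟨n, hn⟩ := IsPGroup.iff_card.mp hQ
  have h3 : F.relIndex Q ∣ 2 ^ n := hn ▸ (Dvd.intro_left _ h2)
  obtain ⟨k, hk, hk2⟩ := (Nat.dvd_prime_pow Nat.prime_two).mp h3
  have hk0 : k ≠ 0 := by
    rintro rfl
    exact h1 (by rw [hk2, pow_zero])
  have hk1 : k ≠ 1 := by
    rintro rfl
    rw [pow_one] at hk2
    have hX : Nat.card ((Q : Set G) \ F : Set G) + Nat.card F = Nat.card Q :=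
      Set.ncard_sdiff_add_ncard_of_subset (s := (F : Set G)) (t := (Q : Set G)) hlt.le
        (Set.toFinite _)
    obtain ⟨m, hm⟩ := IsPGroup.iff_card.mp (hQ.to_le hlt.le)
    have hX2 : Nat.card ((Q : Set G) \ F : Set G) = 2 ^ m := by
      rw [hk2] at h2
      omega
    obtain ⟨x, ⟨hxQ, hxF⟩, hx⟩ := exists_conj_fixed A hA ((Q : Set G) \ F : Set G) (by
      rintro a ha y ⟨hyQ, hyF⟩
      refine ⟨(mem_normalizer_iff.mp (hAN ha) y).mp hyQ, fun hc => hyF ?_⟩
      have hc2 := (mem_inf.mp hc).2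
      rw [mem_centralizer_iff] at hc2
      have hc3 := hc2 a ha
      have e : y = a * y * a⁻¹ := by
        have : a * (a * y * a⁻¹) * a⁻¹ = a * y * a⁻¹ := by rw [hc3]; group
        have h6 : a * y * a⁻¹ = y := by
          have h7 : a * (a * y * a⁻¹) * a⁻¹ = a * (y) * a⁻¹ := this
          exact mul_left_cancel (mul_right_cancel h7)
        exact h6.symm
      rw [SetLike.mem_coe, e]
      exact hc) (by
      rw [hX2]
      intro hd
      exact hr2 ((Nat.prime_dvd_prime_iff_eq hr Nat.prime_two).mp (hr.dvd_of_dvd_pow hd)))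
    apply hxF
    rw [SetLike.mem_coe, hF, mem_inf, mem_centralizer_iff]
    refine ⟨hxQ, fun a ha => ?_⟩
    have := hx a ha
    rwa [mul_inv_eq_iff_eq_mul] at this
  have h4 : 4 ≤ F.relIndex Q := by
    rw [hk2]
    calc 4 = 2 ^ 2 := rfl
      _ ≤ 2 ^ k := Nat.pow_le_pow_right (by norm_num) (by omega)
  calc 4 * Nat.card F ≤ F.relIndex Q * Nat.card F := Nat.mul_le_mul_right _ h4
    _ = Nat.card Q := by rw [mul_comm, h2]

/-- every class of `p`-elements comes from a Sylow subgroup -/
theorem kcl_le_conjClasses (P : Sylow p G) : kcl {p} G ≤ Nat.card (ConjClasses P) := by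
  have hp : p.Prime := Fact.out
  let f : ConjClasses P → {c : ConjClasses G // ∀ x ∈ c.carrier, PiEl {p} x} :=
    fun c => ⟨ConjClasses.map (P : Subgroup G).subtype c, by
      obtain ⟨x, rfl⟩ := ConjClasses.exists_rep c
      change ∀ y ∈ (ConjClasses.mk (x : G)).carrier, PiEl {p} y
      rw [forall_carrier_iff, piEl_singleton_iff hp]
      obtain ⟨k, hk⟩ := IsPGroup.iff_orderOf.mp P.2 x
      exact ⟨k, by rw [← hk, orderOf_coe]⟩⟩
  apply Nat.card_le_card_of_surjective f
  rintro ⟨c, hc⟩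
  obtain ⟨x, rfl⟩ := ConjClasses.exists_rep c
  rw [forall_carrier_iff, piEl_singleton_iff hp] at hc
  obtain ⟨g, hg⟩ := exists_conj_mem_sylow P hc
  refine ⟨ConjClasses.mk ⟨g * x * g⁻¹, hg⟩, ?_⟩
  apply Subtype.ext
  change ConjClasses.mk (g * x * g⁻¹) = ConjClasses.mk x
  exact ConjClasses.mk_eq_mk_iff_isConj.mpr (isConj_iff.mpr ⟨g⁻¹, by group⟩)

theorem conjClasses_le_kcl (P : Sylow p G) (h : Cfsg.HasNormalPComplement p G) :
    Nat.card (ConjClasses P) ≤ kcl {p} G := by
  have hp : p.Prime := Fact.out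
  let f : ConjClasses P → {c : ConjClasses G // ∀ x ∈ c.carrier, PiEl {p} x} :=
    fun c => ⟨ConjClasses.map (P : Subgroup G).subtype c, by
      obtain ⟨x, rfl⟩ := ConjClasses.exists_rep c
      change ∀ y ∈ (ConjClasses.mk (x : G)).carrier, PiEl {p} y
      rw [forall_carrier_iff, piEl_singleton_iff hp]
      obtain ⟨k, hk⟩ := IsPGroup.iff_orderOf.mp P.2 x
      exact ⟨k, by rw [← hk, orderOf_coe]⟩⟩
  apply Nat.card_le_card_of_injective f
  intro c d hcd
  obtain ⟨x, rfl⟩ := ConjClasses.exists_rep c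
  obtain ⟨y, rfl⟩ := ConjClasses.exists_rep d
  have h1 : ConjClasses.mk (x : G) = ConjClasses.mk (y : G) := congrArg Subtype.val hcd
  rw [ConjClasses.mk_eq_mk_iff_isConj, isConj_iff] at h1
  obtain ⟨g, hg⟩ := h1
  obtain ⟨z, hz, hzx⟩ := controlsFusion_of_frobenius
    (fun Q hQ g hg hgp => HasNPC.mem_centralizer h hQ hg hgp) P x.1 x.2 g (by
      rw [hg]; exact y.2)
  rw [ConjClasses.mk_eq_mk_iff_isConj, isConj_iff]
  refine ⟨⟨z, hz⟩, ?_⟩
  apply Subtype.ext
  simp only [Subgroup.coe_mul, InvMemClass.coe_inv]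
  rw [hzx, hg]

end count

/-- Class number bound in a `p`-group. -/
theorem conjClasses_bound {H : Type*} [Group H] [Finite H] {p : ℕ} [Fact p.Prime]
    (hH : IsPGroup p H) : ∃ t : ℕ, Nat.card (ConjClasses H) ≤ t + Nat.card (center H) ∧
      p * t + Nat.card (center H) ≤ Nat.card H := by
  have hp : p.Prime := Fact.out
  let T1 : Set (ConjClasses H) := {c | ∀ y ∈ center H, ConjClasses.mk y ≠ c}
  let T2 : Set (ConjClasses H) := {c | ∃ y ∈ center H, ConjClasses.mk y = c}
  have h2 : 1 * Nat.card T2 ≤ Nat.card (center H) := by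
    apply mul_card_le_of_fiber ConjClasses.mk (center H : Set H)
    rintro c ⟨y, hy, hyc⟩
    have : Nonempty {a : H // a ∈ (center H : Set H) ∧ ConjClasses.mk a = c} := ⟨⟨y, hy, hyc⟩⟩
    exact Nat.card_pos
  have h1 : p * Nat.card T1 ≤ Nat.card ((Set.univ : Set H) \ (center H : Set H) : Set H) := by
    apply mul_card_le_of_fiber ConjClasses.mk ((Set.univ : Set H) \ (center H : Set H) : Set H)
    intro c hc
    obtain ⟨x, rfl⟩ := ConjClasses.exists_rep c
    let X : Set H := {y | y ∈ (Set.univ : Set H) \ (center H : Set H) ∧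
      ConjClasses.mk y = ConjClasses.mk x}
    have hXne : (X).Nonempty := ⟨x, ⟨Set.mem_univ _, fun h => hc _ h rfl⟩, rfl⟩
    have hdvd : p ∣ Nat.card X := by
      apply dvd_card_of_no_fixed (⊤ : Subgroup H) (hH.to_subgroup _)
      · rintro a ha y ⟨⟨hyP, hyQ⟩, hyc⟩
        have hc2 : ConjClasses.mk (a * y * a⁻¹) = ConjClasses.mk x := by
          rw [← hyc]
          exact ConjClasses.mk_eq_mk_iff_isConj.mpr (isConj_iff.mpr ⟨a⁻¹, by group⟩)
        exact ⟨⟨Set.mem_univ _, fun h => hc _ h hc2⟩, hc2⟩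
      · rintro y ⟨⟨hyP, hyQ⟩, hyc⟩
        by_contra hall
        push Not at hall
        apply hyQ
        rw [SetLike.mem_coe, mem_center_iff]
        intro g
        have := hall g (mem_top _)
        rwa [mul_inv_eq_iff_eq_mul] at this
    have hpos : 0 < Nat.card X := by
      have : Nonempty X := hXne.to_subtype
      exact Nat.card_pos
    exact Nat.le_of_dvd hpos hdvd
  refine ⟨Nat.card T1, ?_, ?_⟩
  · have h4 : Nat.card (ConjClasses H) ≤ Nat.card T1 + Nat.card T2 := by
      calc Nat.card (ConjClasses H) = Nat.card (Set.univ : Set (ConjClasses H)) := by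
            rw [Nat.card_univ]
        _ ≤ Nat.card (T1 ∪ T2 : Set (ConjClasses H)) := by
            apply Nat.card_mono (Set.toFinite _)
            intro c _
            by_cases h : ∃ y ∈ center H, ConjClasses.mk y = c
            · exact Or.inr h
            · push Not at h
              exact Or.inl h
        _ ≤ _ := Set.ncard_union_le _ _
    omega
  · have h3 : Nat.card ((Set.univ : Set H) \ (center H : Set H) : Set H) + Nat.card (center H)
        = Nat.card H := by
      have := Set.ncard_sdiff_add_ncard_of_subset (s := (center H : Set H)) (t := Set.univ)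
        (Set.subset_univ _) (Set.toFinite _)
      rw [Set.ncard_univ] at this
      exact this
    omega

theorem sq_mul_card_center_le {H : Type*} [Group H] [Finite H] {p : ℕ} [Fact p.Prime]
    (hH : IsPGroup p H) (hna : ¬ IsMulCommutative H) : p ^ 2 * Nat.card (center H) ≤ Nat.card H := by
  have hp : p.Prime := Fact.out
  have h1 := (center H).card_mul_index
  have h2 : (center H).index ∣ Nat.card H := index_dvd_card _
  obtain ⟨n, hn⟩ := IsPGroup.iff_card.mp hH
  rw [hn] at h2
  obtain ⟨k, hk, hk2⟩ := (Nat.dvd_prime_pow hp).mp h2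
  have hk2' : 2 ≤ k := by
    by_contra hlt
    apply hna
    have : IsCyclic (H ⧸ center H) := by
      apply isCyclic_of_card_dvd_prime (p := p)
      rw [← index_eq_card, hk2]
      conv_rhs => rw [← pow_one p]
      exact pow_dvd_pow p (by omega)
    exact (QuotientGroup.mk' (center H)).isMulCommutative_of_isCyclic_of_ker_le_center (by
      rw [QuotientGroup.ker_mk'])
  calc p ^ 2 * Nat.card (center H) ≤ (center H).index * Nat.card (center H) := by
        apply Nat.mul_le_mul_right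
        rw [hk2]
        exact Nat.pow_le_pow_right hp.pos hk2'
    _ = Nat.card H := by rw [mul_comm, h1]

end Cfsg.Agent.H65
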