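import Mathlib
import Cfsg.Agent.Transfer.Frobenius
import Cfsg.Agent.H65.Basic
import Cfsg.Agent.S3889

set_option autoImplicit false

namespace Cfsg.Agent.H65

open Subgroup Cfsg.Agent.Transfer
open scoped Pointwise

/-- data of a nilpotent minimal cover (the hypothesis of S3890-S3892 verbatim) -/
def NMC {G : Type*} [Group G] (𝓐 : Finset (Subgroup G)) : Prop :=
  ((∀ A ∈ 𝓐, A ≠ ⊤) ∧ (∀ g : G, ∃ A ∈ 𝓐, g ∈ A)) ∧ (∀ 𝓑 : Finset (Subgroup G), (∀ A ∈ 𝓑, A ≠ ⊤) ∧ (∀ g : G, ∃ A ∈ 𝓑, g ∈ A) → 𝓐.card ≤ 𝓑.card) ∧ (∀ A ∈ 𝓐, Group.IsNilpotent ↥A)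

section
variable {G : Type*} [Group G] {𝓐 : Finset (Subgroup G)}

/-- Replacing members of a minimal cover. -/
theorem NMC.card_le (h : NMC 𝓐) (𝓒 𝓓 : Finset (Subgroup G)) (hC : 𝓒 ⊆ 𝓐)
    (hD : ∀ D ∈ 𝓓, D ≠ ⊤) (hCD : ∀ C ∈ 𝓒, ∃ D ∈ 𝓓, C ≤ D) : 𝓒.card ≤ 𝓓.card := by
  classical
  have h1 := h.2.1 ((𝓐 \ 𝓒) ∪ 𝓓) ⟨by
    intro A hA
    rcases Finset.mem_union.mp hA with h2 | h2
    · exact h.1.1 A (Finset.mem_sdiff.mp h2).1
    · exact hD A h2, by
    intro g
    obtain ⟨A, hA, hgA⟩ := h.1.2 g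
    by_cases hAC : A ∈ 𝓒
    · obtain ⟨D, hD, hAD⟩ := hCD A hAC
      exact ⟨D, Finset.mem_union_right _ hD, hAD hgA⟩
    · exact ⟨A, Finset.mem_union_left _ (Finset.mem_sdiff.mpr ⟨hA, hAC⟩), hgA⟩⟩
  have h2 := Finset.card_union_le (𝓐 \ 𝓒) 𝓓
  have h3 := Finset.card_sdiff_add_card_eq_card hC
  omega

/-- Two members cannot lie in a common proper subgroup. -/
theorem NMC.merge (h : NMC 𝓐) {A B M : Subgroup G} (hA : A ∈ 𝓐) (hB : B ∈ 𝓐) (hM : M ≠ ⊤)
    (hAM : A ≤ M) (hBM : B ≤ M) : A = B := by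
  classical
  by_contra hne
  have := h.card_le {A, B} {M} (by
    intro x hx
    rcases Finset.mem_insert.mp hx with rfl | hx
    · exact hA
    · rw [Finset.mem_singleton.mp hx]; exact hB) (by
    intro D hD
    rw [Finset.mem_singleton.mp hD]; exact hM) (by
    intro C hC
    refine ⟨M, Finset.mem_singleton_self _, ?_⟩
    rcases Finset.mem_insert.mp hC with rfl | hx
    · exact hAM
    · rw [Finset.mem_singleton.mp hx]; exact hBM)
  rw [Finset.card_pair hne, Finset.card_singleton] at this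
  omega

end

section
variable {G : Type*} [Group G] [Finite G] {𝓐 : Finset (Subgroup G)} {p : ℕ} [Fact p.Prime]

/-- In a nilpotent subgroup all `p`-elements lie in a common Sylow subgroup of the group. -/
theorem commute_of_nilpotent_abelian_sylow (hab : ∀ P : Sylow p G, IsMulCommutative P)
    {A : Subgroup G} (hA : Group.IsNilpotent A) {x y : G} (hx : x ∈ A) (hy : y ∈ A)
    {k : ℕ} (hxk : orderOf x = p ^ k) : x * y = y * x := by
  obtain ⟨i, j, hij, ⟨l, hl⟩, hj⟩ := exists_pow_decomp p y (orderOf_pos y).ne'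
  -- the p-part
  have h1 : x * y ^ i = y ^ i * x := by
    have hunique : ∀ S T : Sylow p A, S = T := by
      intro S T
      have hS : (S : Subgroup A).Normal :=
        Sylow.normal_of_normalizerCondition (Group.normalizerCondition_of_isNilpotent) S
      obtain ⟨g, hg⟩ := MulAction.exists_smul_eq A S T
      rw [← hg, Sylow.smul_eq_of_normal]
    have mem : ∀ z : A, (∃ m, orderOf z = p ^ m) → ∀ S : Sylow p A, z ∈ S := by
      rintro z ⟨m, hm⟩ S
      have hz : IsPGroup p (zpowers z) := by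
        apply IsPGroup.of_card (n := m)
        rw [Nat.card_zpowers, hm]
      obtain ⟨T, hT⟩ := hz.exists_le_sylow
      rw [hunique S T]
      exact hT (mem_zpowers z)
    obtain ⟨S⟩ := (inferInstance : Nonempty (Sylow p A))
    have hxS := mem ⟨x, hx⟩ ⟨k, by rw [Subgroup.orderOf_mk, hxk]⟩ S
    have hyS := mem ⟨y ^ i, A.pow_mem hy i⟩ ⟨l, by rw [Subgroup.orderOf_mk, hl]⟩ S
    obtain ⟨P, hP⟩ := (S.2.map A.subtype).exists_le_sylow
    have hxP : x ∈ P := hP ⟨⟨x, hx⟩, hxS, rfl⟩
    have hyP : y ^ i ∈ P := hP ⟨⟨y ^ i, A.pow_mem hy i⟩, hyS, rfl⟩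
    have := hab P
    exact congrArg Subtype.val (mul_comm' (⟨x, hxP⟩ : P) ⟨y ^ i, hyP⟩)
  have h2 : x * y ^ j = y ^ j * x := by
    have := commute_of_isNilpotent (p := p) hA (x := ⟨x, hx⟩) (y := ⟨y ^ j, A.pow_mem hy j⟩) (k := k)
      (by apply Subtype.ext; change x ^ p ^ k = 1; rw [← hxk, pow_orderOf_eq_one])
      (by rwa [Subgroup.orderOf_mk])
    exact congrArg Subtype.val this
  rw [hij, ← mul_assoc, h1, mul_assoc, h2, mul_assoc]

theorem isMulCommutative_sylow_of_one {P : Sylow p G} (h : IsMulCommutative P) (Q : Sylow p G) :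
    IsMulCommutative Q := by
  apply IsMulCommutative.of_comm
  intro a b
  have e := Q.equiv P
  apply e.injective
  rw [map_mul, map_mul]
  exact mul_comm' _ _

omit [Finite G] in
theorem centralizer_ne_top (hZ : Subgroup.center G = ⊥) {y : G} (hy : y ≠ 1) :
    centralizer ({y} : Set G) ≠ ⊤ := by
  intro h
  apply hy
  rw [← Subgroup.mem_bot, ← hZ, mem_center_iff]
  intro g
  have : g ∈ centralizer ({y} : Set G) := h ▸ mem_top g
  exact mem_centralizer_singleton_iff.mp this

/-- members containing a common nontrivial `p`-element coincide. -/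
theorem NMC.eq_of_mem (h : NMC 𝓐) (hZ : Subgroup.center G = ⊥)
    (hab : ∀ P : Sylow p G, IsMulCommutative P) {A B : Subgroup G} (hA : A ∈ 𝓐) (hB : B ∈ 𝓐)
    {y : G} (hy1 : y ≠ 1) {k : ℕ} (hyk : orderOf y = p ^ k) (hyA : y ∈ A) (hyB : y ∈ B) :
    A = B := by
  apply h.merge hA hB (centralizer_ne_top hZ hy1)
  · intro a ha
    rw [mem_centralizer_singleton_iff]
    exact (commute_of_nilpotent_abelian_sylow hab (h.2.2 A hA) hyA ha hyk).symm
  · intro a ha
    rw [mem_centralizer_singleton_iff]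
    exact (commute_of_nilpotent_abelian_sylow hab (h.2.2 B hB) hyB ha hyk).symm

omit [Finite G] in
theorem exists_orderOf_eq_pow (P : Sylow p G) {x : G} (hx : x ∈ P) : ∃ k, orderOf x = p ^ k := by
  obtain ⟨k, hk⟩ := IsPGroup.iff_orderOf.mp P.2 ⟨x, hx⟩
  exact ⟨k, by rwa [Subgroup.orderOf_mk] at hk⟩

/-- If a Sylow subgroup is not inside a member of the cover it is elementary abelian and not of
order `p`. -/
theorem NMC.elementary_of_not_le (h : NMC 𝓐) (hZ : Subgroup.center G = ⊥)
    (hab : ∀ P : Sylow p G, IsMulCommutative P) (P : Sylow p G)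
    (hP : ∀ A ∈ 𝓐, ¬ (P : Subgroup G) ≤ A) :
    (∀ x ∈ P, x ^ p = 1) ∧ p < Nat.card P := by
  have hp : p.Prime := Fact.out
  have hcomm := hab P
  have hexp := S3889.exponent_prime (G := P) (fun a b => mul_comm' a b)
    {B | ∃ A ∈ 𝓐, B = A.subgroupOf P} (by
      rintro B ⟨A, hA, rfl⟩ htop
      rw [subgroupOf_eq_top] at htop
      exact hP A hA htop) (by
      intro g
      obtain ⟨A, hA, hgA⟩ := h.1.2 (g : G)
      exact ⟨_, ⟨A, hA, rfl⟩, by rwa [mem_subgroupOf]⟩) (by
      rintro B ⟨A, hA, rfl⟩ C ⟨A', hA', rfl⟩ hne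
      rw [eq_bot_iff]
      intro y hy
      rw [mem_inf, mem_subgroupOf, mem_subgroupOf] at hy
      rw [Subgroup.mem_bot]
      by_contra hy1
      obtain ⟨k, hk⟩ := exists_orderOf_eq_pow P y.2
      apply hne
      rw [h.eq_of_mem hZ hab hA hA' (fun h => hy1 (Subtype.ext h)) hk hy.1 hy.2])
  have hnt : Nontrivial P := by
    by_contra hnt
    rw [not_nontrivial_iff_subsingleton] at hnt
    have : Monoid.exponent P = 1 := Monoid.exp_eq_one_iff.mpr hnt
    rw [this] at hexp
    exact Nat.not_prime_one hexp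
  have hdvd : p ∣ Monoid.exponent P := by
    obtain ⟨x, hx⟩ := exists_ne (1 : P)
    exact (P.2.dvd_orderOf hx).trans (Monoid.order_dvd_exponent x)
  have hpe : Monoid.exponent P = p := ((Nat.prime_dvd_prime_iff_eq hp hexp).mp hdvd).symm
  refine ⟨?_, ?_⟩
  · intro x hx
    have h1 : (⟨x, hx⟩ : (P : Subgroup G)) ^ p = 1 := by
      calc (⟨x, hx⟩ : (P : Subgroup G)) ^ p
          = (⟨x, hx⟩ : (P : Subgroup G)) ^ (Monoid.exponent (P : Subgroup G)) := by rw [hpe]
        _ = 1 := Monoid.pow_exponent_eq_one _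
    exact congrArg Subtype.val h1
  · obtain ⟨x, hx⟩ := exists_ne (1 : P)
    have hxo : orderOf x = p := by
      apply orderOf_eq_prime _ hx
      calc x ^ p = x ^ (Monoid.exponent (P : Subgroup G)) := by rw [hpe]
        _ = 1 := Monoid.pow_exponent_eq_one x
    obtain ⟨A, hA, hxA⟩ := h.1.2 (x : G)
    by_contra hle
    push Not at hle
    apply hP A hA
    have h1 : zpowers x = ⊤ := by
      apply Subgroup.eq_top_of_card_eq
      apply le_antisymm (Subgroup.card_le_card_group _)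
      rw [Nat.card_zpowers, hxo]
      exact hle
    intro y hy
    have hy2 : (⟨y, hy⟩ : P) ∈ zpowers x := h1 ▸ mem_top _
    obtain ⟨n, hn⟩ := mem_zpowers_iff.mp hy2
    have : y = (x : G) ^ n := by
      have := congrArg Subtype.val hn
      simpa using this.symm
    rw [this]
    exact A.zpow_mem hxA n

/-- The structure when every Sylow subgroup lies in a member. -/
theorem NMC.of_le (h : NMC 𝓐) (hZ : Subgroup.center G = ⊥)
    (hab : ∀ P : Sylow p G, IsMulCommutative P) (hnn : ∀ P : Sylow p G, ¬ (P : Subgroup G).Normal)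
    (hP : ∀ P : Sylow p G, ∃ A ∈ 𝓐, (P : Subgroup G) ≤ A) (P : Sylow p G) :
    centralizer (P : Set G) ∈ 𝓐 ∧
    (∀ M : Subgroup G, M ≠ ⊤ → centralizer (P : Set G) ≤ M → M ≤ normalizer (P : Set G)) := by
  have hp : p.Prime := Fact.out
  have main : ∀ P : Sylow p G, centralizer (P : Set G) ∈ 𝓐 := by
    intro P
    obtain ⟨A, hA, hPA⟩ := hP P
    have hP1 : ∃ x ∈ (P : Subgroup G), x ≠ 1 := by
      by_contra hcon
      push Not at hcon
      apply hnn P
      have : (P : Subgroup G) = ⊥ := (Subgroup.eq_bot_iff_forall _).mpr hcon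
      rw [this]
      infer_instance
    obtain ⟨x, hxP, hx1⟩ := hP1
    obtain ⟨k, hxk⟩ := exists_orderOf_eq_pow P hxP
    have hAC : A ≤ centralizer (P : Set G) := by
      intro a ha
      rw [mem_centralizer_iff]
      intro y hy
      obtain ⟨l, hl⟩ := exists_orderOf_eq_pow P hy
      exact commute_of_nilpotent_abelian_sylow hab (h.2.2 A hA) (hPA hy) ha hl
    have hCA : centralizer (P : Set G) ≤ A := by
      intro c hc
      obtain ⟨i, j, hij, ⟨l, hl⟩, hj⟩ := exists_pow_decomp p c (orderOf_pos c).ne'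
      have hCN : centralizer (P : Set G) ≤ normalizer (P : Set G) :=
        Subgroup.centralizer_le_normalizer _
      have hciP : c ^ i ∈ P := by
        apply mem_sylow_of_mem_normalizer (k := l)
        · exact hCN (pow_mem hc i)
        · rw [← hl, pow_orderOf_eq_one]
      have hcj : c ^ j ∈ A := by
        have hcm : Commute x (c ^ j) := mem_centralizer_iff.mp (pow_mem hc j) x hxP
        have hcop : (orderOf x).Coprime (orderOf (c ^ j)) := by
          rw [hxk]; exact (hj.symm).pow_left k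
        obtain ⟨B, hB, hxB⟩ := h.1.2 (x * c ^ j)
        have hx' : x ∈ B := by
          have h1 : (x * c ^ j) ^ orderOf (c ^ j) ∈ B := B.pow_mem hxB _
          rw [hcm.mul_pow, pow_orderOf_eq_one, mul_one] at h1
          obtain ⟨m, hm⟩ := exists_pow_eq_self_of_coprime hcop.symm
          rw [← hm]
          exact B.pow_mem h1 m
        have hBA : B = A := h.eq_of_mem hZ hab hB hA hx1 hxk hx' (hPA hxP)
        rw [hBA] at hxB
        have := A.mul_mem (A.inv_mem (hPA hxP)) hxB
        simpa using this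
      rw [hij]
      exact A.mul_mem (hPA hciP) hcj
    rw [le_antisymm hCA hAC]
    exact hA
  refine ⟨main P, ?_⟩
  intro M hM hCM
  by_contra hMN
  obtain ⟨m, hm, hmN⟩ := SetLike.not_le_iff_exists.mp hMN
  have hne : m • P ≠ P := by
    intro heq
    exact hmN (Sylow.smul_eq_iff_mem_normalizer.mp heq)
  have hC2 : centralizer ((m • P : Sylow p G) : Set G) ≤ M := by
    intro c hc
    have h1 : m⁻¹ * c * m ∈ centralizer (P : Set G) := by
      rw [mem_centralizer_iff] at hc ⊢
      intro y hy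
      have h2 : m * y * m⁻¹ ∈ ((m • P : Sylow p G) : Set G) := ⟨y, hy, rfl⟩
      have h3 := hc _ h2
      calc y * (m⁻¹ * c * m) = m⁻¹ * (m * y * m⁻¹ * c) * m := by group
        _ = m⁻¹ * (c * (m * y * m⁻¹)) * m := by rw [h3]
        _ = _ := by group
    have h2 := M.mul_mem (M.mul_mem hm (hCM h1)) (M.inv_mem hm)
    have e : m * (m⁻¹ * c * m) * m⁻¹ = c := by group
    rwa [e] at h2
  have heq := h.merge (main P) (main (m • P)) hM hCM hC2
  -- then P and m • P are both in the nilpotent group C(P)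
  apply hne
  have hnil := h.2.2 _ (main P)
  have hPC : (P : Subgroup G) ≤ centralizer (P : Set G) := by
    intro y hy
    rw [mem_centralizer_iff]
    intro z hz
    have := hab P
    exact congrArg Subtype.val (mul_comm' (⟨z, hz⟩ : P) ⟨y, hy⟩)
  have hPN : ((m • P : Sylow p G) : Subgroup G) ≤ normalizer (P : Set G) := by
    have h1 : ((m • P : Sylow p G) : Subgroup G) ≤ centralizer ((m • P : Sylow p G) : Set G) := by
      intro y hy
      rw [mem_centralizer_iff]
      intro z hz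
      have := hab (m • P)
      exact congrArg Subtype.val (mul_comm' (⟨z, hz⟩ : (m • P : Sylow p G)) ⟨y, hy⟩)
    refine h1.trans ?_
    rw [← heq]
    exact Subgroup.centralizer_le_normalizer _
  have hle : ((m • P : Sylow p G) : Subgroup G) ≤ P := by
    intro y hy
    obtain ⟨k, hk⟩ := exists_orderOf_eq_pow (m • P) hy
    exact mem_sylow_of_mem_normalizer (hPN hy) (k := k) (by rw [← hk, pow_orderOf_eq_one])
  exact (Sylow.ext ((m • P).3 P.2 hle)).symm

end

end Cfsg.Agent.H65
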