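import Cfsg.Prelude
import Cfsg.Agent.H65.NilCover

set_option autoImplicit false
open Cfsg

namespace Cfsg.Agent.H65

open Subgroup
open scoped Pointwise

/-- No nilpotent minimal cover: `S` a proper subgroup, `c` an element fixing exactly one coset of `S`
such that every nilpotent subgroup containing `c` lies in `S`, and two conjugates of `c` in `S` not
contained in a common nilpotent subgroup. -/
theorem no_nmc_of_stab {G : Type*} [Group G] [Finite G] (S : Subgroup G) (hS : S ≠ ⊤) (c : G)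
    (huniq : ∀ g : G, g⁻¹ * c * g ∈ S → g ∈ S)
    (hnil : ∀ A : Subgroup G, Group.IsNilpotent A → c ∈ A → A ≤ S)
    (hpair : ∃ g ∈ S, ∀ A : Subgroup G, Group.IsNilpotent A → c ∈ A → g * c * g⁻¹ ∈ A → False) :
    ¬ ∃ 𝓐 : Finset (Subgroup G), NMC 𝓐 := by
  classical
  rintro ⟨𝓐, ⟨hprop, hcov⟩, hmin, hnilp⟩
  have := Fintype.ofFinite G
  -- conjugated version of hnil
  have hnil' : ∀ (A : Subgroup G) (g : G), Group.IsNilpotent A → g * c * g⁻¹ ∈ A →
      A ≤ MulAut.conj g • S := by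
    intro A g hA hg
    have h1 : Group.IsNilpotent (MulAut.conj g⁻¹ • A : Subgroup G) :=
      Group.nilpotent_of_mulEquiv (Subgroup.equivSMul (MulAut.conj g⁻¹) A)
    have h2 : c ∈ (MulAut.conj g⁻¹ • A : Subgroup G) := by
      rw [Subgroup.mem_pointwise_smul_iff_inv_smul_mem, ← map_inv, inv_inv, MulAut.smul_def,
        MulAut.conj_apply]
      exact hg
    have h3 := hnil _ h1 h2
    intro a ha
    rw [Subgroup.mem_pointwise_smul_iff_inv_smul_mem]
    apply h3
    rw [← map_inv]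
    exact Subgroup.smul_mem_pointwise_smul a _ A ha
  let 𝓐₀ : Finset (Subgroup G) := 𝓐.filter (fun A => ∃ g : G, g * c * g⁻¹ ∈ A)
  let 𝓢 : Finset (Subgroup G) := Finset.univ.image (fun g : G => MulAut.conj g • S)
  let 𝓑 : Finset (Subgroup G) := (𝓐 \ 𝓐₀) ∪ 𝓢
  have hB : 𝓐.card ≤ 𝓑.card := by
    apply hmin
    constructor
    · intro A hA
      rcases Finset.mem_union.mp hA with h | h
      · exact hprop A (Finset.mem_sdiff.mp h).1
      · obtain ⟨g, -, rfl⟩ := Finset.mem_image.mp h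
        intro htop
        apply hS
        rw [eq_top_iff]
        intro x _
        have h1 : MulAut.conj g • x ∈ MulAut.conj g • S := htop ▸ mem_top _
        exact Subgroup.smul_mem_pointwise_smul_iff.mp h1
    · intro x
      obtain ⟨A, hA, hxA⟩ := hcov x
      by_cases h : A ∈ 𝓐₀
      · obtain ⟨-, g, hg⟩ := Finset.mem_filter.mp h
        exact ⟨_, Finset.mem_union_right _ (Finset.mem_image.mpr ⟨g, Finset.mem_univ _, rfl⟩),
          hnil' A g (hnilp A hA) hg hxA⟩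
      · exact ⟨A, Finset.mem_union_left _ (Finset.mem_sdiff.mpr ⟨hA, h⟩), hxA⟩
  have h𝓐₀ : 𝓐₀ ⊆ 𝓐 := Finset.filter_subset _ _
  have hcard : 𝓐₀.card ≤ 𝓢.card := by
    have h1 : 𝓑.card ≤ (𝓐 \ 𝓐₀).card + 𝓢.card := Finset.card_union_le _ _
    rw [Finset.card_sdiff_of_subset h𝓐₀] at h1
    have h2 := Finset.card_le_card h𝓐₀
    omega
  -- the map A ↦ stabilizer
  have hex : ∀ A ∈ 𝓐₀, ∃ g : G, g * c * g⁻¹ ∈ A := fun A hA => (Finset.mem_filter.mp hA).2
  choose! γ hγ using hex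
  have hwell : ∀ (A : Subgroup G) (g h : G), A ∈ 𝓐 → g * c * g⁻¹ ∈ A → h * c * h⁻¹ ∈ A →
      MulAut.conj g • S = MulAut.conj h • S := by
    intro A g h hA hg hh
    have h1 := hnil' A g (hnilp A hA) hg hh
    rw [Subgroup.mem_pointwise_smul_iff_inv_smul_mem, ← map_inv, MulAut.smul_def,
      MulAut.conj_apply, inv_inv] at h1
    have h2 : h⁻¹ * g ∈ S := by
      apply huniq
      have : (h⁻¹ * g)⁻¹ * c * (h⁻¹ * g) = g⁻¹ * (h * c * h⁻¹) * g := by group
      rw [this]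
      exact h1
    have h3 : MulAut.conj (h⁻¹ * g) • S = S := Subgroup.conj_smul_eq_self_of_mem h2
    calc MulAut.conj g • S = MulAut.conj (h * (h⁻¹ * g)) • S := by rw [mul_inv_cancel_left]
      _ = MulAut.conj h • MulAut.conj (h⁻¹ * g) • S := by rw [map_mul, mul_smul]
      _ = MulAut.conj h • S := by rw [h3]
  -- surjectivity
  let f : Subgroup G → Subgroup G := fun A => MulAut.conj (γ A) • S
  have hsurj : 𝓢 ⊆ 𝓐₀.image f := by
    intro T hT
    obtain ⟨g, -, rfl⟩ := Finset.mem_image.mp hT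
    obtain ⟨A, hA, hgA⟩ := hcov (g * c * g⁻¹)
    have hA0 : A ∈ 𝓐₀ := Finset.mem_filter.mpr ⟨hA, g, hgA⟩
    exact Finset.mem_image.mpr ⟨A, hA0, hwell A _ _ hA (hγ A hA0) hgA⟩
  have hinj : Set.InjOn f 𝓐₀ := by
    rw [← Finset.card_image_iff]
    apply le_antisymm Finset.card_image_le
    exact hcard.trans (Finset.card_le_card hsurj)
  obtain ⟨g, hgS, hpair⟩ := hpair
  obtain ⟨A, hA, hcA⟩ := hcov (1 * c * 1⁻¹)
  obtain ⟨B, hB', hcB⟩ := hcov (g * c * g⁻¹)
  have hA0 : A ∈ 𝓐₀ := Finset.mem_filter.mpr ⟨hA, 1, hcA⟩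
  have hB0 : B ∈ 𝓐₀ := Finset.mem_filter.mpr ⟨hB', g, hcB⟩
  have h1 : f A = f B := by
    have e1 : f A = MulAut.conj (1 : G) • S := hwell A _ _ hA (hγ A hA0) hcA
    have e2 : f B = MulAut.conj g • S := hwell B _ _ hB' (hγ B hB0) hcB
    rw [e1, e2, map_one, one_smul]
    exact (Subgroup.conj_smul_eq_self_of_mem hgS).symm
  have h2 : A = B := hinj hA0 hB0 h1
  subst h2
  apply hpair A (hnilp A hA) _ hcB
  have : (1 : G) * c * 1⁻¹ = c := by group
  rwa [this] at hcA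

end Cfsg.Agent.H65
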