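import Cfsg.Prelude
import Cfsg.Agent.H65.CoverAct
import Cfsg.Agent.H65.BQuot
import Cfsg.Agent.Transfer.Frobenius
import Mathlib.LinearAlgebra.Projectivization.Action
import Mathlib.LinearAlgebra.Projectivization.Cardinality
import Mathlib.FieldTheory.Finite.Extension

set_option autoImplicit false
open Cfsg

namespace Cfsg.Agent.H65

open Subgroup
open scoped LinearAlgebra.Projectivization

theorem le_of_forall_primePow {G : Type*} [Group G] [Finite G] {A S : Subgroup G}
    (h : ∀ s : ℕ, s.Prime → ∀ x ∈ A, (∃ k, orderOf x = s ^ k) → x ∈ S) : A ≤ S := by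
  intro x hx
  have h1 : Nat.card (zpowers x) ∣ Nat.card (zpowers x ⊓ S : Subgroup G) := by
    apply (Nat.dvd_iff_prime_pow_dvd_dvd _ _).mpr
    intro p k hp hpk
    rw [Nat.card_zpowers] at hpk
    obtain ⟨m, hm⟩ := hpk
    have hn0 : orderOf x ≠ 0 := (orderOf_pos x).ne'
    have hm0 : m ≠ 0 := by rintro rfl; rw [mul_zero] at hm; exact hn0 hm
    have hord : orderOf (x ^ m) = p ^ k := by
      rw [orderOf_pow, hm, Nat.gcd_eq_right (dvd_mul_left m _)]
      exact Nat.mul_div_cancel _ (Nat.pos_of_ne_zero hm0)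
    have h2 : x ^ m ∈ (zpowers x ⊓ S : Subgroup G) :=
      ⟨pow_mem (mem_zpowers x) m, h p hp _ (pow_mem hx m) ⟨k, hord⟩⟩
    rw [← hord, ← Subgroup.orderOf_mk _ h2]
    exact orderOf_dvd_natCard _
  have h2 : zpowers x ⊓ S = zpowers x := by
    apply Subgroup.eq_of_le_of_card_ge inf_le_left
    exact Nat.le_of_dvd Nat.card_pos h1
  have h3 : x ∈ zpowers x ⊓ S := h2.symm ▸ mem_zpowers x
  exact h3.2

section
variable {F V : Type*} [Field F] [AddCommGroup V] [Module F V] [Finite F] [Module.Finite F V]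

/-- a nilpotent group of linear maps containing `c` fixes the line of `e` -/
theorem nil_fix (A : Subgroup (LinearMap.GeneralLinearGroup F V)) (hA : Group.IsNilpotent A)
    (c : LinearMap.GeneralLinearGroup F V) (hc : c ∈ A) (e : V) (he : e ≠ 0)
    (hce : ∃ l : F, c • e = l • e)
    (hkey : ∀ s a b : ℕ, s.Prime → c = c ^ a * c ^ b → (∃ k, orderOf (c ^ a) = s ^ k) →
      (orderOf (c ^ b)).Coprime s →
      (∀ v : V, (∃ l : F, (c ^ b) • v = l • v) → ∃ l : F, v = l • e) ∨
      ((∀ v : V, (∃ l : F, (c ^ a) • v = l • v) → ∃ l : F, v = l • e) ∧ ¬ s ∣ Nat.card (ℙ F V))) :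
    ∀ g ∈ A, ∃ l : F, g • e = l • e := by
  have hVfin : Finite V := Module.finite_of_finite F
  have hEfin : Finite (LinearMap.GeneralLinearGroup F V) := by
    have : Finite (V →ₗ[F] V) := Finite.of_injective (fun f => (f : V → V)) DFunLike.coe_injective
    exact inferInstanceAs (Finite (V →ₗ[F] V)ˣ)
  -- powers of c
  have hpow : ∀ j : ℕ, ∃ l : F, (c ^ j) • e = l • e := by
    obtain ⟨l, hl⟩ := hce
    intro j
    refine ⟨l ^ j, ?_⟩
    induction j with
    | zero => rw [pow_zero, pow_zero, one_smul, one_smul]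
    | succ j ih =>
      rw [pow_succ, mul_smul, hl, smul_comm, ih, smul_smul, pow_succ, mul_comm]
  let S : Subgroup (LinearMap.GeneralLinearGroup F V) :=
    { carrier := {g | ∃ l : F, g • e = l • e}
      mul_mem' := by
        rintro a b ⟨l, hl⟩ ⟨m, hm⟩
        exact ⟨l * m, by rw [mul_smul, hm, smul_comm, hl, smul_smul, mul_comm]⟩
      one_mem' := ⟨1, by rw [one_smul, one_smul]⟩
      inv_mem' := by
        rintro a ⟨l, hl⟩
        have hl0 : l ≠ 0 := by
          rintro rfl
          rw [zero_smul] at hl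
          exact (smul_ne_zero_iff_ne a).mpr he hl
        refine ⟨l⁻¹, ?_⟩
        rw [inv_smul_eq_iff, smul_comm, hl, smul_smul, inv_mul_cancel₀ hl0, one_smul] }
  suffices h : A ≤ S from fun g hg => h hg
  apply le_of_forall_primePow
  rintro s hs g hg ⟨k, hk⟩
  have : Fact s.Prime := ⟨hs⟩
  obtain ⟨a, b, hab, ha, hb⟩ := Transfer.exists_pow_decomp s c (orderOf_pos c).ne'
  rcases hkey s a b hs hab ha hb with h | ⟨h, hcard⟩
  · -- g commutes with c ^ b
    have h1 : Commute (⟨g, hg⟩ : A) (⟨c, hc⟩ ^ b : A) := by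
      apply Transfer.commute_of_isNilpotent (p := s) hA (k := k)
      · apply Subtype.ext
        show g ^ s ^ k = 1
        rw [← hk, pow_orderOf_eq_one]
      · have : orderOf ((⟨c, hc⟩ : A) ^ b) = orderOf (c ^ b) := by
          rw [← Subgroup.orderOf_coe]; rfl
        rw [this]; exact hb
    have h2 : g * c ^ b = c ^ b * g := congrArg Subtype.val h1.eq
    apply h
    obtain ⟨l, hl⟩ := hpow b
    refine ⟨l, ?_⟩
    rw [← mul_smul, ← h2, mul_smul, hl, smul_comm]
  · -- Sylow subgroup
    have hgA : IsPGroup s (zpowers (⟨g, hg⟩ : A)) := by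
      apply IsPGroup.of_card (n := k)
      rw [Nat.card_zpowers, Subgroup.orderOf_mk, hk]
    obtain ⟨T, hT⟩ := hgA.exists_le_sylow
    have hTn : (T : Subgroup A).Normal := inferInstance
    have hcT : (⟨c, hc⟩ ^ a : A) ∈ (T : Subgroup A) := by
      obtain ⟨j, hj⟩ := ha
      have hcA : IsPGroup s (zpowers ((⟨c, hc⟩ : A) ^ a)) := by
        apply IsPGroup.of_card (n := j)
        rw [Nat.card_zpowers, ← hj, ← Subgroup.orderOf_coe]; rfl
      obtain ⟨T', hT'⟩ := hcA.exists_le_sylow
      obtain ⟨w, rfl⟩ := MulAction.exists_smul_eq A T T'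
      have : w • T = T := Sylow.smul_eq_of_normal
      rw [this] at hT'
      exact hT' (mem_zpowers _)
    let T' : Subgroup (LinearMap.GeneralLinearGroup F V) := (T : Subgroup A).map A.subtype
    have hT'p : IsPGroup s T' := T.2.map _
    obtain ⟨x, hx⟩ := hT'p.nonempty_fixed_point_of_prime_not_dvd_card (ℙ F V) hcard
    induction x with
    | h v hv =>
    have hfix : ∀ t ∈ T', ∃ l : F, t • v = l • v := by
      intro t ht
      have h1 := hx ⟨t, ht⟩
      have h2 : (t : LinearMap.GeneralLinearGroup F V) • (Projectivization.mk F v hv) =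
        Projectivization.mk F v hv := h1
      rw [Projectivization.smul_mk, Projectivization.mk_eq_mk_iff'] at h2
      obtain ⟨l, hl⟩ := h2
      exact ⟨l, hl.symm⟩
    obtain ⟨m, hm⟩ := h v (hfix (c ^ a) ⟨_, hcT, rfl⟩)
    obtain ⟨l, hl⟩ := hfix g ⟨_, hT (mem_zpowers _), rfl⟩
    have hm0 : m ≠ 0 := by
      rintro rfl
      rw [zero_smul] at hm
      exact hv hm
    refine ⟨l, ?_⟩
    have he' : e = m⁻¹ • v := by rw [hm, smul_smul, inv_mul_cancel₀ hm0, one_smul]
    rw [he', smul_comm, hl, smul_comm]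

end

section concrete
variable {F K : Type*} [Field F] [Field K] [Algebra F K]

/-- the diagonal maps of `K × F` -/
noncomputable def diagHom (F K : Type*) [Field F] [Field K] [Algebra F K] :
    K × F →* ((K × F) →ₗ[F] (K × F)) where
  toFun p := LinearMap.prodMap (LinearMap.mulLeft F p.1) (LinearMap.mulLeft F p.2)
  map_one' := by ext <;> simp
  map_mul' p q := by ext <;> simp

noncomputable def dg (k : Kˣ) (l : Fˣ) : LinearMap.GeneralLinearGroup F (K × F) :=
  Units.map (diagHom F K) (MulEquiv.prodUnits.symm (k, l))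

theorem dg_smul (k : Kˣ) (l : Fˣ) (v : K × F) : dg k l • v = ((k : K) * v.1, (l : F) * v.2) := rfl

theorem dg_mul (k k' : Kˣ) (l l' : Fˣ) : dg (F := F) (k * k') (l * l') = dg k l * dg k' l' := by
  unfold dg
  rw [← map_mul, ← map_mul, Prod.mk_mul_mk]

theorem dg_one : dg (F := F) (1 : Kˣ) 1 = 1 := by
  unfold dg
  rw [show ((1 : Kˣ), (1 : Fˣ)) = 1 from rfl, map_one, map_one]

theorem dg_pow (k : Kˣ) (l : Fˣ) (n : ℕ) : dg k l ^ n = dg (k ^ n) (l ^ n) := by
  induction n with
  | zero => rw [pow_zero, pow_zero, pow_zero, dg_one]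
  | succ n ih => rw [pow_succ, pow_succ, pow_succ, dg_mul, ih]

theorem dg_injective {k k' : Kˣ} {l l' : Fˣ} (h : dg k l = dg k' l') : k = k' ∧ l = l' := by
  have h1 := congrArg (fun g : LinearMap.GeneralLinearGroup F (K × F) => g • ((1, 1) : K × F)) h
  simp only [dg_smul] at h1
  have h2 := congrArg Prod.fst h1
  have h3 := congrArg Prod.snd h1
  simp only [mul_one] at h2 h3
  exact ⟨Units.ext h2, Units.ext h3⟩

/-- eigenlines of diagonal maps -/
theorem dg_eig {k : Kˣ} {l : Fˣ} (hk : (k : K) ∉ Set.range (algebraMap F K)) {v : K × F}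
    (hv : ∃ m : F, dg k l • v = m • v) : ∃ m : F, v = m • ((0, 1) : K × F) := by
  obtain ⟨m, hm⟩ := hv
  rw [dg_smul] at hm
  have h1 := congrArg Prod.fst hm
  simp only [Prod.smul_fst] at h1
  rw [Algebra.smul_def] at h1
  have h2 : v.1 = 0 := by
    by_contra h
    apply hk
    exact ⟨m, (mul_right_cancel₀ h h1).symm⟩
  refine ⟨v.2, ?_⟩
  ext
  · simp [h2]
  · simp

/-- the transvections -/
noncomputable def tv (f : K →ₗ[F] F) : LinearMap.GeneralLinearGroup F (K × F) :=
  LinearMap.GeneralLinearGroup.ofLinearEquiv (LinearEquiv.transvection (f := f ∘ₗ LinearMap.fst F K F)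
    (v := ((0, 1) : K × F)) (by simp))

theorem tv_smul (f : K →ₗ[F] F) (v : K × F) : tv f • v = (v.1, v.2 + f v.1) := by
  have : tv f • v = v + (f v.1) • ((0, 1) : K × F) := rfl
  rw [this]
  ext <;> simp

theorem tv_det [Module.Finite F K] (f : K →ₗ[F] F) :
    LinearMap.det ((tv f : LinearMap.GeneralLinearGroup F (K × F)) : (K × F) →ₗ[F] (K × F)) = 1 := by
  have : ((tv f : LinearMap.GeneralLinearGroup F (K × F)) : (K × F) →ₗ[F] (K × F)) =
    LinearMap.transvection (f ∘ₗ LinearMap.fst F K F) ((0, 1) : K × F) := rfl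
  rw [this, LinearMap.transvection.det]
  simp

theorem tv_mul (f g : K →ₗ[F] F) : tv f * tv g = tv (f + g) := by
  apply Units.ext
  apply LinearMap.ext
  intro v
  show (tv f * tv g) • v = tv (f + g) • v
  rw [mul_smul, tv_smul, tv_smul, tv_smul]
  ext
  · rfl
  · simp only [LinearMap.add_apply]
    ring

theorem tv_zero : tv (0 : K →ₗ[F] F) = 1 := by
  apply Units.ext
  apply LinearMap.ext
  intro v
  show tv (0 : K →ₗ[F] F) • v = v
  rw [tv_smul]
  simp

theorem tv_inv (f : K →ₗ[F] F) : (tv f)⁻¹ = tv (-f) := by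
  rw [inv_eq_iff_mul_eq_one, tv_mul, add_neg_cancel, tv_zero]

theorem tv_pow (f : K →ₗ[F] F) (n : ℕ) : tv f ^ n = tv (n • f) := by
  induction n with
  | zero => rw [pow_zero, zero_smul, tv_zero]
  | succ n ih => rw [pow_succ, ih, tv_mul, succ_nsmul]

theorem tv_injective {f g : K →ₗ[F] F} (h : tv f = tv g) : f = g := by
  apply LinearMap.ext
  intro x
  have h1 := congrArg (fun u : LinearMap.GeneralLinearGroup F (K × F) => u • ((x, 0) : K × F)) h
  simp only [tv_smul] at h1
  have h2 := congrArg Prod.snd h1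
  simpa using h2

/-- conjugation of transvections by diagonal maps -/
theorem dg_conj_tv (k : Kˣ) (l : Fˣ) (f : K →ₗ[F] F) :
    (dg k l) * tv f = tv ((l : F) • (f ∘ₗ LinearMap.mulLeft F ((k⁻¹ : Kˣ) : K))) * dg k l := by
  apply Units.ext
  apply LinearMap.ext
  intro v
  show (dg k l * tv f) • v = (tv _ * dg k l) • v
  rw [mul_smul, mul_smul, tv_smul, tv_smul, dg_smul, dg_smul]
  ext
  · rfl
  · simp [mul_add]

theorem eq_zero_of_commute {k : Kˣ} {l : Fˣ} (hk : (k : K) ∉ Set.range (algebraMap F K))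
    {f : K →ₗ[F] F} (h : dg k l * tv f = tv f * dg k l) : f = 0 := by
  apply LinearMap.ext
  intro x
  have h1 : ∀ x : K, (l : F) * f x = f ((k : K) * x) := by
    intro x
    have h2 := congrArg (fun u : LinearMap.GeneralLinearGroup F (K × F) => u • ((x, 0) : K × F)) h
    simp only [mul_smul, tv_smul, dg_smul] at h2
    have h3 := congrArg Prod.snd h2
    simpa using h3
  have hne : (k : K) - algebraMap F K l ≠ 0 := by
    intro h0
    exact hk ⟨l, (sub_eq_zero.mp h0).symm⟩
  have h2 : f (((k : K) - algebraMap F K l) * ((((k : K) - algebraMap F K l))⁻¹ * x)) = 0 := by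
    rw [sub_mul, map_sub, ← h1, ← Algebra.smul_def, map_smul, smul_eq_mul, sub_self]
  rw [← mul_assoc, mul_inv_cancel₀ hne, one_mul] at h2
  rw [h2]; rfl

theorem exists_dg_det [Module.Finite F K] (k : Kˣ) : ∃ l : Fˣ,
    LinearMap.det ((dg k l : LinearMap.GeneralLinearGroup F (K × F)) : (K × F) →ₗ[F] (K × F)) = 1 := by
  let l : Fˣ := (Units.map LinearMap.det (dg k (1 : Fˣ) : LinearMap.GeneralLinearGroup F (K × F)))⁻¹
  refine ⟨l, ?_⟩
  have h1 : dg k l = dg k (1 : Fˣ) * dg (1 : Kˣ) l := by rw [← dg_mul, mul_one, one_mul]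
  have h2 : LinearMap.det ((dg (1 : Kˣ) l : LinearMap.GeneralLinearGroup F (K × F)) :
      (K × F) →ₗ[F] (K × F)) = l := by
    have : ((dg (1 : Kˣ) l : LinearMap.GeneralLinearGroup F (K × F)) : (K × F) →ₗ[F] (K × F)) =
      LinearMap.prodMap (LinearMap.id) (LinearMap.mulLeft F (l : F)) := by
      apply LinearMap.ext
      intro v
      have h3 : ((dg (1 : Kˣ) l : LinearMap.GeneralLinearGroup F (K × F)) :
        (K × F) →ₗ[F] (K × F)) v = dg (1 : Kˣ) l • v := rfl
      rw [h3, dg_smul]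
      ext <;> simp
    rw [this, LinearMap.det_prodMap, LinearMap.det_id, one_mul, LinearMap.det_mulLeft]
  rw [h1, Units.val_mul, map_mul, h2]
  exact (Units.map LinearMap.det (dg k (1 : Fˣ) : LinearMap.GeneralLinearGroup F (K × F))).mul_inv

theorem mem_range_of_pow [Finite F] [Finite K] (z : Kˣ) (hz : z ^ (Nat.card F - 1) = 1) :
    (z : K) ∈ Set.range (algebraMap F K) := by
  let φ : Fˣ →* Kˣ := Units.map (algebraMap F K).toMonoidHom
  have hφ : Function.Injective φ := Units.map_injective (algebraMap F K).injective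
  have h1 : Nat.card φ.range = Nat.card F - 1 := by
    rw [← Nat.card_congr (MonoidHom.ofInjective hφ).toEquiv, Nat.card_units]
  have h2 : zpowers z ≤ φ.range := by
    apply cyclic_le_of_card_dvd
    rw [h1, Nat.card_zpowers]
    exact orderOf_dvd_of_pow_eq_one hz
  obtain ⟨w, hw⟩ := h2 (mem_zpowers z)
  exact ⟨w, congrArg Units.val hw⟩

theorem core_big {F K H : Type*} [Field F] [Field K] [Algebra F K] [Finite F] [Finite K]
    [Group H] [Finite H] (hd : 2 ≤ Module.finrank F K)
    (Ψ : LinearMap.GeneralLinearGroup F (K × F) →* H) (hΨ : Function.Surjective Ψ)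
    (hker : Ψ.ker ≤ Subgroup.center _) (G : Subgroup H)
    (hG : ∀ g : LinearMap.GeneralLinearGroup F (K × F),
      LinearMap.det (g : (K × F) →ₗ[F] (K × F)) = 1 → Ψ g ∈ G) :
    ¬ ∃ 𝓐 : Finset (Subgroup G), NMC 𝓐 := by
  have hfin : Module.Finite F K := Module.finite_iff_finite.mpr inferInstance
  have hEfin : Finite (LinearMap.GeneralLinearGroup F (K × F)) := by
    have : Finite ((K × F) →ₗ[F] (K × F)) :=
      Finite.of_injective (fun f => (f : (K × F) → (K × F))) DFunLike.coe_injective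
    exact inferInstanceAs (Finite ((K × F) →ₗ[F] (K × F))ˣ)
  -- the characteristic
  obtain ⟨p, hp⟩ := CharP.exists F
  have hpp : p.Prime := (CharP.char_is_prime_or_zero F p).resolve_right (CharP.char_ne_zero_of_finite F p)
  have : Fact p.Prime := ⟨hpp⟩
  set q := Nat.card F with hq
  set d := Module.finrank F K with hdd
  have hKcard : Nat.card K = q ^ d := Module.natCard_eq_pow_finrank
  obtain ⟨m, hm0, hm⟩ : ∃ m : ℕ, m ≠ 0 ∧ q = p ^ m := by
    have := Fintype.ofFinite F
    obtain ⟨m, -, hm⟩ := FiniteField.card F p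
    exact ⟨m, m.ne_zero, by rw [hq, Nat.card_eq_fintype_card, hm]⟩
  have hq2 : 2 ≤ q := by
    rw [hm]
    calc 2 ≤ p := hpp.two_le
      _ = p ^ 1 := (pow_one p).symm
      _ ≤ p ^ m := Nat.pow_le_pow_right hpp.pos (Nat.pos_of_ne_zero hm0)
  -- generator of Kˣ
  obtain ⟨y, hy⟩ := (inferInstance : IsCyclic Kˣ).exists_generator
  have hyF : (y : K) ∉ Set.range (algebraMap F K) := by
    rintro ⟨w, hw⟩
    have h1 : ∀ x : K, x ∈ Set.range (algebraMap F K) := by
      intro x
      rcases eq_or_ne x 0 with rfl | hx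
      · exact ⟨0, map_zero _⟩
      · obtain ⟨i, hi⟩ := hy (Units.mk0 x hx)
        refine ⟨w ^ i, ?_⟩
        rw [map_zpow₀, hw]
        have := congrArg Units.val hi
        simpa using this
    have h2 : Nat.card K ≤ q := by
      rw [hq]
      exact Nat.card_le_card_of_surjective (algebraMap F K) h1
    rw [hKcard] at h2
    have h3 : q ^ 2 ≤ q ^ d := Nat.pow_le_pow_right (by omega) hd
    nlinarith
  obtain ⟨l, hl⟩ := exists_dg_det (F := F) y
  set c : LinearMap.GeneralLinearGroup F (K × F) := dg y l with hc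
  let e : K × F := (0, 1)
  have he : e ≠ 0 := by
    intro h
    exact one_ne_zero (congrArg Prod.snd h)
  have hce : ∃ m : F, c • e = m • e := by
    refine ⟨l, ?_⟩
    rw [hc, dg_smul]
    ext
    · simp [e]
    · simp [e]
  have hNpow : y ^ (q ^ d - 1) = 1 := by
    have h1 : Nat.card Kˣ = q ^ d - 1 := by rw [Nat.card_units, hKcard]
    rw [← h1]
    exact pow_card_eq_one'
  have hlpow : l ^ (q - 1) = 1 := by
    have h1 : Nat.card Fˣ = q - 1 := by rw [Nat.card_units]
    rw [← h1]
    exact pow_card_eq_one'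
  have hsub : q ^ d - 1 = (∑ i ∈ Finset.range d, q ^ i) * (q - 1) := by
    rw [Nat.geomSum_eq hq2, Nat.div_mul_cancel]
    exact Nat.sub_one_dvd_pow_sub_one q d
  have hcpow : c ^ (q ^ d - 1) = 1 := by
    rw [hc, dg_pow, hNpow, hsub, mul_comm, pow_mul, hlpow, one_pow, dg_one]
  have hccop : (orderOf c).Coprime p := by
    refine Nat.Coprime.coprime_dvd_left (orderOf_dvd_of_pow_eq_one hcpow) ?_
    rw [Nat.coprime_comm, Nat.Prime.coprime_iff_not_dvd hpp]
    intro h1
    have h2 : p ∣ q ^ d := by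
      rw [hm, ← pow_mul]
      exact dvd_pow_self p (Nat.mul_ne_zero hm0 (by omega))
    have h3 : 1 ≤ q ^ d := Nat.one_le_pow _ _ (by omega)
    have h4 : p ∣ 1 := by
      have := Nat.dvd_sub h2 h1
      rwa [Nat.sub_sub_self h3] at this
    exact hpp.one_lt.ne' (Nat.dvd_one.mp h4)
  -- nilpotent subgroups containing c fix the line of e
  have hfix : ∀ A : Subgroup (LinearMap.GeneralLinearGroup F (K × F)), Group.IsNilpotent A →
      c ∈ A → ∀ g ∈ A, ∃ m : F, g • e = m • e := by
    intro A hA hcA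
    apply nil_fix A hA c hcA e he hce
    intro s a b hs hab ha hb
    have hca : c ^ a = dg (y ^ a) (l ^ a) := dg_pow _ _ _
    have hcb : c ^ b = dg (y ^ b) (l ^ b) := dg_pow _ _ _
    by_cases hyb : ((y ^ b : Kˣ) : K) ∈ Set.range (algebraMap F K)
    · right
      have hya : ((y ^ a : Kˣ) : K) ∉ Set.range (algebraMap F K) := by
        intro hya
        apply hyF
        have h1 : y = y ^ a * y ^ b := by
          rw [hca, hcb, ← dg_mul] at hab
          exact (dg_injective hab).1
        obtain ⟨u, hu⟩ := hya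
        obtain ⟨v, hv⟩ := hyb
        refine ⟨u * v, ?_⟩
        rw [map_mul, hu, hv, ← Units.val_mul, ← h1]
      refine ⟨fun v hv => dg_eig hya (by rwa [hca] at hv), ?_⟩
      intro hsd
      rw [Projectivization.card_of_finrank F (K × F) (n := d + 1)
        (by rw [Module.finrank_prod, Module.finrank_self]), ← hq, Finset.sum_range_succ'] at hsd
      have hM : ∑ i ∈ Finset.range d, q ^ (i + 1) = q * ∑ i ∈ Finset.range d, q ^ i := by
        rw [Finset.mul_sum]
        apply Finset.sum_congr rfl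
        intro i _
        rw [pow_succ, mul_comm]
      rw [hM, pow_zero] at hsd
      by_cases hsM : s ∣ ∑ i ∈ Finset.range d, q ^ i
      · have h1 : s ∣ 1 := (Nat.dvd_add_right (hsM.mul_left q)).mp hsd
        exact hs.one_lt.ne' (Nat.dvd_one.mp h1)
      · apply hya
        obtain ⟨k, hk⟩ := ha
        have h1 : (y ^ a) ^ s ^ k = 1 := by
          have h2 : (c ^ a) ^ s ^ k = 1 := by rw [← hk, pow_orderOf_eq_one]
          rw [hca, dg_pow, ← dg_one (F := F) (K := K)] at h2
          exact (dg_injective h2).1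
        have h3 : orderOf (y ^ a) ∣ s ^ k := orderOf_dvd_of_pow_eq_one h1
        have h4 : orderOf (y ^ a) ∣ (∑ i ∈ Finset.range d, q ^ i) * (q - 1) := by
          apply orderOf_dvd_of_pow_eq_one
          rw [← hsub, ← pow_mul, mul_comm, pow_mul, hNpow, one_pow]
        have h5 : Nat.Coprime (orderOf (y ^ a)) (∑ i ∈ Finset.range d, q ^ i) := by
          refine Nat.Coprime.coprime_dvd_left h3 ?_
          exact Nat.Coprime.pow_left _ ((Nat.Prime.coprime_iff_not_dvd hs).mpr hsM)
        have h6 := h5.dvd_of_dvd_mul_left h4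
        exact mem_range_of_pow (y ^ a) (orderOf_dvd_iff_pow_eq_one.mp h6)
    · left
      intro v hv
      exact dg_eig hyb (by rwa [hcb] at hv)
  -- the stabilizer of the line of e
  let S' : Subgroup (LinearMap.GeneralLinearGroup F (K × F)) :=
    { carrier := {g | ∃ l : F, g • e = l • e}
      mul_mem' := by
        rintro a b ⟨l, hl⟩ ⟨m, hm⟩
        exact ⟨l * m, by rw [mul_smul, hm, smul_comm, hl, smul_smul, mul_comm]⟩
      one_mem' := ⟨1, by rw [one_smul, one_smul]⟩
      inv_mem' := by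
        rintro a ⟨l, hl⟩
        have hl0 : l ≠ 0 := by
          rintro rfl
          rw [zero_smul] at hl
          exact (smul_ne_zero_iff_ne a).mpr he hl
        refine ⟨l⁻¹, ?_⟩
        rw [inv_smul_eq_iff, smul_comm, hl, smul_smul, inv_mul_cancel₀ hl0, one_smul] }
  have hceig : ∀ v : K × F, (∃ m : F, c • v = m • v) → ∃ m : F, v = m • e := fun v hv => dg_eig hyF hv
  -- uniqueness upstairs
  have huniq' : ∀ g : LinearMap.GeneralLinearGroup F (K × F), g⁻¹ * c * g ∈ S' → g ∈ S' := by
    rintro g ⟨m, hm⟩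
    apply hceig
    refine ⟨m, ?_⟩
    rw [mul_assoc, mul_smul, inv_smul_eq_iff, mul_smul] at hm
    rw [hm, smul_comm]
  have hZS : Ψ.ker ≤ S' := by
    intro z hz
    apply huniq'
    have h1 := Subgroup.mem_center_iff.mp (hker hz) c
    rw [mul_assoc, h1, ← mul_assoc, inv_mul_cancel, one_mul]
    exact hce
  have hmemS : ∀ g, Ψ g ∈ S'.map Ψ → g ∈ S' := by
    rintro g ⟨s, hs, hsg⟩
    have h1 : s⁻¹ * g ∈ Ψ.ker := by
      rw [MonoidHom.mem_ker, map_mul, map_inv, hsg, inv_mul_cancel]
    have h2 : g = s * (s⁻¹ * g) := by group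
    rw [h2]
    exact S'.mul_mem hs (hZS h1)
  have hcdet : Ψ c ∈ G := hG c hl
  let S : Subgroup G := (S'.map Ψ).subgroupOf G
  refine no_nmc_of_stab S ?_ ⟨Ψ c, hcdet⟩ ?_ ?_ ?_
  · -- S ≠ ⊤
    intro htop
    -- a transvection moving e
    let φ : (K × F) →ₗ[F] F := LinearMap.snd F K F
    let τ : LinearMap.GeneralLinearGroup F (K × F) :=
      LinearMap.GeneralLinearGroup.ofLinearEquiv (LinearEquiv.transvection (f := φ)
        (v := ((1, 0) : K × F)) (by simp [φ]))
    have h1 : LinearMap.det (τ : (K × F) →ₗ[F] (K × F)) = 1 := by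
      have : (τ : (K × F) →ₗ[F] (K × F)) = LinearMap.transvection φ ((1, 0) : K × F) := rfl
      rw [this, LinearMap.transvection.det]
      simp [φ]
    have h2 : (⟨Ψ τ, hG τ h1⟩ : G) ∈ S := htop ▸ mem_top _
    have h3 : τ ∈ S' := hmemS τ h2
    obtain ⟨m, hm⟩ := h3
    have h4 : τ • e = e + (1 : F) • ((1, 0) : K × F) := rfl
    rw [h4] at hm
    have h5 := congrArg Prod.fst hm
    simp [e] at h5
  · rintro ⟨g, hg⟩ hgS
    obtain ⟨g', rfl⟩ := hΨ g
    have h1 : Ψ (g'⁻¹ * c * g') ∈ S'.map Ψ := by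
      rw [map_mul, map_mul, map_inv]
      exact hgS
    have h2 := huniq' g' (hmemS _ h1)
    exact ⟨g', h2, rfl⟩
  · intro A hA hcA a ha
    -- the preimage of A
    let A₁ : Subgroup H := A.map G.subtype
    let A' : Subgroup (LinearMap.GeneralLinearGroup F (K × F)) := A₁.comap Ψ
    have hA₁ : Group.IsNilpotent A₁ := by
      exact Group.nilpotent_of_mulEquiv (A.equivMapOfInjective G.subtype G.subtype_injective)
    have hA' : Group.IsNilpotent A' := by
      refine Subgroup.isNilpotent_of_ker_le_center (Ψ.subgroupComap A₁) ?_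
      intro x hx
      rw [Subgroup.mem_center_iff]
      intro g
      have h1 : (x : LinearMap.GeneralLinearGroup F (K × F)) ∈ Ψ.ker := by
        rw [MonoidHom.mem_ker] at hx ⊢
        exact congrArg Subtype.val hx
      exact Subtype.ext (Subgroup.mem_center_iff.mp (hker h1) g)
    have hcA' : c ∈ A' := ⟨⟨Ψ c, hcdet⟩, hcA, rfl⟩
    obtain ⟨a', ha'⟩ := hΨ (a : H)
    have h1 : a' ∈ A' := ⟨a, ha, ha'.symm⟩
    have h2 := hfix A' hA' hcA' a' h1
    exact ⟨a', h2, ha'⟩
  · -- two conjugates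
    obtain ⟨f, hf⟩ : ∃ f : K →ₗ[F] F, f ≠ 0 := by
      have : Nontrivial (K →ₗ[F] F) := inferInstance
      exact exists_ne 0
    refine ⟨⟨Ψ (tv f), hG _ (tv_det f)⟩, ⟨tv f, ?_, rfl⟩, ?_⟩
    · refine ⟨1, ?_⟩
      rw [tv_smul]
      ext
      · simp [e]
      · simp [e]
    · intro A hA hcA hcA2
      let A₁ : Subgroup H := A.map G.subtype
      let A' : Subgroup (LinearMap.GeneralLinearGroup F (K × F)) := A₁.comap Ψ
      have hA₁ : Group.IsNilpotent A₁ := by
        exact Group.nilpotent_of_mulEquiv (A.equivMapOfInjective G.subtype G.subtype_injective)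
      have hA' : Group.IsNilpotent A' := by
        refine Subgroup.isNilpotent_of_ker_le_center (Ψ.subgroupComap A₁) ?_
        intro x hx
        rw [Subgroup.mem_center_iff]
        intro g
        have h1 : (x : LinearMap.GeneralLinearGroup F (K × F)) ∈ Ψ.ker := by
          rw [MonoidHom.mem_ker] at hx ⊢
          exact congrArg Subtype.val hx
        exact Subtype.ext (Subgroup.mem_center_iff.mp (hker h1) g)
      have hcA' : c ∈ A' := ⟨⟨Ψ c, hcdet⟩, hcA, rfl⟩
      have hcA2' : tv f * c * (tv f)⁻¹ ∈ A' := by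
        refine ⟨_, hcA2, ?_⟩
        show (Ψ (tv f) * Ψ c * (Ψ (tv f))⁻¹) = _
        rw [map_mul, map_mul, map_inv]
      -- c * tv f = tv f' * c
      have h1 : tv f * c * (tv f)⁻¹ * c⁻¹ ∈ A' := A'.mul_mem hcA2' (A'.inv_mem hcA')
      have h2 := dg_conj_tv y l (-f)
      rw [← hc] at h2
      obtain ⟨f', hf'⟩ : ∃ f' : K →ₗ[F] F, tv f * c * (tv f)⁻¹ * c⁻¹ = tv f' := by
        refine ⟨f + (l : F) • ((-f) ∘ₗ LinearMap.mulLeft F ((y⁻¹ : Kˣ) : K)), ?_⟩
        rw [← tv_mul, tv_inv, mul_assoc (tv f), h2]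
        group
      rw [hf'] at h1
      have h3 : Commute (⟨tv f', h1⟩ : A') (⟨c, hcA'⟩ : A') := by
        apply Transfer.commute_of_isNilpotent (p := p) hA' (k := 1)
        · apply Subtype.ext
          show tv f' ^ p ^ 1 = 1
          rw [pow_one, tv_pow]
          have : p • f' = 0 := by
            apply LinearMap.ext
            intro x
            rw [LinearMap.smul_apply, nsmul_eq_mul, CharP.cast_eq_zero, zero_mul]
            rfl
          rw [this, tv_zero]
        · rw [Subgroup.orderOf_mk]; exact hccop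
      have h4 : tv f' * c = c * tv f' := congrArg Subtype.val h3.eq
      have h5 : f' = 0 := eq_zero_of_commute hyF h4.symm
      rw [h5, tv_zero, mul_inv_eq_one, mul_inv_eq_iff_eq_mul] at hf'
      exact hf (eq_zero_of_commute hyF hf'.symm)

end concrete

end Cfsg.Agent.H65
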