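import Cfsg.Prelude
import Cfsg.Agent.H65.CoverAct

set_option autoImplicit false
open Cfsg

namespace Cfsg.Agent.H65

open Subgroup
open scoped Pointwise

/-- No nilpotent minimal cover, version with tori fixing two points. -/
theorem no_nmc_of_pairs {G Ω : Type*} [Group G] [Finite G] [Finite Ω] [MulAction G Ω]
    (hΩ : 4 ≤ Nat.card Ω) (c : G) (p₀ p₁ : Ω) (hne : p₀ ≠ p₁)
    (htrans : ∀ p p' : Ω, p ≠ p' → ∃ g : G, g • p₀ = p ∧ g • p₁ = p')
    (hc2 : ∀ x : Ω, c ^ 2 • x = x → x = p₀ ∨ x = p₁)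
    (hA : ∀ A : Subgroup G, Group.IsNilpotent A → c ∈ A → ∀ a ∈ A,
      (a • p₀ = p₀ ∨ a • p₀ = p₁) ∧ (a • p₁ = p₀ ∨ a • p₁ = p₁))
    (hcov : ∀ a : G, (∀ x : Ω, a • x ≠ x) → ∃ c' : G, a ∈ zpowers c' ∧ ∀ x : Ω, c' ^ 2 • x ≠ x) :
    ¬ ∃ 𝓐 : Finset (Subgroup G), NMC 𝓐 := by
  classical
  rintro ⟨𝓐, ⟨hprop, hcov'⟩, hmin, hnilp⟩
  have := Fintype.ofFinite G
  have := Fintype.ofFinite Ω
  -- elements of nilpotent subgroups containing `c` have squares fixing both points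
  have hsq : ∀ A : Subgroup G, Group.IsNilpotent A → c ∈ A → ∀ a ∈ A,
      a ^ 2 • p₀ = p₀ ∧ a ^ 2 • p₁ = p₁ := by
    intro A hA' hc a ha
    obtain ⟨h1, h2⟩ := hA A hA' hc a ha
    rcases h1 with h1 | h1
    · rcases h2 with h2 | h2
      · exact absurd (smul_left_cancel a (h1.trans h2.symm)) hne
      · constructor
        · rw [sq, mul_smul, h1, h1]
        · rw [sq, mul_smul, h2, h2]
    · rcases h2 with h2 | h2
      · constructor
        · rw [sq, mul_smul, h1, h2]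
        · rw [sq, mul_smul, h2, h1]
      · exact absurd (smul_left_cancel a (h1.trans h2.symm)) hne
  have hsq' : ∀ (A : Subgroup G) (g : G), Group.IsNilpotent A → g * c * g⁻¹ ∈ A → ∀ a ∈ A,
      a ^ 2 • (g • p₀) = g • p₀ ∧ a ^ 2 • (g • p₁) = g • p₁ := by
    intro A g hA' hg a ha
    have h1 : Group.IsNilpotent (MulAut.conj g⁻¹ • A : Subgroup G) :=
      Group.nilpotent_of_mulEquiv (Subgroup.equivSMul (MulAut.conj g⁻¹) A)
    have h2 : c ∈ (MulAut.conj g⁻¹ • A : Subgroup G) := by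
      rw [Subgroup.mem_pointwise_smul_iff_inv_smul_mem, ← map_inv, inv_inv, MulAut.smul_def,
        MulAut.conj_apply]
      exact hg
    have h3 : g⁻¹ * a * g ∈ (MulAut.conj g⁻¹ • A : Subgroup G) := by
      rw [Subgroup.mem_pointwise_smul_iff_inv_smul_mem, ← map_inv, inv_inv, MulAut.smul_def,
        MulAut.conj_apply]
      have : g * (g⁻¹ * a * g) * g⁻¹ = a := by group
      rw [this]; exact ha
    obtain ⟨h4, h5⟩ := hsq _ h1 h2 _ h3
    have h6 : (g⁻¹ * a * g) ^ 2 = g⁻¹ * (a ^ 2 * g) := by rw [sq, sq]; group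
    rw [h6, mul_smul, inv_smul_eq_iff, mul_smul] at h4 h5
    exact ⟨h4, h5⟩
  let 𝓐₀ : Finset (Subgroup G) := 𝓐.filter (fun A => ∃ g : G, g * c * g⁻¹ ∈ A)
  let 𝓢 : Finset (Subgroup G) := Finset.univ.image (fun x : Ω => MulAction.stabilizer G x)
  let 𝓑 : Finset (Subgroup G) := (𝓐 \ 𝓐₀) ∪ 𝓢
  have hB : 𝓐.card ≤ 𝓑.card := by
    apply hmin
    constructor
    · intro A hA
      rcases Finset.mem_union.mp hA with h | h
      · exact hprop A (Finset.mem_sdiff.mp h).1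
      · obtain ⟨x, -, rfl⟩ := Finset.mem_image.mp h
        intro htop
        -- some other point
        obtain ⟨y, hy⟩ : ∃ y : Ω, y ≠ x := by
          by_cases hx : x = p₀
          · exact ⟨p₁, by rw [hx]; exact hne.symm⟩
          · exact ⟨p₀, fun h => hx h.symm⟩
        obtain ⟨g, hg1, hg2⟩ := htrans x y hy.symm
        obtain ⟨h, hh1, hh2⟩ := htrans y x hy
        have h1 : h * g⁻¹ ∈ MulAction.stabilizer G x := htop ▸ mem_top _
        rw [MulAction.mem_stabilizer_iff, mul_smul, inv_smul_eq_iff.mpr hg1.symm, hh1] at h1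
        exact hy h1
    · intro x
      by_cases hfix : ∃ p : Ω, x • p = p
      · obtain ⟨p, hp⟩ := hfix
        exact ⟨_, Finset.mem_union_right _ (Finset.mem_image.mpr ⟨p, Finset.mem_univ _, rfl⟩), hp⟩
      · push Not at hfix
        obtain ⟨c', hx, hc'⟩ := hcov x hfix
        obtain ⟨A, hA, hcA⟩ := hcov' c'
        refine ⟨A, Finset.mem_union_left _ (Finset.mem_sdiff.mpr ⟨hA, ?_⟩), (zpowers_le.mpr hcA) hx⟩
        intro h
        obtain ⟨-, g, hg⟩ := Finset.mem_filter.mp h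
        exact hc' _ (hsq' A g (hnilp A hA) hg c' hcA).1
  have h𝓐₀ : 𝓐₀ ⊆ 𝓐 := Finset.filter_subset _ _
  have hcard : 𝓐₀.card ≤ Fintype.card Ω := by
    have h1 : 𝓑.card ≤ (𝓐 \ 𝓐₀).card + 𝓢.card := Finset.card_union_le _ _
    rw [Finset.card_sdiff_of_subset h𝓐₀] at h1
    have h2 := Finset.card_le_card h𝓐₀
    have h3 : 𝓢.card ≤ Fintype.card Ω := Finset.card_image_le
    omega
  have hex : ∀ A ∈ 𝓐₀, ∃ g : G, g * c * g⁻¹ ∈ A := fun A hA => (Finset.mem_filter.mp hA).2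
  choose! γ hγ using hex
  have hwell : ∀ (A : Subgroup G) (g h : G), A ∈ 𝓐 → g * c * g⁻¹ ∈ A → h * c * h⁻¹ ∈ A →
      ({g • p₀, g • p₁} : Finset Ω) = {h • p₀, h • p₁} := by
    intro A g h hA hg hh
    have h1 := hsq' A h (hnilp A hA) hh _ hg
    have h2 : (g * c * g⁻¹) ^ 2 = g * (c ^ 2 * g⁻¹) := by rw [sq, sq]; group
    rw [h2, mul_smul, mul_smul, mul_smul, mul_smul, smul_eq_iff_eq_inv_smul,
      smul_eq_iff_eq_inv_smul g] at h1
    have h3 := hc2 _ h1.1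
    have h4 := hc2 _ h1.2
    rw [inv_smul_eq_iff, inv_smul_eq_iff] at h3 h4
    have hne' : h • p₀ ≠ h • p₁ := fun h5 => hne (smul_left_cancel h h5)
    rcases h3 with h3 | h3 <;> rcases h4 with h4 | h4
    · exact absurd (h3.trans h4.symm) hne'
    · rw [h3, h4]
    · rw [h3, h4, Finset.pair_comm]
    · exact absurd (h3.trans h4.symm) hne'
  have hsurj : (Finset.univ : Finset Ω).powersetCard 2 ⊆
      𝓐₀.image (fun A => ({γ A • p₀, γ A • p₁} : Finset Ω)) := by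
    intro T hT
    obtain ⟨-, hT2⟩ := Finset.mem_powersetCard.mp hT
    obtain ⟨x, y, hxy, rfl⟩ := Finset.card_eq_two.mp hT2
    obtain ⟨g, hg1, hg2⟩ := htrans x y hxy
    obtain ⟨A, hA, hgA⟩ := hcov' (g * c * g⁻¹)
    have hA0 : A ∈ 𝓐₀ := Finset.mem_filter.mpr ⟨hA, g, hgA⟩
    refine Finset.mem_image.mpr ⟨A, hA0, ?_⟩
    rw [hwell A _ g hA (hγ A hA0) hgA, hg1, hg2]
  have h1 := (Finset.card_le_card hsurj).trans Finset.card_image_le
  rw [Finset.card_powersetCard, Finset.card_univ] at h1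
  have h2 := h1.trans hcard
  rw [Nat.card_eq_fintype_card] at hΩ
  rw [Nat.choose_two_right] at h2
  have h3 : Fintype.card Ω * (Fintype.card Ω - 1) < 2 * (Fintype.card Ω + 1) := by
    have := Nat.div_lt_iff_lt_mul (k := 2) (by norm_num : 0 < 2) (x := Fintype.card Ω * (Fintype.card Ω - 1)) (y := Fintype.card Ω + 1)
    have h4 : Fintype.card Ω * (Fintype.card Ω - 1) / 2 < Fintype.card Ω + 1 := by omega
    rw [this] at h4
    linarith
  obtain ⟨N, hN⟩ : ∃ N, Fintype.card Ω = N + 4 := ⟨Fintype.card Ω - 4, by omega⟩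
  rw [hN] at h3
  have h5 : N + 4 - 1 = N + 3 := by omega
  rw [h5] at h3
  nlinarith

end Cfsg.Agent.H65
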