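import Cfsg.Prelude
import Cfsg.Agent.H65.CoverPair
import Cfsg.Agent.H65.BQuot
import Mathlib.LinearAlgebra.Projectivization.Action
import Mathlib.LinearAlgebra.Projectivization.Cardinality

set_option autoImplicit false
open Cfsg

namespace Cfsg.Agent.H65

open Subgroup Matrix
open scoped LinearAlgebra.Projectivization

variable {F : Type*} [Field F]

/-- the action of `PGL₂` on the projective line -/
noncomputable instance pglAct : MulAction (GL (Fin 2) F ⧸ Subgroup.center (GL (Fin 2) F)) (ℙ F (Fin 2 → F)) :=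
  inferInstanceAs (MulAction (Matrix.ProjGenLinGroup (Fin 2) F) (ℙ F (Fin 2 → F)))

abbrev mkP (g : GL (Fin 2) F) : GL (Fin 2) F ⧸ Subgroup.center (GL (Fin 2) F) := QuotientGroup.mk' _ g

theorem mkP_mul (g h : GL (Fin 2) F) : mkP (g * h) = mkP g * mkP h := map_mul _ g h
theorem mkP_inv (g : GL (Fin 2) F) : mkP g⁻¹ = (mkP g)⁻¹ := map_inv _ g
theorem mkP_zpow (g : GL (Fin 2) F) (i : ℤ) : mkP (g ^ i) = mkP g ^ i := map_zpow _ g i

theorem mkP_smul (g : GL (Fin 2) F) (v : Fin 2 → F) (hv : v ≠ 0) (w : Fin 2 → F) (hw : w ≠ 0) :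
    mkP g • Projectivization.mk F v hv = Projectivization.mk F w hw ↔ ∃ l : F, l • w = g.1 *ᵥ v := by
  have h1 : mkP g • Projectivization.mk F v hv =
    Projectivization.mk F (g • v) ((smul_ne_zero_iff_ne g).mpr hv) := rfl
  rw [h1, Projectivization.mk_eq_mk_iff']
  rfl

theorem e0_ne : (![1, 0] : Fin 2 → F) ≠ 0 := by
  intro h
  have := congrFun h 0
  simp at this

theorem e1_ne : (![0, 1] : Fin 2 → F) ≠ 0 := by
  intro h
  have := congrFun h 1
  simp at this

noncomputable def P0 (F : Type*) [Field F] : ℙ F (Fin 2 → F) := Projectivization.mk F ![1, 0] e0_ne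
noncomputable def P1 (F : Type*) [Field F] : ℙ F (Fin 2 → F) := Projectivization.mk F ![0, 1] e1_ne

theorem P0_ne_P1 : P0 F ≠ P1 F := by
  intro h
  rw [P0, P1, Projectivization.mk_eq_mk_iff'] at h
  obtain ⟨a, ha⟩ := h
  have := congrFun ha 0
  simp at this

theorem smul_P0 (g : GL (Fin 2) F) : mkP g • P0 F = P0 F ↔ g.1 1 0 = 0 := by
  rw [P0, mkP_smul]
  constructor
  · rintro ⟨l, hl⟩
    have := congrFun hl 1
    simp [Matrix.mulVec, dotProduct, Fin.sum_univ_two] at this
    exact this.symm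
  · intro h
    refine ⟨g.1 0 0, ?_⟩
    ext i
    fin_cases i
    · simp [Matrix.mulVec, dotProduct, Fin.sum_univ_two]
    · simp [Matrix.mulVec, dotProduct, Fin.sum_univ_two, h]

theorem smul_P1 (g : GL (Fin 2) F) : mkP g • P1 F = P1 F ↔ g.1 0 1 = 0 := by
  rw [P1, mkP_smul]
  constructor
  · rintro ⟨l, hl⟩
    have := congrFun hl 0
    simp [Matrix.mulVec, dotProduct, Fin.sum_univ_two] at this
    exact this.symm
  · intro h
    refine ⟨g.1 1 1, ?_⟩
    ext i
    fin_cases i
    · simp [Matrix.mulVec, dotProduct, Fin.sum_univ_two, h]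
    · simp [Matrix.mulVec, dotProduct, Fin.sum_univ_two]

theorem smul_P0_P1 (g : GL (Fin 2) F) : mkP g • P0 F = P1 F ↔ g.1 0 0 = 0 := by
  rw [P0, P1, mkP_smul]
  constructor
  · rintro ⟨l, hl⟩
    have := congrFun hl 0
    simp [Matrix.mulVec, dotProduct, Fin.sum_univ_two] at this
    exact this.symm
  · intro h
    refine ⟨g.1 1 0, ?_⟩
    ext i
    fin_cases i
    · simp [Matrix.mulVec, dotProduct, Fin.sum_univ_two, h]
    · simp [Matrix.mulVec, dotProduct, Fin.sum_univ_two]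

theorem smul_P1_P0 (g : GL (Fin 2) F) : mkP g • P1 F = P0 F ↔ g.1 1 1 = 0 := by
  rw [P0, P1, mkP_smul]
  constructor
  · rintro ⟨l, hl⟩
    have := congrFun hl 1
    simp [Matrix.mulVec, dotProduct, Fin.sum_univ_two] at this
    exact this.symm
  · intro h
    refine ⟨g.1 0 1, ?_⟩
    ext i
    fin_cases i
    · simp [Matrix.mulVec, dotProduct, Fin.sum_univ_two]
    · simp [Matrix.mulVec, dotProduct, Fin.sum_univ_two, h]

/-- a diagonal matrix with different entries has exactly two fixed points -/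
theorem fix_diag {g : GL (Fin 2) F} (h1 : g.1 1 0 = 0) (h2 : g.1 0 1 = 0) (h3 : g.1 0 0 ≠ g.1 1 1)
    {x : ℙ F (Fin 2 → F)} (hx : mkP g • x = x) : x = P0 F ∨ x = P1 F := by
  induction x with
  | h v hv =>
  rw [mkP_smul] at hx
  obtain ⟨l, hl⟩ := hx
  have e0 := congrFun hl 0
  have e1 := congrFun hl 1
  simp [Matrix.mulVec, dotProduct, Fin.sum_univ_two, h1, h2] at e0 e1
  by_cases hv0 : v 0 = 0
  · right
    rw [P1, Projectivization.mk_eq_mk_iff']
    refine ⟨v 1, ?_⟩
    ext i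
    fin_cases i
    · simp [hv0]
    · simp
  · left
    have hl0 : l = g.1 0 0 := by
      rcases e0 with h | h
      · exact h
      · exact absurd h hv0
    have hv1 : v 1 = 0 := by
      rcases e1 with h | h
      · exact absurd (hl0.symm.trans h) h3
      · exact h
    rw [P0, Projectivization.mk_eq_mk_iff']
    refine ⟨v 0, ?_⟩
    ext i
    fin_cases i
    · simp
    · simp [hv1]

theorem mkP_eq_one_of_scalar {g : GL (Fin 2) F} (h1 : g.1 1 0 = 0) (h2 : g.1 0 1 = 0)
    (h3 : g.1 0 0 = g.1 1 1) : mkP g = 1 := by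
  rw [mkP, QuotientGroup.mk'_apply, QuotientGroup.eq_one_iff,
    Matrix.GeneralLinearGroup.mem_center_iff_val_mem_range_scalar]
  refine ⟨g.1 0 0, ?_⟩
  ext i j
  fin_cases i <;> fin_cases j
  · simp
  · simp [h2]
  · simp [h1]
  · simp [h3]

/-! ### the field generated by a matrix without eigenvectors -/

section nonsplit
variable (A : Matrix (Fin 2) (Fin 2) F)

theorem cayley_two : A * A = A.trace • A - A.det • (1 : Matrix (Fin 2) (Fin 2) F) := by
  ext i j
  fin_cases i <;> fin_cases j <;>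
    simp [Matrix.mul_apply, Fin.sum_univ_two, Matrix.trace, Matrix.det_fin_two] <;> ring

/-- the algebra `F[A]` -/
def FA : Subalgebra F (Matrix (Fin 2) (Fin 2) F) where
  carrier := {M | ∃ x y : F, M = x • (1 : Matrix (Fin 2) (Fin 2) F) + y • A}
  mul_mem' := by
    rintro _ _ ⟨x, y, rfl⟩ ⟨x', y', rfl⟩
    refine ⟨x * x' - y * y' * A.det, x * y' + y * x' + y * y' * A.trace, ?_⟩
    have h := cayley_two A
    calc (x • (1 : Matrix (Fin 2) (Fin 2) F) + y • A) * (x' • (1 : Matrix (Fin 2) (Fin 2) F) + y' • A)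
        = (x * x') • (1 : Matrix (Fin 2) (Fin 2) F) + (x * y' + y * x') • A + (y * y') • (A * A) := by
          simp only [add_mul, mul_add, smul_mul_assoc, mul_smul_comm, one_mul, mul_one]
          module
      _ = _ := by
          rw [h]
          module
  add_mem' := by
    rintro _ _ ⟨x, y, rfl⟩ ⟨x', y', rfl⟩
    exact ⟨x + x', y + y', by module⟩
  algebraMap_mem' := by
    intro r
    refine ⟨r, 0, ?_⟩
    rw [Algebra.algebraMap_eq_smul_one]
    module

theorem mem_FA {M : Matrix (Fin 2) (Fin 2) F} :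
    M ∈ FA A ↔ ∃ x y : F, M = x • (1 : Matrix (Fin 2) (Fin 2) F) + y • A := Iff.rfl

theorem FA_comm {M N : Matrix (Fin 2) (Fin 2) F} (hM : M ∈ FA A) (hN : N ∈ FA A) :
    M * N = N * M := by
  obtain ⟨x, y, rfl⟩ := hM
  obtain ⟨x', y', rfl⟩ := hN
  simp only [add_mul, mul_add, smul_mul_assoc, mul_smul_comm, one_mul, mul_one]
  module

variable {A}

/-- elements of `F[A]` with nonzero kernel vanish -/
theorem FA_eq_zero (hA : ∀ v : Fin 2 → F, v ≠ 0 → ∀ l : F, A *ᵥ v ≠ l • v)
    {M : Matrix (Fin 2) (Fin 2) F} (hM : M ∈ FA A) {v : Fin 2 → F} (hv : v ≠ 0)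
    (h : M *ᵥ v = 0) : M = 0 := by
  obtain ⟨x, y, rfl⟩ := hM
  rw [Matrix.add_mulVec, Matrix.smul_mulVec, Matrix.smul_mulVec, Matrix.one_mulVec] at h
  by_cases hy : y = 0
  · subst hy
    rw [zero_smul, add_zero] at h
    rcases smul_eq_zero.mp h with h1 | h1
    · rw [h1]; module
    · exact absurd h1 hv
  · exfalso
    apply hA v hv (-(y⁻¹ * x))
    have h1 : y • A *ᵥ v = -(x • v) := by
      rw [eq_neg_iff_add_eq_zero, add_comm]; exact h
    calc A *ᵥ v = y⁻¹ • (y • A *ᵥ v) := by rw [smul_smul, inv_mul_cancel₀ hy, one_smul]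
      _ = _ := by rw [h1]; module

theorem FA_noZero (hA : ∀ v : Fin 2 → F, v ≠ 0 → ∀ l : F, A *ᵥ v ≠ l • v)
    {M N : Matrix (Fin 2) (Fin 2) F} (hM : M ∈ FA A) (h : M * N = 0) : M = 0 ∨ N = 0 := by
  by_cases hN : N = 0
  · exact Or.inr hN
  · left
    obtain ⟨v, hv⟩ : ∃ v, N *ᵥ v ≠ 0 := by
      by_contra hcon
      push Not at hcon
      apply hN
      ext i j
      have := congrFun (hcon (Pi.single j 1)) i
      simpa using this
    apply FA_eq_zero hA hM hv
    rw [Matrix.mulVec_mulVec, h, Matrix.zero_mulVec]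

end nonsplit

section gen
variable [Finite F]

/-- invertible elements of `F[A]` inside a subgroup -/
def unitFA (A : Matrix (Fin 2) (Fin 2) F) (Γ : Subgroup (GL (Fin 2) F)) : Subgroup (GL (Fin 2) F) where
  carrier := {g | g.1 ∈ FA A ∧ g ∈ Γ}
  mul_mem' := by
    rintro a b ⟨ha, ha'⟩ ⟨hb, hb'⟩
    exact ⟨(FA A).mul_mem ha hb, Γ.mul_mem ha' hb'⟩
  one_mem' := ⟨(FA A).one_mem, Γ.one_mem⟩
  inv_mem' := by
    rintro a ⟨ha, ha'⟩
    refine ⟨?_, Γ.inv_mem ha'⟩
    have h1 : a⁻¹ = a ^ (orderOf a - 1) := by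
      rw [inv_eq_iff_mul_eq_one, ← pow_succ', Nat.sub_add_cancel (orderOf_pos a), pow_orderOf_eq_one]
    rw [h1]
    show ((a ^ (orderOf a - 1) : GL (Fin 2) F) : Matrix (Fin 2) (Fin 2) F) ∈ FA A
    rw [Units.val_pow_eq_pow_val]
    exact (FA A).pow_mem ha _

theorem isCyclic_unitFA {A : Matrix (Fin 2) (Fin 2) F}
    (hA : ∀ v : Fin 2 → F, v ≠ 0 → ∀ l : F, A *ᵥ v ≠ l • v) (Γ : Subgroup (GL (Fin 2) F)) :
    IsCyclic (unitFA A Γ) := by
  let _ : CommRing (FA A) := { (inferInstance : Ring (FA A)) with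
    mul_comm := fun a b => Subtype.ext (FA_comm A a.2 b.2) }
  have hdom : IsDomain (FA A) := by
    have : NoZeroDivisors (FA A) := ⟨by
      intro a b hab
      rcases FA_noZero hA a.2 (congrArg Subtype.val hab) with h | h
      · exact Or.inl (Subtype.ext h)
      · exact Or.inr (Subtype.ext h)⟩
    have : Nontrivial (FA A) := ⟨⟨0, 1, fun h => by
      have h1 : (0 : Matrix (Fin 2) (Fin 2) F) = 1 := congrArg Subtype.val h
      exact zero_ne_one h1⟩⟩
    exact NoZeroDivisors.to_isDomain _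
  let f : unitFA A Γ →* FA A :=
    { toFun := fun g => ⟨g.1.1, g.2.1⟩
      map_one' := rfl
      map_mul' := fun _ _ => rfl }
  exact isCyclic_of_injective_ringHom f (fun a b h => Subtype.ext (Units.ext (congrArg Subtype.val h)))

theorem exists_norm_one {A : Matrix (Fin 2) (Fin 2) F}
    (hA : ∀ v : Fin 2 → F, v ≠ 0 → ∀ l : F, A *ᵥ v ≠ l • v) (hq : 4 ≤ Nat.card F) :
    ∃ w : GL (Fin 2) F, w.1 ∈ FA A ∧ w.1.det = 1 ∧ w ^ 4 ≠ 1 := by
  classical
  have := Fintype.ofFinite F
  let C := unitFA A ⊤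
  have hcyc : IsCyclic C := isCyclic_unitFA hA ⊤
  let δ : C →* Fˣ := (Matrix.GeneralLinearGroup.det).comp C.subtype
  have hcard : Nat.card F ^ 2 - 1 ≤ Nat.card C := by
    have hinj : ∃ φ : {p : F × F // p ≠ 0} → C, Function.Injective φ := by
      have hdet : ∀ p : F × F, p ≠ 0 → (p.1 • (1 : Matrix (Fin 2) (Fin 2) F) + p.2 • A).det ≠ 0 := by
        intro p hp h0
        obtain ⟨v, hv, hv2⟩ := Matrix.exists_mulVec_eq_zero_iff.mpr h0
        have h1 := FA_eq_zero hA ⟨p.1, p.2, rfl⟩ hv hv2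
        apply hp
        have h2 : p.2 = 0 := by
          by_contra hy
          apply hA v hv (-(p.2⁻¹ * p.1))
          have h3 : p.2 • A = -(p.1 • (1 : Matrix (Fin 2) (Fin 2) F)) := by
            rw [eq_neg_iff_add_eq_zero, add_comm]; exact h1
          have h4 : A = (-(p.2⁻¹ * p.1)) • (1 : Matrix (Fin 2) (Fin 2) F) := by
            calc A = p.2⁻¹ • (p.2 • A) := by rw [smul_smul, inv_mul_cancel₀ hy, one_smul]
              _ = _ := by rw [h3]; module
          conv_lhs => rw [h4]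
          rw [Matrix.smul_mulVec, Matrix.one_mulVec]
        rw [h2, zero_smul, add_zero] at h1
        have h3 : p.1 = 0 := by
          rcases smul_eq_zero.mp h1 with h | h
          · exact h
          · exact absurd h one_ne_zero
        exact Prod.ext h3 h2
      refine ⟨fun p => ⟨Matrix.GeneralLinearGroup.mkOfDetNeZero _ (hdet p.1 p.2), ⟨p.1.1, p.1.2, rfl⟩,
        mem_top _⟩, ?_⟩
      rintro ⟨p, hp⟩ ⟨p', hp'⟩ h
      have h1 : p.1 • (1 : Matrix (Fin 2) (Fin 2) F) + p.2 • A = p'.1 • 1 + p'.2 • A :=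
        congrArg (fun g : C => g.1.1) h
      by_contra hne
      have hd : p - p' ≠ 0 := fun h0 => hne (Subtype.ext (sub_eq_zero.mp h0))
      have h2 := hdet _ hd
      apply h2
      have h3 : (p - p').1 • (1 : Matrix (Fin 2) (Fin 2) F) + (p - p').2 • A = 0 := by
        have h4 : (p - p').1 • (1 : Matrix (Fin 2) (Fin 2) F) + (p - p').2 • A =
          (p.1 • (1 : Matrix (Fin 2) (Fin 2) F) + p.2 • A) - (p'.1 • 1 + p'.2 • A) := by
          simp only [Prod.fst_sub, Prod.snd_sub]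
          module
        rw [h4, h1, sub_self]
      rw [h3, Matrix.det_zero]
    obtain ⟨φ, hφ⟩ := hinj
    have h1 := Nat.card_le_card_of_injective φ hφ
    have h2 : Nat.card {p : F × F // p ≠ 0} = Nat.card F ^ 2 - 1 := by
      rw [Nat.card_eq_fintype_card, Fintype.card_subtype_compl, Fintype.card_subtype_eq,
        Fintype.card_prod, Nat.card_eq_fintype_card, sq]
    rwa [h2] at h1
  have hker : 5 ≤ Nat.card δ.ker := by
    have h1 : Nat.card δ.ker * Nat.card δ.range = Nat.card C := by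
      rw [← Subgroup.index_ker, Subgroup.card_mul_index]
    have h2 : Nat.card δ.range ≤ Nat.card F - 1 := by
      have : Nat.card δ.range ≤ Nat.card Fˣ := Nat.card_le_card_of_injective _ Subtype.val_injective
      rwa [Nat.card_units] at this
    by_contra hlt
    push Not at hlt
    have h3 : Nat.card C ≤ 4 * (Nat.card F - 1) := by
      rw [← h1]
      exact Nat.mul_le_mul (by omega) h2
    have h4 : Nat.card F ^ 2 - 1 = (Nat.card F + 1) * (Nat.card F - 1) := by
      have := Nat.sq_sub_sq (Nat.card F) 1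
      rw [one_pow] at this
      exact this
    rw [h4] at hcard
    have h5 := hcard.trans h3
    have h6 := Nat.le_of_mul_le_mul_right h5 (by omega)
    omega
  obtain ⟨w, hw⟩ := (inferInstance : IsCyclic δ.ker).exists_generator
  have hwo : orderOf w = Nat.card δ.ker := orderOf_eq_card_of_forall_mem_zpowers hw
  refine ⟨w.1.1, w.1.2.1, ?_, ?_⟩
  · have h1 : δ w.1 = 1 := w.2
    exact congrArg Units.val h1
  · intro h
    have h1 : w ^ 4 = 1 := Subtype.ext (Subtype.ext h)
    have h2 := Nat.le_of_dvd (by norm_num) (orderOf_dvd_of_pow_eq_one h1)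
    omega

theorem exists_cyclic_gen (hq : 4 ≤ Nat.card F) (Γ : Subgroup (GL (Fin 2) F))
    (hΓ : ∀ g : GL (Fin 2) F, g.1.det = 1 → g ∈ Γ) (a : GL (Fin 2) F) (ha : a ∈ Γ)
    (hA : ∀ v : Fin 2 → F, v ≠ 0 → ∀ l : F, a.1 *ᵥ v ≠ l • v) :
    ∃ c ∈ Γ, a ∈ zpowers c ∧ ∀ v : Fin 2 → F, v ≠ 0 → ∀ l : F, (c ^ 2).1 *ᵥ v ≠ l • v := by
  have := Fintype.ofFinite F
  have hcyc : IsCyclic (unitFA a.1 Γ) := isCyclic_unitFA hA Γ
  obtain ⟨c, hc⟩ := hcyc.exists_generator
  have haC : a ∈ unitFA a.1 Γ := ⟨⟨0, 1, by module⟩, ha⟩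
  refine ⟨c.1, c.2.2, ?_, ?_⟩
  · obtain ⟨i, hi⟩ := hc ⟨a, haC⟩
    exact ⟨i, congrArg Subtype.val hi⟩
  · intro v hv l hl
    -- c ^ 2 is scalar
    have h1 : ((c.1 ^ 2 : GL (Fin 2) F)).1 - l • (1 : Matrix (Fin 2) (Fin 2) F) = 0 := by
      apply FA_eq_zero hA _ hv
      · rw [Matrix.sub_mulVec, hl, Matrix.smul_mulVec, Matrix.one_mulVec, sub_self]
      · apply (FA a.1).sub_mem
        · rw [Units.val_pow_eq_pow_val]
          exact (FA a.1).pow_mem c.2.1 2
        · exact (FA a.1).smul_mem (FA a.1).one_mem l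
    rw [sub_eq_zero] at h1
    obtain ⟨w, hw1, hw2, hw3⟩ := exists_norm_one hA hq
    obtain ⟨i, hi⟩ : ∃ i : ℕ, c ^ i = ⟨w, hw1, hΓ w hw2⟩ := by
      have := hc ⟨w, hw1, hΓ w hw2⟩
      rw [← mem_powers_iff_mem_zpowers] at this
      exact this
    have hi' : c.1 ^ i = w := congrArg Subtype.val hi
    apply hw3
    have h2 : (w ^ 2 : GL (Fin 2) F).1 = (l ^ i) • (1 : Matrix (Fin 2) (Fin 2) F) := by
      rw [← hi', ← pow_mul, mul_comm, pow_mul, Units.val_pow_eq_pow_val, h1, smul_pow, one_pow]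
    have h3 : (l ^ i) ^ 2 = 1 := by
      have h4 : (w ^ 2 : GL (Fin 2) F).1.det = 1 := by
        rw [Units.val_pow_eq_pow_val, Matrix.det_pow, hw2, one_pow]
      rw [h2, Matrix.det_smul, Matrix.det_one, mul_one, Fintype.card_fin] at h4
      exact h4
    apply Units.ext
    rw [show 4 = 2 * 2 by norm_num, pow_mul, Units.val_pow_eq_pow_val, h2, smul_pow, one_pow, h3,
      one_smul]
    rfl

theorem core_two (hq : 4 ≤ Nat.card F)
    (G : Subgroup (GL (Fin 2) F ⧸ Subgroup.center (GL (Fin 2) F)))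
    (hG : ∀ g : GL (Fin 2) F, g.1.det = 1 → mkP g ∈ G)
    (c : GL (Fin 2) F) (hcG : mkP c ∈ G) (h10 : c.1 1 0 = 0) (h01 : c.1 0 1 = 0)
    (hne : c.1 0 0 ^ 2 ≠ c.1 1 1 ^ 2) : ¬ ∃ 𝓐 : Finset (Subgroup G), NMC 𝓐 := by
  have hΩ : Nat.card (ℙ F (Fin 2 → F)) = Nat.card F + 1 :=
    Projectivization.card_of_finrank_two F (Fin 2 → F) (by simp)
  have hfinV : Finite (Fin 2 → F) := inferInstance
  have hΩfin : Finite (ℙ F (Fin 2 → F)) := Nat.finite_of_card_ne_zero (by rw [hΩ]; omega)
  have hHfin : Finite (GL (Fin 2) F ⧸ Subgroup.center (GL (Fin 2) F)) := inferInstance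
  have hfix2 : ∀ x : ℙ F (Fin 2 → F), mkP (c ^ 2) • x = x → x = P0 F ∨ x = P1 F := by
    intro x hx
    have e1 : (c ^ 2 : GL (Fin 2) F).1 = c.1 * c.1 := by rw [Units.val_pow_eq_pow_val, sq]
    apply fix_diag _ _ _ hx
    · rw [e1, Matrix.mul_apply, Fin.sum_univ_two, h10, zero_mul, mul_zero, add_zero]
    · rw [e1, Matrix.mul_apply, Fin.sum_univ_two, h01, zero_mul, mul_zero, add_zero]
    · have e2 : (c ^ 2 : GL (Fin 2) F).1 0 0 = c.1 0 0 ^ 2 := by
        rw [e1, Matrix.mul_apply, Fin.sum_univ_two, h01]; ring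
      have e3 : (c ^ 2 : GL (Fin 2) F).1 1 1 = c.1 1 1 ^ 2 := by
        rw [e1, Matrix.mul_apply, Fin.sum_univ_two, h01]; ring
      rw [e2, e3]
      exact hne
  have hcP0 : mkP c • P0 F = P0 F := (smul_P0 c).mpr h10
  have hcP1 : mkP c • P1 F = P1 F := (smul_P1 c).mpr h01
  refine no_nmc_of_pairs (Ω := ℙ F (Fin 2 → F)) (by rw [hΩ]; omega) ⟨mkP c, hcG⟩ (P0 F) (P1 F)
    P0_ne_P1 ?_ ?_ ?_ ?_
  · -- 2-transitivity
    intro p p' hpp
    have h2 : MulAction.IsMultiplyPretransitive (Matrix.SpecialLinearGroup (Fin 2) F)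
      (ℙ F (Fin 2 → F)) 2 := inferInstance
    rw [MulAction.is_two_pretransitive_iff] at h2
    obtain ⟨g, hg1, hg2⟩ := h2 (P0_ne_P1 (F := F)) hpp
    refine ⟨⟨mkP (Matrix.SpecialLinearGroup.toGL g), hG _ g.2⟩, ?_, ?_⟩
    · exact hg1
    · exact hg2
  · intro x hx
    exact hfix2 x hx
  · intro A hA hcA a ha
    have hnt : Nontrivial A := ⟨⟨⟨_, hcA⟩, 1, fun h => by
      have h1 : mkP c = 1 := congrArg (fun u : A => ((u : G) : GL (Fin 2) F ⧸ Subgroup.center (GL (Fin 2) F))) h
      rw [mkP, QuotientGroup.mk'_apply, QuotientGroup.eq_one_iff,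
        Matrix.GeneralLinearGroup.mem_center_iff_val_mem_range_scalar] at h1
      obtain ⟨r, hr⟩ := h1
      apply hne
      rw [← hr]
      simp⟩⟩
    have hcen := Group.IsNilpotent.center_ne_bot (G := A)
    obtain ⟨⟨z, hz⟩, hz2⟩ := Subgroup.ne_bot_iff_exists_ne_one.mp hcen
    have hz1 : z ≠ 1 := fun h => hz2 (Subtype.ext h)
    have hzcomm : ∀ b : G, b ∈ A → b * (z : G) = (z : G) * b := fun b hb =>
      congrArg Subtype.val (Subgroup.mem_center_iff.mp hz ⟨b, hb⟩)
    obtain ⟨z', hz'⟩ : ∃ z' : GL (Fin 2) F, mkP z' = ((z : G) : GL (Fin 2) F ⧸ Subgroup.center (GL (Fin 2) F)) :=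
      QuotientGroup.mk'_surjective _ _
    have hzc : mkP c * mkP z' = mkP z' * mkP c := by
      rw [hz']
      exact congrArg Subtype.val (hzcomm _ hcA)
    -- z preserves the pair
    have hzp : ∀ x, mkP c • x = x → mkP z' • x = P0 F ∨ mkP z' • x = P1 F := by
      intro x hx
      apply hfix2
      have h1 : mkP c • (mkP z' • x) = mkP z' • x := by
        rw [← mul_smul, hzc, mul_smul, hx]
      have h2 : mkP (c ^ 2) = mkP c * mkP c := by rw [← map_mul, ← sq]
      rw [h2, mul_smul, h1, h1]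
    have hz0 : mkP z' • P0 F = P0 F := by
      rcases hzp _ hcP0 with h | h
      · exact h
      · exfalso
        have h' : mkP z' • P1 F = P0 F := by
          rcases hzp _ hcP1 with h1 | h1
          · exact h1
          · exact absurd (smul_left_cancel _ (h.trans h1.symm)) P0_ne_P1
        rw [smul_P0_P1] at h
        rw [smul_P1_P0] at h'
        -- commutation
        have h3 : ∃ l : F, c.1 * z'.1 = l • (z'.1 * c.1) := by
          have h4 : mkP (c * z') = mkP (z' * c) := by rw [mkP_mul, mkP_mul]; exact hzc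
          have h5 : (z' * c)⁻¹ * (c * z') ∈ Subgroup.center (GL (Fin 2) F) := by
            rw [← QuotientGroup.eq_one_iff]
            show mkP ((z' * c)⁻¹ * (c * z')) = 1
            rw [mkP_mul, mkP_inv, h4, inv_mul_cancel]
          rw [Matrix.GeneralLinearGroup.mem_center_iff_val_mem_range_scalar] at h5
          obtain ⟨r, hr⟩ := h5
          refine ⟨r, ?_⟩
          have h6 : (z' * c).1 * ((z' * c)⁻¹ * (c * z') : GL (Fin 2) F).1 = c.1 * z'.1 := by
            rw [← Units.val_mul, mul_inv_cancel_left]; rfl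
          rw [← h6, ← hr]
          ext i j
          simp [mul_comm]
        obtain ⟨l, hl⟩ := h3
        have e1 := congrFun (congrFun hl 1) 0
        have e2 := congrFun (congrFun hl 0) 1
        simp only [Matrix.mul_apply, Fin.sum_univ_two, Matrix.smul_apply, h, h', h10, h01,
          smul_eq_mul, mul_zero, add_zero, zero_add] at e1 e2
        have hdet : z'.1.det ≠ 0 := by
          intro h0
          have h7 := congrArg Matrix.det (Units.mul_inv z')
          rw [Matrix.det_mul, h0, zero_mul, Matrix.det_one] at h7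
          exact zero_ne_one h7
        rw [Matrix.det_fin_two, h, h'] at hdet
        have hz10 : z'.1 1 0 ≠ 0 := by
          intro h0; apply hdet; rw [h0]; ring
        have hz01 : z'.1 0 1 ≠ 0 := by
          intro h0; apply hdet; rw [h0]; ring
        apply hne
        have f1 : c.1 1 1 = l * c.1 0 0 := by
          apply mul_right_cancel₀ hz10
          rw [e1]; ring
        have f2 : c.1 0 0 = l * c.1 1 1 := by
          apply mul_right_cancel₀ hz01
          rw [e2]; ring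
        calc c.1 0 0 ^ 2 = c.1 0 0 * (l * c.1 1 1) := by rw [← f2, sq]
          _ = (l * c.1 0 0) * c.1 1 1 := by ring
          _ = c.1 1 1 ^ 2 := by rw [← f1, sq]
    have hz1' : mkP z' • P1 F = P1 F := by
      rcases hzp _ hcP1 with h | h
      · exact absurd (smul_left_cancel _ (hz0.trans h.symm)) P0_ne_P1
      · exact h
    have hfixz : ∀ x, mkP z' • x = x → x = P0 F ∨ x = P1 F := by
      intro x hx
      apply fix_diag ((smul_P0 z').mp hz0) ((smul_P1 z').mp hz1') _ hx
      intro heq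
      apply hz1
      have := mkP_eq_one_of_scalar ((smul_P0 z').mp hz0) ((smul_P1 z').mp hz1') heq
      rw [hz'] at this
      exact Subtype.ext (Subtype.ext this)
    have hac : (a : GL (Fin 2) F ⧸ Subgroup.center (GL (Fin 2) F)) * mkP z' = mkP z' * a := by
      rw [hz']
      exact congrArg Subtype.val (hzcomm _ ha)
    constructor
    · apply hfixz
      show mkP z' • ((a : GL (Fin 2) F ⧸ Subgroup.center (GL (Fin 2) F)) • P0 F) =
        (a : GL (Fin 2) F ⧸ Subgroup.center (GL (Fin 2) F)) • P0 F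
      rw [← mul_smul, ← hac, mul_smul, hz0]
    · apply hfixz
      show mkP z' • ((a : GL (Fin 2) F ⧸ Subgroup.center (GL (Fin 2) F)) • P1 F) =
        (a : GL (Fin 2) F ⧸ Subgroup.center (GL (Fin 2) F)) • P1 F
      rw [← mul_smul, ← hac, mul_smul, hz1']
  · intro a ha
    obtain ⟨a', ha'⟩ : ∃ a' : GL (Fin 2) F, mkP a' = (a : GL (Fin 2) F ⧸ Subgroup.center (GL (Fin 2) F)) :=
      QuotientGroup.mk'_surjective _ _
    let Γ : Subgroup (GL (Fin 2) F) := G.comap (QuotientGroup.mk' _)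
    have haA : ∀ v : Fin 2 → F, v ≠ 0 → ∀ l : F, a'.1 *ᵥ v ≠ l • v := by
      intro v hv l hl
      apply ha (Projectivization.mk F v hv)
      show (a : GL (Fin 2) F ⧸ Subgroup.center (GL (Fin 2) F)) • Projectivization.mk F v hv =
        Projectivization.mk F v hv
      rw [← ha', mkP_smul]
      exact ⟨l, hl.symm⟩
    obtain ⟨c', hc', hac', hc2⟩ := exists_cyclic_gen hq Γ (fun g hg => hG g hg) a'
      (show mkP a' ∈ G by rw [ha']; exact a.2) haA
    refine ⟨⟨mkP c', hc'⟩, ?_, ?_⟩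
    · obtain ⟨i, hi⟩ := hac'
      refine ⟨i, Subtype.ext ?_⟩
      show mkP c' ^ i = a
      have hi' : c' ^ i = a' := hi
      rw [← ha', ← hi', mkP_zpow]
    · intro x hx
      induction x with
      | h v hv =>
      have h1 : mkP (c' ^ 2) • Projectivization.mk F v hv = Projectivization.mk F v hv := hx
      rw [mkP_smul] at h1
      obtain ⟨l, hl⟩ := h1
      exact hc2 v hv l hl.symm

end gen

end Cfsg.Agent.H65
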