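import Mathlib
import Cfsg.Agent.Transfer.Fusion

/-!
# Cyclic Sylow 2-subgroups of normal subgroups, dihedral groups
-/

set_option autoImplicit false

namespace Cfsg.Agent.H65.Dihed

open Subgroup Cfsg.Agent.Transfer

variable {G : Type*} [Group G]

/-- A normal subgroup `N` of index a power of `2` whose Sylow `2`-subgroup is cyclic. -/
theorem hasNPC_of_cyclic [Finite G] (P : Sylow 2 G) (N : Subgroup G) [N.Normal] {k : ℕ}
    (hN : N.index = 2 ^ k) {x : G} (hxP : x ∈ (P : Subgroup G)) (hxN : x ∈ N)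
    (hcard : orderOf x * N.index = Nat.card P) : Cfsg.HasNormalPComplement 2 G := by
  have hPN : (P : Subgroup G) ⊔ N = ⊤ := by
    rw [← Subgroup.index_eq_one]
    have h1 : ((P : Subgroup G) ⊔ N).index ∣ (P : Subgroup G).index := Subgroup.index_dvd_of_le le_sup_left
    have h2 : ((P : Subgroup G) ⊔ N).index ∣ N.index := Subgroup.index_dvd_of_le le_sup_right
    rw [hN] at h2
    obtain ⟨j, _, hj⟩ := (Nat.dvd_prime_pow Nat.prime_two).1 h2
    rcases Nat.eq_zero_or_pos j with h0 | h0
    · rw [hj, h0, pow_zero]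
    · exact absurd ((dvd_pow_self 2 h0.ne').trans (hj ▸ h1)) P.not_dvd_index
  have hrel : N.relIndex (P : Subgroup G) = N.index := by
    rw [← relIndex_sup_right, hPN, relIndex_top_right]
  have hcd : Nat.card ((P : Subgroup G) ⊓ N : Subgroup G) * N.index = Nat.card P := by
    rw [← hrel, ← Subgroup.inf_relIndex_left (P : Subgroup G) N]
    rw [← relIndex_bot_left, ← relIndex_bot_left]
    exact Subgroup.relIndex_mul_relIndex _ _ _ bot_le inf_le_left
  have hpos : 0 < N.index := Nat.pos_of_ne_zero Subgroup.index_ne_zero_of_finite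
  have heq : Nat.card ((P : Subgroup G) ⊓ N : Subgroup G) = orderOf x :=
    Nat.eq_of_mul_eq_mul_right hpos (hcd.trans hcard.symm)
  have hz : zpowers x = (P : Subgroup G) ⊓ N := by
    refine Subgroup.eq_of_le_of_card_ge ?_ ?_
    · rw [zpowers_le]; exact ⟨hxP, hxN⟩
    · rw [heq, Nat.card_zpowers]
  refine HasNPC.of_normal_index_pow (M := N) hN ?_
  have hcyc : IsCyclic (sylowInf P N) := by
    have h1 : ((sylowInf P N : Sylow 2 N) : Subgroup N).map N.subtype = zpowers x := by
      rw [sylowInf_map, hz]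
    have e := ((sylowInf P N : Sylow 2 N) : Subgroup N).equivMapOfInjective N.subtype N.subtype_injective
    rw [h1] at e
    exact isCyclic_of_injective e.toMonoidHom e.injective
  rcases (Nat.even_or_odd (Nat.card N)) with he | ho
  · have hmin : (Nat.card N).minFac = 2 := (Nat.minFac_eq_two_iff _).2 he.two_dvd
    exact hasNPC_of_normalizer_le_centralizer (sylowInf P N) (hcyc.normalizer_le_centralizer hmin)
  · exact hasNPC_of_coprime (Nat.Coprime.symm (Nat.coprime_two_left.2 ho))

/-- Hypotheses: a dihedral subgroup of order `2m` (`m` even) given by an injective homomorphism. -/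
theorem conj_sr {m : ℕ} (i k : ZMod m) :
    DihedralGroup.r k * DihedralGroup.sr i * (DihedralGroup.r k)⁻¹ = DihedralGroup.sr (i - 2 * k) := by
  rw [DihedralGroup.inv_r, DihedralGroup.r_mul_sr, DihedralGroup.sr_mul_r]
  congr 1
  ring

theorem two_mul_or {m : ℕ} [NeZero m] (i : ZMod m) : (∃ k : ZMod m, i = 2 * k) ∨ ∃ k : ZMod m, i = 1 + 2 * k := by
  rcases Nat.even_or_odd i.val with h | h
  · obtain ⟨k, hk⟩ := h
    left
    refine ⟨(k : ZMod m), ?_⟩
    rw [← ZMod.natCast_zmod_val i, hk]
    push_cast; ring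
  · obtain ⟨k, hk⟩ := h
    right
    refine ⟨(k : ZMod m), ?_⟩
    rw [← ZMod.natCast_zmod_val i, hk]
    push_cast; ring

/-- an involution `r i` -/
theorem r_involution {m : ℕ} [NeZero m] (i : ZMod m) (h : orderOf (DihedralGroup.r i) = 2) :
    ∃ t : ℕ, m = 2 * t ∧ i = (t : ZMod m) := by
  have hm : 0 < m := NeZero.pos m
  have h1 : (DihedralGroup.r i) ^ 2 = 1 := by rw [← h, pow_orderOf_eq_one]
  have h2 : DihedralGroup.r i ≠ 1 := by
    intro h3
    rw [h3, orderOf_one] at h
    omega
  rw [DihedralGroup.r_pow, DihedralGroup.one_def, DihedralGroup.r.injEq] at h1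
  rw [Ne, DihedralGroup.one_def, DihedralGroup.r.injEq] at h2
  have h4 : ((i.val * 2 : ℕ) : ZMod m) = 0 := by
    push_cast
    rw [ZMod.natCast_zmod_val]
    exact_mod_cast h1
  rw [ZMod.natCast_eq_zero_iff] at h4
  have h5 : i.val < m := ZMod.val_lt i
  have h6 : i.val ≠ 0 := by rwa [Ne, ZMod.val_eq_zero]
  obtain ⟨c, hc⟩ := h4
  have hc1 : c = 1 := by
    have hc0 : c ≠ 0 := by rintro rfl; omega
    have hc2 : c < 2 := by
      by_contra h7
      push Not at h7
      have : m * 2 ≤ m * c := Nat.mul_le_mul_left _ h7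
      omega
    omega
  subst hc1
  refine ⟨i.val, by omega, ?_⟩
  rw [ZMod.natCast_zmod_val]

end Cfsg.Agent.H65.Dihed
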