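import Cfsg.Agent.H65.RankTwoU

set_option autoImplicit false
set_option linter.unusedSectionVars false

/-! `3`-groups of rank two: maximal class -/

namespace Cfsg.Agent.H65

open Subgroup
open scoped commutatorElement

universe u

namespace RU

variable {p : ℕ} [hpf : Fact p.Prime] {G : Type u} [Group G] [Finite G] {N U : Subgroup G}

theorem mem_centralizer_map_iff [hNn : N.Normal] (hU : RU p G N U) (h : RSet p G N) {c : G} :
    (c : G ⧸ N) ∈ centralizer ((U.map (QuotientGroup.mk' N) : Subgroup (G ⧸ N)) : Set (G ⧸ N)) ↔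
      c ∈ centralizer (N : Set G) := by
  constructor
  · intro hc
    apply hU.mem_C_of_dl h
    intro u hu
    exact dl_mem_iff_commute.2 (mem_centralizer_iff.1 hc (u : G ⧸ N) ⟨u, hu, rfl⟩)
  · intro hc
    rw [mem_centralizer_iff]
    rintro _ ⟨u, hu, rfl⟩
    exact dl_mem_iff_commute.1 (hU.dl_mem_N h hu hc)

theorem mem_map_iff [hNn : N.Normal] (hU : RU p G N U) {c : G} :
    (c : G ⧸ N) ∈ U.map (QuotientGroup.mk' N) ↔ c ∈ U := by
  constructor
  · rintro ⟨u, hu, hcu⟩
    have h1 : u⁻¹ * c ∈ N := by rw [← QuotientGroup.eq]; exact hcu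
    have h2 : c = u * (u⁻¹ * c) := by group
    rw [h2]
    exact mul_mem hu (hU.hNU h1)
  · intro hc
    exact ⟨c, hc, rfl⟩

theorem quotient_RSet [hNn : N.Normal] (hU : RU p G N U) (h : RSet p G N) :
    RSet p (G ⧸ N) (U.map (QuotientGroup.mk' N)) := by
  have hp : p.Prime := hpf.out
  refine ⟨h.hp2, h.hG.to_quotient N, hU.hUn.map _ (QuotientGroup.mk'_surjective _), ?_, ?_, ?_, ?_⟩
  · have h1 := (U.map (QuotientGroup.mk' N)).card_mul_index
    rw [index_map, QuotientGroup.ker_mk', MonoidHom.range_eq_top.2 (QuotientGroup.mk'_surjective _), index_top, mul_one,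
      sup_eq_left.2 hU.hNU] at h1
    have h2 := U.card_mul_index
    have h3 := N.card_mul_index
    have h4 : Nat.card (G ⧸ N) = N.index := rfl
    rw [h4] at h1
    rw [← h2, hU.hUc, h.hNc, ← h1] at h3
    have h5 : 0 < U.index := Nat.pos_of_ne_zero index_ne_zero_of_finite
    have h6 : (p ^ 2 * U.index) * Nat.card (U.map (QuotientGroup.mk' N)) = (p ^ 2 * U.index) * p ^ 2 := by
      calc _ = p ^ 2 * (Nat.card (U.map (QuotientGroup.mk' N)) * U.index) := by ring
        _ = p ^ 4 * U.index := h3
        _ = _ := by ring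
    exact Nat.eq_of_mul_eq_mul_left (Nat.mul_pos (pow_pos hp.pos 2) h5) h6
  · rintro _ ⟨u, hu, rfl⟩
    exact (QuotientGroup.eq_one_iff _).2 (hU.hUp u hu)
  · intro c hc hcp
    obtain ⟨c, rfl⟩ := QuotientGroup.mk_surjective c
    have hcC := (hU.mem_centralizer_map_iff h).1 hc
    have hcN : c ^ p ∈ N := (QuotientGroup.eq_one_iff _).1 hcp
    exact ⟨c, hU.mem_of_pow h hcC hcN, rfl⟩
  · intro htop
    obtain ⟨x, hx⟩ := h.exists_not_mem
    apply hx
    rw [← hU.mem_centralizer_map_iff h, htop]
    exact mem_top _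

end RU

theorem max_class_aux [hpf : Fact (Nat.Prime 3)] (n : ℕ) : ∀ (G : Type u) [Group G] [Finite G] (N U : Subgroup G),
    Nat.card G = 3 ^ n → RSet 3 G N → RU 3 G N U → (∀ g : G, ∀ u ∈ U, Commute u (g ^ 3)) →
      (⊤ : Subgroup G).lowerCentralSeries (n - 2) ≠ ⊥ := by
  induction n using Nat.strong_induction_on with
  | _ n ih =>
    intro G _ _ N U hcard h hU hcond
    have hNn := h.hNn
    have hUn := hU.hUn
    set π := QuotientGroup.mk' N with hπ
    set C := centralizer (N : Set G) with hC
    have hCn : C.Normal := h.C_normal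
    obtain ⟨x, hx⟩ := h.exists_not_mem
    have hCindex := h.index_C
    have hCc : Nat.card C * 3 = 3 ^ n := by rw [← hcard, ← hCindex]; exact C.card_mul_index
    have hQ := hU.quotient_RSet h
    -- the step `K ≰ N → ⁅⁅K, G⁆, G⁆ ≠ ⊥` for the lower central series
    have hstep : ∀ k : ℕ, ¬ (⊤ : Subgroup G).lowerCentralSeries k ≤ N → (⊤ : Subgroup G).lowerCentralSeries (k + 2) ≠ ⊥ := by
      intro k hk
      exact hU.comm_comm_ne_bot h hcond inferInstance hk
    obtain ⟨l, hl, hl2⟩ : ∃ l, Nat.card C = 3 ^ (4 + l) ∧ n = 5 + l := by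
      obtain ⟨m, hm⟩ := (IsPGroup.iff_card).1 h.pGroup_C
      have h1 : (3 : ℕ) ^ 4 ≤ 3 ^ m := by
        rw [← hm, ← hU.hUc]; exact card_le_of_le hU.hUC
      have h2 : 4 ≤ m := (Nat.pow_le_pow_iff_right (by norm_num)).1 h1
      rw [hm, ← pow_succ] at hCc
      have h3 := Nat.pow_right_injective (le_refl _ |>.trans (by norm_num : 2 ≤ 3)) hCc
      exact ⟨m - 4, by rw [hm]; congr 1; omega, by omega⟩
    subst hl2
    rcases hQ.exists_U with ⟨w', hw'C, hw'⟩ | ⟨U', hU'⟩
    · obtain ⟨w, rfl⟩ := QuotientGroup.mk_surjective w'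
      have hwC : w ∈ C := (hU.mem_centralizer_map_iff h).1 hw'C
      have hCgen : C = U ⊔ zpowers w := by
        apply le_antisymm
        · intro c hc
          have h1 := (hU.mem_centralizer_map_iff h).2 hc
          have := hQ.hNn
          rw [hw', mem_sup_of_normal_left] at h1
          obtain ⟨_, ⟨u, hu, rfl⟩, _, hz, hcz⟩ := h1
          obtain ⟨k, rfl⟩ := mem_zpowers_iff.1 hz
          have h2 : (u * w ^ k)⁻¹ * c ∈ N := by
            rw [← QuotientGroup.eq]; exact hcz
          have h3 : c = u * w ^ k * ((u * w ^ k)⁻¹ * c) := by group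
          rw [h3]
          refine mul_mem (mul_mem ((le_sup_left : U ≤ _) hu) ((le_sup_right : zpowers w ≤ _) (zpow_mem (mem_zpowers w) k)))
            ((le_sup_left : U ≤ _) (hU.hNU h2))
        · exact sup_le hU.hUC (zpowers_le.2 hwC)
      have hCgen' : ∀ c ∈ C, ∃ u ∈ U, ∃ k : ℤ, c = u * w ^ k := by
        intro c hc
        rw [hCgen, mem_sup_of_normal_left] at hc
        obtain ⟨u, hu, z, hz, hcz⟩ := hc
        obtain ⟨k, rfl⟩ := mem_zpowers_iff.1 hz
        exact ⟨u, hu, k, hcz.symm⟩
      have hcommπ : ∀ a ∈ C, ∀ b ∈ C, Commute (π a) (π b) := by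
        have hUc : ∀ u ∈ U, ∀ b ∈ C, Commute (π u) (π b) := by
          intro u hu b hb
          exact RSet.commC (N := U.map π) ⟨u, hu, rfl⟩ ((hU.mem_centralizer_map_iff h).2 hb)
        intro a ha b hb
        obtain ⟨u, hu, k, rfl⟩ := hCgen' a ha
        obtain ⟨v, hv, m, rfl⟩ := hCgen' b hb
        rw [map_mul π u]
        refine (hUc u hu _ hb).mul_left ?_
        rw [map_mul]
        refine (hUc v hv _ (zpow_mem hwC k)).symm.mul_right ?_
        rw [map_zpow, map_zpow]
        exact (Commute.refl (π w)).zpow_zpow k m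
      have hcommN : ∀ a ∈ C, ∀ b ∈ C, ⁅a, b⁆ ∈ N := by
        intro a ha b hb
        rw [← QuotientGroup.eq_one_iff]
        show π ⁅a, b⁆ = 1
        rw [map_commutatorElement, commutatorElement_eq_one_iff_mul_comm]
        exact hcommπ a ha b hb
      have hcube : ∀ a ∈ C, ∀ b ∈ C, (a * b) ^ 3 = a ^ 3 * b ^ 3 := fun a ha b hb =>
        h.mul_pow_of_comm ha hb (hcommN _ (inv_mem hb) _ (inv_mem ha))
      have hconjC : ∀ a ∈ C, x⁻¹ * a * x ∈ C := by
        intro a ha
        have := hCn.conj_mem a ha x⁻¹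
        rwa [inv_inv] at this
      have hdlC : ∀ a ∈ C, dl x a ∈ C := fun a ha => mul_mem (inv_mem ha) (hconjC a ha)
      have hdl3 : ∀ a ∈ C, dl x (a ^ 3) = (dl x a) ^ 3 := by
        intro a ha
        rw [dl, dl, hcube _ (inv_mem ha) _ (hconjC a ha), inv_pow]
        have : x⁻¹ * a * x = x⁻¹ * a * (x⁻¹)⁻¹ := by rw [inv_inv]
        rw [this, conj_pow, inv_inv]
      have hdl3k : ∀ (k : ℕ), ∀ a ∈ C, dl x (a ^ 3 ^ k) = (dl x a) ^ 3 ^ k := by
        intro k
        induction k with
        | zero => intro a _; simp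
        | succ k ihk =>
          intro a ha
          rw [pow_succ', pow_mul, pow_mul, ihk _ (pow_mem ha 3), hdl3 a ha]
      rcases Nat.eq_zero_or_pos l with rfl | hl0
      · -- `C = U`
        have hCU : U = C := eq_of_le_of_card_ge hU.hUC (by rw [hl, hU.hUc])
        apply hstep 1
        intro hle
        apply hx
        apply hU.mem_C_of_dl h
        intro u hu
        apply hle
        rw [top_lowerCentralSeries_one, dl_eq_comm]
        exact commutator_mem_commutator (mem_top _) (mem_top _)
      · obtain ⟨l, rfl⟩ : ∃ l', l = l' + 1 := ⟨l - 1, by omega⟩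
        set t := w ^ 3 ^ (l + 1) with ht
        have hrel : (U.subgroupOf C).index = 3 ^ (l + 1) := by
          have h1 := (U.subgroupOf C).card_mul_index
          rw [Nat.card_congr (subgroupOfEquivOfLe hU.hUC).toEquiv, hU.hUc, hl, pow_add] at h1
          exact Nat.eq_of_mul_eq_mul_left (by norm_num) h1
        have htU : t ∈ U := by
          have h1 := (U.subgroupOf C).pow_index_mem ⟨w, hwC⟩
          rw [hrel, mem_subgroupOf] at h1
          exact h1
        have hwU : w ^ 3 ^ l ∉ U := by
          intro hcon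
          have h1 : U.relIndex C ≤ 3 ^ l := by
            have h2 : C = zpowers w ⊔ U := by rw [sup_comm]; exact hCgen
            rw [h2, relIndex_sup_right]
            refine index_le_of_cyclic inferInstance _ (pow_pos (by norm_num) l) ?_
            rintro ⟨a, ha⟩
            obtain ⟨k, rfl⟩ := mem_zpowers_iff.1 ha
            rw [mem_subgroupOf]
            show (w ^ k) ^ 3 ^ l ∈ U
            rw [← zpow_natCast, ← zpow_mul, mul_comm, zpow_mul, zpow_natCast]
            exact zpow_mem hcon k
          rw [relIndex, hrel] at h1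
          have h2 := (Nat.pow_le_pow_iff_right (by norm_num : 1 < 3)).1 h1
          omega
        have htN : t ∉ N := by
          intro hcon
          apply hwU
          apply hU.mem_of_pow h (pow_mem hwC _)
          rw [← pow_mul, ← pow_succ]
          exact hcon
        have htC : t ∈ C := pow_mem hwC _
        have ht3N : t ^ 3 ∈ N := hU.hUp t htU
        have ht31 : t ^ 3 ≠ 1 := fun h1 => htN (h.hC t htC h1)
        have ht9 : (t ^ 3) ^ 3 = 1 := h.hNe _ ht3N
        obtain ⟨u, hu, j, hq⟩ := hCgen' (dl x w) (hdlC w hwC)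
        set ν := (u ^ 3) ^ 3 ^ l with hν
        have hu3 : u ^ 3 ∈ N := hU.hUp u hu
        have hνN : ν ∈ N := pow_mem hu3 _
        have hdt : dl x t = ν * t ^ j := by
          have h1 : (dl x w) ^ 3 = u ^ 3 * (w ^ 3) ^ j := by
            rw [hq, hcube _ (hU.hUC hu) _ (zpow_mem hwC j)]
            congr 1
            rw [← zpow_natCast, ← zpow_natCast, ← zpow_mul, ← zpow_mul, mul_comm]
          have h2 : Commute (u ^ 3) ((w ^ 3) ^ j) := RSet.commC hu3 (zpow_mem (pow_mem hwC 3) j)
          rw [ht, hdl3k _ _ hwC, pow_succ', pow_mul, h1, h2.mul_pow, hν]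
          congr 1
          rw [pow_mul, ← zpow_natCast, ← zpow_mul, mul_comm, zpow_mul, zpow_natCast]
        have hνt : Commute ν (t ^ j) := RSet.commC hνN (zpow_mem htC j)
        have hdt3 : dl x (t ^ 3) = (t ^ 3) ^ j := by
          rw [hdl3 t htC, hdt, hνt.mul_pow, h.hNe _ hνN, one_mul]
          rw [← zpow_natCast, ← zpow_natCast, ← zpow_mul, ← zpow_mul, mul_comm]
        have hj3 : (t ^ 3) ^ j = 1 := by
          by_contra hcon
          have h3j : ¬ (3 : ℤ) ∣ j := by
            rintro ⟨k, rfl⟩
            apply hcon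
            rw [zpow_mul]
            have : (t ^ 3) ^ (3 : ℤ) = 1 := by exact_mod_cast ht9
            rw [this, one_zpow]
          have hcop : IsCoprime j 3 := by
            have h3p : Prime (3 : ℤ) := Int.prime_three
            exact ((Prime.coprime_iff_not_dvd h3p).2 h3j).symm
          obtain ⟨a, b, hab⟩ := hcop
          have h1 : t ^ 3 = ((t ^ 3) ^ j) ^ a := by
            rw [← zpow_mul]
            have h2 : j * a = 1 + 3 * (-b) := by linarith
            rw [h2, zpow_add, zpow_one, zpow_mul]
            have : (t ^ 3) ^ (3 : ℤ) = 1 := by exact_mod_cast ht9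
            rw [this, one_zpow, mul_one]
          have h2 : t ^ 3 ∈ center G := by
            rw [h1, ← hdt3]
            exact zpow_mem (h.dl_mem_center ht3N x) a
          apply hcon
          rw [← hdt3, dl_eq_one_iff]
          exact (mem_center_iff.1 h2 x).symm
        have h3j : (3 : ℤ) ∣ j := by
          have h1 : orderOf (t ^ 3) = 3 := orderOf_eq_prime ht9 ht31
          have h2 := orderOf_dvd_iff_zpow_eq_one.2 hj3
          rw [h1] at h2
          exact_mod_cast h2
        obtain ⟨j', rfl⟩ := h3j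
        have ht3c : t ^ 3 ∈ center G := by
          refine h.mem_center hx ?_ fun c hc => RSet.commC ht3N hc
          rw [← dl_eq_one_iff, hdt3, hj3]
        have htj : t ^ (3 * j') = (t ^ 3) ^ j' := by
          rw [zpow_mul]; congr 1; exact zpow_ofNat t 3
        have htjc : t ^ (3 * j') ∈ center G := by rw [htj]; exact zpow_mem ht3c j'
        have hdtN : dl x t ∈ N := by
          rw [hdt, htj]
          exact mul_mem hνN (zpow_mem ht3N j')
        have h1 := (hU.dl_dl_eq h hcond hx htU hdtN).2
        have h2 : dl x (dl x t) = dl x ν := by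
          rw [hdt, dl_mul_gen]
          have h3 : dl x (t ^ (3 * j')) = 1 := dl_eq_one_iff.2 (mem_center_iff.1 htjc x).symm
          have h4' : Commute (t ^ (3 * j')) (dl x ν) := (mem_center_iff.1 htjc (dl x ν)).symm
          have h4 : Commute (t ^ (3 * j'))⁻¹ (dl x ν) := h4'.inv_left
          rw [h3, mul_one, h4.eq, inv_mul_cancel_right]
        have h3 : dl x ν ≠ 1 := by
          rw [← h2, h1]
          exact inv_ne_one.2 ht31
        rcases Nat.eq_zero_or_pos l with rfl | hl1
        · -- l = 1
          have hν' : ν = u ^ 3 := by rw [hν, pow_zero, pow_one]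
          have h4 : dl x u ∉ N := by
            intro hcon
            apply h3
            rw [hν', ← hU.dl_pow h hu]
            exact h.hNe _ hcon
          apply hstep 2
          intro hle
          apply h4
          have h5 : dl x (dl x w) ∈ (⊤ : Subgroup G).lowerCentralSeries 2 := by
            rw [dl_eq_comm x (dl x w)]
            apply commutator_mem_commutator _ (mem_top _)
            apply inv_mem
            rw [top_lowerCentralSeries_one, dl_eq_comm]
            exact commutator_mem_commutator (mem_top _) (mem_top _)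
          have h6 := dl_mem_iff_commute.1 (hle h5)
          have h7 := dl_mem_iff_commute.1 hdtN
          rw [dl_mem_iff_commute]
          have h8 : ((dl x w : G) : G ⧸ N) = (u : G ⧸ N) * (t : G ⧸ N) ^ j' := by
            rw [hq, ht]
            show π (u * w ^ (3 * j')) = π u * (π (w ^ 3 ^ (0 + 1))) ^ j'
            rw [map_mul, map_zpow, map_pow, zero_add, pow_one, zpow_mul]
            congr 2
            exact zpow_ofNat _ 3
          have h9 : (u : G ⧸ N) = ((dl x w : G) : G ⧸ N) * ((t : G ⧸ N) ^ j')⁻¹ := by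
            rw [h8, mul_inv_cancel_right]
          rw [h9]
          exact h6.mul_left ((h7.zpow_left j').inv_left)
        · exfalso
          apply h3
          have : ν = 1 := by
            rw [hν]
            obtain ⟨l', rfl⟩ : ∃ l', l = l' + 1 := ⟨l - 1, by omega⟩
            rw [pow_succ' 3 l', pow_mul, h.hNe _ hu3, one_pow]
          rw [this, dl]; simp
    · -- induction
      have hcardQ : Nat.card (G ⧸ N) = 3 ^ (5 + l - 2) := by
        have h1 := N.card_mul_index
        rw [h.hNc, hcard] at h1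
        have h2 : Nat.card (G ⧸ N) = N.index := rfl
        rw [h2]
        have h3 : 3 ^ 2 * N.index = 3 ^ 2 * 3 ^ (5 + l - 2) := by
          rw [h1, ← pow_add]; congr 1; omega
        exact Nat.eq_of_mul_eq_mul_left (by norm_num) h3
      have hcondQ : ∀ g : G ⧸ N, ∀ v ∈ U', Commute v (g ^ 3) := by
        intro g v hv
        obtain ⟨g, rfl⟩ := QuotientGroup.mk_surjective g
        obtain ⟨v, rfl⟩ := QuotientGroup.mk_surjective v
        have hvC : v ∈ C := (hU.mem_centralizer_map_iff h).1 (hU'.hUC hv)
        have hv3 : v ^ 3 ∈ U := hU.mem_map_iff.1 (hU'.hUp _ hv)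
        have hg3 := h.pow_mem_C g
        set m := dl (g ^ 3) v with hm
        have hmC : m ∈ C := mul_mem (inv_mem hvC) (by
          have := hCn.conj_mem v hvC (g ^ 3)⁻¹
          rwa [inv_inv] at this)
        have hmU : m ∈ U := by
          apply hU.mem_map_iff.1
          exact hU'.dl_mem_N hQ hv ((hU.mem_centralizer_map_iff h).2 hg3)
        have h1 : (v * m) ^ 3 = v ^ 3 * m ^ 3 := h.mul_pow hvC hmC (hU.hUp m hmU)
        have h2 : (g ^ 3)⁻¹ * v * g ^ 3 = v * m := conj_eq_mul_dl _ _
        have h3 : ((g ^ 3)⁻¹ * v * g ^ 3) ^ 3 = (g ^ 3)⁻¹ * v ^ 3 * g ^ 3 := by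
          have := conj_pow (i := 3) (a := (g ^ 3)⁻¹) (b := v)
          rwa [inv_inv] at this
        have h4 : (g ^ 3)⁻¹ * v ^ 3 * g ^ 3 = v ^ 3 := by
          rw [mul_assoc, (hcond g _ hv3).eq]; group
        rw [h2, h1, h4] at h3
        have h5 : m ^ 3 = 1 := mul_eq_left.1 h3
        have h6 := h.hC m hmC h5
        exact dl_mem_iff_commute.1 h6
      have h1 := ih (5 + l - 2) (by omega) (G ⧸ N) _ U' hcardQ hQ hU' hcondQ
      have h2 : ¬ (⊤ : Subgroup G).lowerCentralSeries (5 + l - 2 - 2) ≤ N := by
        intro hle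
        apply h1
        rw [eq_bot_iff, ← map_top_of_surjective π (QuotientGroup.mk'_surjective _), ← map_lowerCentralSeries]
        rintro _ ⟨k, hk, rfl⟩
        rw [mem_bot]
        exact (QuotientGroup.eq_one_iff k).2 (hle hk)
      have h3 := hstep _ h2
      have h4 : 5 + l - 2 - 2 + 2 = 5 + l - 2 := by omega
      rwa [h4] at h3

end Cfsg.Agent.H65
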