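import Cfsg.Agent.H65.MetaCrit

set_option autoImplicit false
set_option linter.unusedSectionVars false

/-! `p`-groups of rank two, `p` odd: the set-up `N`, `C_G(N)` -/

namespace Cfsg.Agent.H65

open Subgroup
open scoped commutatorElement

universe u

/-- `N` normal elementary abelian of order `p²`, equal to `Ω₁(C_G(N))`, not central. -/
structure RSet (p : ℕ) (G : Type u) [Group G] (N : Subgroup G) : Prop where
  hp2 : p ≠ 2
  hG : IsPGroup p G
  hNn : N.Normal
  hNc : Nat.card N = p ^ 2
  hNe : ∀ n ∈ N, n ^ p = 1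
  hC : ∀ c ∈ centralizer (N : Set G), c ^ p = 1 → c ∈ N
  hne : centralizer (N : Set G) ≠ ⊤

/-- `[a, x] = a⁻¹ x⁻¹ a x` -/
def dl {G : Type u} [Group G] (x a : G) : G := a⁻¹ * (x⁻¹ * a * x)

theorem conj_eq_mul_dl {G : Type u} [Group G] (x a : G) : x⁻¹ * a * x = a * dl x a := by
  rw [dl]; group

theorem dl_eq_one_iff {G : Type u} [Group G] {x a : G} : dl x a = 1 ↔ Commute a x := by
  rw [dl, inv_mul_eq_one, Commute, SemiconjBy]
  constructor
  · intro h
    calc a * x = x * (x⁻¹ * a * x) := by group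
      _ = x * a := by rw [← h]
  · intro h
    calc a = x⁻¹ * (x * a) := by group
      _ = x⁻¹ * a * x := by rw [← h]; group

namespace RSet

variable {p : ℕ} [hpf : Fact p.Prime] {G : Type u} [Group G] [Finite G] {N : Subgroup G}

omit [Finite G] in
theorem comm (h : RSet p G N) {m n : G} (hm : m ∈ N) (hn : n ∈ N) : Commute m n := by
  have := IsPGroup.isMulCommutative_of_card_eq_prime_sq h.hNc
  exact congrArg Subtype.val (this.is_comm.comm ⟨m, hm⟩ ⟨n, hn⟩)

omit [Finite G] in
theorem le_C (h : RSet p G N) : N ≤ centralizer (N : Set G) := by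
  intro m hm
  rw [mem_centralizer_iff]
  intro n hn
  exact (h.comm hn hm)

omit [Finite G] hpf in
theorem commC {N : Subgroup G} {n c : G} (hn : n ∈ N) (hc : c ∈ centralizer (N : Set G)) : Commute n c :=
  mem_centralizer_iff.1 hc n hn

omit [Finite G] hpf in
theorem C_normal (h : RSet p G N) : (centralizer (N : Set G)).Normal := by
  have := h.hNn
  infer_instance

theorem index_C (h : RSet p G N) : (centralizer (N : Set G)).index = p := by
  have hp : p.Prime := hpf.out
  have h1 := H23.card_le_card_inf_centralizer h.hG h.hNn h.hNc ⊤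
  rw [card_top, top_inf_eq, ← (centralizer (N : Set G)).card_mul_index] at h1
  have h2 : (centralizer (N : Set G)).index ≤ p := Nat.le_of_mul_le_mul_left h1 Nat.card_pos
  obtain ⟨k, hk⟩ := h.hG.index (centralizer (N : Set G))
  have h3 : (centralizer (N : Set G)).index ≠ 1 := fun h4 => h.hne (index_eq_one.1 h4)
  rw [hk] at h2 h3 ⊢
  have h4 : k ≤ 1 := (Nat.pow_le_pow_iff_right hp.one_lt).1 (h2.trans (pow_one p).ge)
  have h5 : k ≠ 0 := by rintro rfl; exact h3 (pow_zero p)
  have : k = 1 := by omega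
  rw [this, pow_one]

theorem sup_eq_top (h : RSet p G N) {x : G} (hx : x ∉ centralizer (N : Set G)) :
    centralizer (N : Set G) ⊔ zpowers x = ⊤ := by
  have hp : p.Prime := hpf.out
  have h1 : centralizer (N : Set G) < centralizer (N : Set G) ⊔ zpowers x := by
    refine lt_of_le_of_ne le_sup_left fun heq => hx ?_
    rw [heq]
    exact (le_sup_right : zpowers x ≤ _) (mem_zpowers x)
  have h2 : (centralizer (N : Set G) ⊔ zpowers x).index < (centralizer (N : Set G)).index := index_strictAnti h1
  rw [h.index_C] at h2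
  have h3 : (centralizer (N : Set G) ⊔ zpowers x).index ∣ p := h.index_C ▸ index_dvd_of_le h1.le
  rcases (Nat.dvd_prime hp).1 h3 with h4 | h4
  · exact index_eq_one.1 h4
  · omega

theorem pow_mem_C (h : RSet p G N) (x : G) : x ^ p ∈ centralizer (N : Set G) := by
  have := h.C_normal
  have h1 := (centralizer (N : Set G)).pow_index_mem x
  rwa [h.index_C] at h1

/-- an element commuting with `C` and with some `x ∉ C` is central -/
theorem mem_center (h : RSet p G N) {x a : G} (hx : x ∉ centralizer (N : Set G)) (hax : Commute a x)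
    (haC : ∀ c ∈ centralizer (N : Set G), Commute a c) : a ∈ center G := by
  have h1 : centralizer (N : Set G) ⊔ zpowers x ≤ centralizer ({a} : Set G) := by
    apply sup_le
    · intro c hc
      rw [mem_centralizer_singleton_iff]
      exact (haC c hc).symm
    · rw [zpowers_le, mem_centralizer_singleton_iff]
      exact hax.symm
  rw [h.sup_eq_top hx] at h1
  rw [mem_center_iff]
  intro g
  exact mem_centralizer_singleton_iff.1 (h1 (mem_top g))

theorem exists_not_mem (h : RSet p G N) : ∃ x : G, x ∉ centralizer (N : Set G) := by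
  by_contra hcon
  push Not at hcon
  exact h.hne (eq_top_iff.2 fun x _ => hcon x)

theorem card_Z0 (h : RSet p G N) : Nat.card ↥(N ⊓ center G) = p := by
  have hp : p.Prime := hpf.out
  have hNne : N ≠ ⊥ := by
    intro hb
    have := h.hNc
    rw [hb, card_bot] at this
    have h2 : 1 < p ^ 2 := Nat.one_lt_pow (by norm_num) hp.one_lt
    omega
  obtain ⟨z, hzN, hzo, hzc⟩ := H23.exists_central_orderOf h.hG h.hNn hNne
  have h1 : Nat.card ↥(N ⊓ center G) ∣ p ^ 2 := h.hNc ▸ card_dvd_of_le inf_le_left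
  obtain ⟨k, hk, hk2⟩ := (Nat.dvd_prime_pow hp).1 h1
  have h2 : k ≠ 0 := by
    rintro rfl
    rw [pow_zero, card_eq_one] at hk2
    have : z ∈ N ⊓ center G := ⟨hzN, hzc⟩
    rw [hk2, mem_bot] at this
    rw [this, orderOf_one] at hzo
    exact hp.one_lt.ne hzo
  have h3 : k ≠ 2 := by
    rintro rfl
    have h4 : N ⊓ center G = N := eq_of_le_of_card_ge inf_le_left (by rw [hk2, h.hNc])
    apply h.hne
    rw [eq_top_iff]
    intro g _
    rw [mem_centralizer_iff]
    intro n hn
    have : n ∈ N ⊓ center G := h4.symm ▸ hn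
    exact (mem_center_iff.1 this.2 g).symm
  have : k = 1 := by omega
  rw [hk2, this, pow_one]

theorem conj_mem (h : RSet p G N) {n : G} (hn : n ∈ N) (x : G) : x⁻¹ * n * x ∈ N := by
  have := h.hNn.conj_mem n hn x⁻¹
  rwa [inv_inv] at this

theorem dl_mem (h : RSet p G N) {n : G} (hn : n ∈ N) (x : G) : dl x n ∈ N :=
  mul_mem (inv_mem hn) (h.conj_mem hn x)

theorem dl_mul (h : RSet p G N) (x : G) {m n : G} (hm : m ∈ N) (hn : n ∈ N) : dl x (m * n) = dl x m * dl x n := by
  have h1 : Commute n⁻¹ (dl x m) := (h.comm hn (h.dl_mem hm x)).inv_left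
  have h2 : dl x (m * n) = n⁻¹ * dl x m * (x⁻¹ * n * x) := by rw [dl, dl]; group
  rw [h2, h1.eq, dl, dl]; group

/-- the homomorphism `n ↦ [n, x]` on `N` -/
def dlHom (h : RSet p G N) (x : G) : N →* N where
  toFun n := ⟨dl x n, h.dl_mem n.2 x⟩
  map_one' := Subtype.ext (by simp [dl])
  map_mul' m n := Subtype.ext (h.dl_mul x m.2 n.2)

theorem dl_mem_center (h : RSet p G N) {n : G} (hn : n ∈ N) (x : G) : dl x n ∈ center G := by
  have hp : p.Prime := hpf.out
  -- `G` acts trivially on `N / Z₀`
  have hcard : Nat.card (N ⧸ (N ⊓ center G).subgroupOf N) = p := by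
    have h1 := ((N ⊓ center G).subgroupOf N).card_mul_index
    rw [Nat.card_congr (subgroupOfEquivOfLe (inf_le_left : N ⊓ center G ≤ N)).toEquiv, h.card_Z0, h.hNc, pow_two] at h1
    exact Nat.eq_of_mul_eq_mul_left hp.pos h1
  by_cases hx : x ∈ centralizer (N : Set G)
  · have : dl x n = 1 := dl_eq_one_iff.2 (commC hn hx)
    rw [this]; exact one_mem _
  · -- kernel of `dlHom` is `Z₀`, and `dlHom` iterated is nilpotent
    by_contra hcon
    have hker : (h.dlHom x).ker = (N ⊓ center G).subgroupOf N := by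
      ext m
      rw [MonoidHom.mem_ker, mem_subgroupOf]
      constructor
      · intro hm
        have h1 : dl x (m : G) = 1 := congrArg Subtype.val hm
        exact ⟨m.2, h.mem_center hx (dl_eq_one_iff.1 h1) fun c hc => commC m.2 hc⟩
      · intro hm
        apply Subtype.ext
        exact dl_eq_one_iff.2 (mem_center_iff.1 hm.2 x).symm
    -- p-group acting on the set of subgroups... use: image of dlHom is normal of order p
    have hrange : Nat.card (h.dlHom x).range = p := by
      have h1 := (h.dlHom x).ker.card_mul_index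
      rw [index_ker, hker, Nat.card_congr (subgroupOfEquivOfLe (inf_le_left : N ⊓ center G ≤ N)).toEquiv,
        h.card_Z0, h.hNc, pow_two] at h1
      exact Nat.eq_of_mul_eq_mul_left hp.pos h1
    set R : Subgroup G := (h.dlHom x).range.map N.subtype with hR
    have hRc : Nat.card R = p := by
      rw [hR, Nat.card_congr ((h.dlHom x).range.equivMapOfInjective N.subtype N.subtype_injective).symm.toEquiv, hrange]
    have hRN : R ≤ N := map_subtype_le _
    have hRx : ∀ r ∈ R, x⁻¹ * r * x ∈ R := by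
      rintro _ ⟨_, ⟨m, rfl⟩, rfl⟩
      refine ⟨_, ⟨⟨x⁻¹ * m * x, h.conj_mem m.2 x⟩, rfl⟩, ?_⟩
      show dl x (x⁻¹ * m * x) = x⁻¹ * dl x m * x
      rw [dl, dl]; group
    have hRn : R.Normal := by
      rw [← normalizer_eq_top_iff, eq_top_iff, ← h.sup_eq_top hx]
      apply sup_le
      · intro c hc
        rw [mem_normalizer_iff]
        intro r
        constructor
        · intro hr
          have : c * r * c⁻¹ = r := by rw [← (commC (hRN hr) hc).eq]; group
          rw [this]; exact hr
        · intro hr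
          have h1 : r = c⁻¹ * (c * r * c⁻¹) * c := by group
          have h2 : c⁻¹ * (c * r * c⁻¹) * c = c * r * c⁻¹ := by
            have := (commC (hRN hr) (inv_mem hc)).eq
            rw [← this]; group
          rw [h1, h2]; exact hr
      · rw [zpowers_le]
        have hfin : (R : Set G).Finite := Set.toFinite _
        rw [← inv_mem_iff]
        rw [mem_normalizer_iff]
        have hmap : R.map (MulAut.conj x⁻¹).toMonoidHom = R := by
          apply eq_of_le_of_card_ge
          · rintro _ ⟨r, hr, rfl⟩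
            have := hRx r hr
            show x⁻¹ * r * (x⁻¹)⁻¹ ∈ R
            rwa [inv_inv]
          · rw [Nat.card_congr (R.equivMapOfInjective (MulAut.conj x⁻¹).toMonoidHom (MulAut.conj x⁻¹).injective).toEquiv]
        intro r
        constructor
        · intro hr
          have := hRx r hr
          rwa [inv_inv]
        · intro hr
          have h1 : (MulAut.conj x⁻¹) r ∈ R.map (MulAut.conj x⁻¹).toMonoidHom := by rw [hmap]; exact hr
          obtain ⟨s, hs, hs2⟩ := h1
          have : s = r := (MulAut.conj x⁻¹).injective hs2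
          rw [← this]; exact hs
    have hRZ := H23.le_center_of_card_eq_prime h.hG hRn hRc
    exact hcon (hRZ ⟨_, ⟨⟨n, hn⟩, rfl⟩, rfl⟩)

/-- `[N, x] = Z₀` for `x ∉ C` -/
theorem exists_dl_eq (h : RSet p G N) {x : G} (hx : x ∉ centralizer (N : Set G)) {z : G} (hz : z ∈ N)
    (hzc : z ∈ center G) : ∃ n ∈ N, dl x n = z := by
  have hp : p.Prime := hpf.out
  have hker : (h.dlHom x).ker = (N ⊓ center G).subgroupOf N := by
    ext m
    rw [MonoidHom.mem_ker, mem_subgroupOf]
    constructor
    · intro hm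
      have h1 : dl x (m : G) = 1 := congrArg Subtype.val hm
      exact ⟨m.2, h.mem_center hx (dl_eq_one_iff.1 h1) fun c hc => commC m.2 hc⟩
    · intro hm
      apply Subtype.ext
      exact dl_eq_one_iff.2 (mem_center_iff.1 hm.2 x).symm
  have hrange : Nat.card (h.dlHom x).range = p := by
    have h1 := (h.dlHom x).ker.card_mul_index
    rw [index_ker, hker, Nat.card_congr (subgroupOfEquivOfLe (inf_le_left : N ⊓ center G ≤ N)).toEquiv,
      h.card_Z0, h.hNc, pow_two] at h1
    exact Nat.eq_of_mul_eq_mul_left hp.pos h1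
  set R : Subgroup G := (h.dlHom x).range.map N.subtype with hR
  have hRc : Nat.card R = p := by
    rw [hR, Nat.card_congr ((h.dlHom x).range.equivMapOfInjective N.subtype N.subtype_injective).symm.toEquiv, hrange]
  have hRle : R ≤ N ⊓ center G := by
    rintro _ ⟨_, ⟨m, rfl⟩, rfl⟩
    exact ⟨h.dl_mem m.2 x, h.dl_mem_center m.2 x⟩
  have hReq : R = N ⊓ center G := eq_of_le_of_card_ge hRle (by rw [hRc, h.card_Z0])
  have : z ∈ R := by rw [hReq]; exact ⟨hz, hzc⟩
  obtain ⟨_, ⟨m, rfl⟩, hm⟩ := this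
  exact ⟨m, m.2, hm⟩

/-! ### `C` is `p`-central -/

omit [Finite G] hpf in
theorem pcentral (h : RSet p G N) : BG.PCentral p (centralizer (N : Set G)) := by
  intro x hx
  rw [Subgroup.mem_center_iff]
  intro y
  have h1 := h.hC x x.2 (congrArg Subtype.val hx)
  exact Subtype.ext (commC h1 y.2).symm.eq

theorem pGroup_C (h : RSet p G N) : IsPGroup p (centralizer (N : Set G)) := h.hG.to_subgroup _

theorem comm_mem (h : RSet p G N) {u c : G} (hu : u ∈ centralizer (N : Set G)) (hup : u ^ p ∈ N)
    (hc : c ∈ centralizer (N : Set G)) : ⁅u, c⁆ ∈ N := by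
  have h1 := h.pcentral.comm_pow h.hp2 h.pGroup_C (x := ⟨u, hu⟩) (by
    apply Subtype.ext
    show u ^ p ^ 2 = 1
    rw [pow_two, pow_mul, h.hNe _ hup]) ⟨c, hc⟩
  have h2 : ⁅u, c⁆ ^ p = 1 := congrArg Subtype.val h1
  refine h.hC _ ?_ h2
  exact (⁅(⟨u, hu⟩ : centralizer (N : Set G)), (⟨c, hc⟩ : centralizer (N : Set G))⁆).2

theorem mul_pow_of_comm (h : RSet p G N) {u v : G} (hu : u ∈ centralizer (N : Set G)) (hv : v ∈ centralizer (N : Set G))
    (hc : ⁅v⁻¹, u⁻¹⁆ ∈ N) : (u * v) ^ p = u ^ p * v ^ p := by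
  have hp : p.Prime := hpf.out
  refine OddP.mul_pow_p_class2 hp h.hp2 (z := ⁅v⁻¹, u⁻¹⁆) ?_ (commC hc hu) (commC hc hv) (h.hNe _ hc)
  simp only [commutatorElement_def]; group

/-- `(u v) ^ p = u ^ p v ^ p` in `C` if `v ^ p ∈ N` -/
theorem mul_pow (h : RSet p G N) {u v : G} (hu : u ∈ centralizer (N : Set G)) (hv : v ∈ centralizer (N : Set G))
    (hvp : v ^ p ∈ N) : (u * v) ^ p = u ^ p * v ^ p :=
  h.mul_pow_of_comm hu hv (h.comm_mem (inv_mem hv) (by rw [inv_pow]; exact inv_mem hvp) (inv_mem hu))

theorem pow_inj (h : RSet p G N) {u v : G} (hu : u ∈ centralizer (N : Set G)) (hv : v ∈ centralizer (N : Set G))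
    (huv : u ^ p = v ^ p) : u⁻¹ * v ∈ N := by
  have h1 := h.pcentral.pow_eq h.hp2 h.pGroup_C (x := ⟨u, hu⟩) (y := ⟨v, hv⟩) (Subtype.ext huv)
  exact h.hC _ (mul_mem (inv_mem hu) hv) (congrArg Subtype.val h1)

theorem card_omegaZ_C (h : RSet p G N) : Nat.card (BG.omegaZ p (centralizer (N : Set G))) = p ^ 2 := by
  have h1 : BG.omegaZ p (centralizer (N : Set G)) = N.subgroupOf (centralizer (N : Set G)) := by
    ext c
    rw [h.pcentral.mem_omegaZ_iff, mem_subgroupOf]
    constructor
    · intro hc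
      exact h.hC c c.2 (congrArg Subtype.val hc)
    · intro hc
      exact Subtype.ext (h.hNe _ hc)
  rw [h1, Nat.card_congr (subgroupOfEquivOfLe h.le_C).toEquiv, h.hNc]

/-- the subgroup generated by the `p`-th powers of elements of `C` -/
def Cp (p : ℕ) (N : Subgroup G) : Subgroup G := closure {x : G | ∃ y ∈ centralizer (N : Set G), y ^ p = x}

theorem index_Cp (h : RSet p G N) : (Cp p N).index ≤ p ^ 3 := by
  set C := centralizer (N : Set G) with hC
  have h1 := h.pcentral.index_closure_pow_le h.hp2 h.pGroup_C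
  rw [h.card_omegaZ_C] at h1
  have h2 : (closure {x : C | ∃ y, y ^ p = x}).map C.subtype = Cp p N := by
    rw [MonoidHom.map_closure, Cp]
    congr 1
    ext x
    constructor
    · rintro ⟨_, ⟨y, rfl⟩, rfl⟩
      exact ⟨y, y.2, rfl⟩
    · rintro ⟨y, hy, rfl⟩
      exact ⟨_, ⟨⟨y, hy⟩, rfl⟩, rfl⟩
  have h3 : Cp p N ≤ C := by rw [← h2]; exact map_subtype_le _
  have h4 : (Cp p N).relIndex C = (closure {x : C | ∃ y, y ^ p = x}).index := by
    rw [relIndex, ← h2]
    congr 1
    exact comap_map_eq_self_of_injective C.subtype_injective _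
  rw [← relIndex_mul_index h3, h4, h.index_C, pow_succ]
  exact Nat.mul_le_mul_right _ h1

/-- if some `p`-th power is not in `⟨p-th powers of C⟩` then `G` is metacyclic -/
theorem metacyclic_of_pow (h : RSet p G N) {g : G} (hg : g ^ p ∉ Cp p N) : Cfsg.IsMetacyclic G := by
  have hp : p.Prime := hpf.out
  apply isMetacyclic_of_index_le h.hp2 h.hG
  set U := closure {x : G | ∃ y : G, y ^ p = x} with hU
  have h1 : Cp p N < U := by
    refine lt_of_le_of_ne ?_ ?_
    · rw [Cp, closure_le]
      rintro _ ⟨y, -, rfl⟩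
      exact subset_closure ⟨y, rfl⟩
    · intro heq
      exact hg (heq ▸ subset_closure ⟨g, rfl⟩)
  have h2 : U.index < (Cp p N).index := index_strictAnti h1
  obtain ⟨i, hi⟩ := h.hG.index U
  have h3 := h.index_Cp
  rw [hi] at h2 ⊢
  have h4 : p ^ i < p ^ 3 := lt_of_lt_of_le h2 h3
  rw [Nat.pow_lt_pow_iff_right hp.one_lt] at h4
  exact Nat.pow_le_pow_right hp.pos (by omega)

end RSet

end Cfsg.Agent.H65
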