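import Cfsg.Agent.H65.RankTwoP
import Cfsg.Agent.OddP.NormalSq

set_option autoImplicit false
set_option linter.unusedSectionVars false

/-! `p`-groups of rank two, `p` odd: the case `C / N` not cyclic -/

namespace Cfsg.Agent.H65

open Subgroup
open scoped commutatorElement

universe u

theorem dl_eq_comm {G : Type u} [Group G] (x a : G) : dl x a = ⁅a⁻¹, x⁻¹⁆ := by
  rw [dl, commutatorElement_def]; group

theorem dl_mem_iff_commute {G : Type u} [Group G] {N : Subgroup G} [N.Normal] {x a : G} :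
    dl x a ∈ N ↔ Commute (a : G ⧸ N) (x : G ⧸ N) := by
  rw [← QuotientGroup.eq_one_iff]
  show dl (x : G ⧸ N) (a : G ⧸ N) = 1 ↔ _
  exact dl_eq_one_iff

theorem dl_mul_gen {G : Type u} [Group G] (x a b : G) : dl x (a * b) = b⁻¹ * dl x a * b * dl x b := by
  simp only [dl]; group

/-- `U / N` elementary abelian of order `p²` in `C / N` -/
structure RU (p : ℕ) (G : Type u) [Group G] (N U : Subgroup G) : Prop where
  hUn : U.Normal
  hNU : N ≤ U
  hUC : U ≤ centralizer (N : Set G)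
  hUc : Nat.card U = p ^ 4
  hUp : ∀ u ∈ U, u ^ p ∈ N

variable {p : ℕ} [hpf : Fact p.Prime] {G : Type u} [Group G] [Finite G] {N U : Subgroup G}

theorem RSet.exists_U (h : RSet p G N) : (∃ w ∈ centralizer (N : Set G), centralizer (N : Set G) = N ⊔ zpowers w) ∨
    ∃ U : Subgroup G, RU p G N U := by
  have hp : p.Prime := hpf.out
  have hNn := h.hNn
  set C := centralizer (N : Set G) with hC
  have hCn : C.Normal := h.C_normal
  set π := QuotientGroup.mk' N with hπ
  have hSn : (C.map π).Normal := hCn.map _ (QuotientGroup.mk'_surjective _)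
  by_cases hS : IsCyclic (C.map π)
  · left
    obtain ⟨⟨w', hw'⟩, hg⟩ := hS.exists_generator
    obtain ⟨w, hwC, rfl⟩ := hw'
    refine ⟨w, hwC, ?_⟩
    apply le_antisymm
    · intro c hc
      obtain ⟨k, hk⟩ := mem_zpowers_iff.1 (hg ⟨π c, ⟨c, hc, rfl⟩⟩)
      have h1 : π w ^ k = π c := congrArg Subtype.val hk
      have h2 : c * (w ^ k)⁻¹ ∈ N := by
        rw [← QuotientGroup.eq_one_iff]
        show π (c * (w ^ k)⁻¹) = 1
        rw [map_mul, map_inv, map_zpow, h1, mul_inv_cancel]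
      have h3 : c = (c * (w ^ k)⁻¹) * w ^ k := by group
      rw [h3]
      exact mul_mem ((le_sup_left : N ≤ _) h2) ((le_sup_right : zpowers w ≤ _) (zpow_mem (mem_zpowers w) k))
    · exact sup_le h.le_C (zpowers_le.2 hwC)
  · right
    obtain ⟨A, hAS, hAn, hAe, hAc⟩ := OddP.exists_sq_of_not_cyclic h.hp2 (h.hG.to_quotient N) (C.map π) hSn hS
    refine ⟨A.comap π, inferInstance, ?_, ?_, ?_, ?_⟩
    · intro n hn
      rw [mem_comap, hπ, QuotientGroup.mk'_apply, (QuotientGroup.eq_one_iff n).2 hn]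
      exact one_mem _
    · intro u hu
      obtain ⟨c, hc, hcu⟩ := hAS (mem_comap.1 hu)
      have h1 : c⁻¹ * u ∈ N := by rw [← QuotientGroup.eq]; exact hcu
      have h2 : u = c * (c⁻¹ * u) := by group
      rw [h2]
      exact mul_mem hc (h.le_C h1)
    · have h1 := (A.comap π).card_mul_index
      have h2 : (A.comap π).index = A.index := index_comap_of_surjective _ (QuotientGroup.mk'_surjective _)
      have h3 := A.card_mul_index
      have h4 := N.card_mul_index
      have h5 : Nat.card (G ⧸ N) = N.index := rfl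
      rw [hAc, h5] at h3
      rw [h2, ← h4, h.hNc, ← h3] at h1
      have h6 : 0 < A.index := Nat.pos_of_ne_zero index_ne_zero_of_finite
      have h7 : Nat.card (A.comap π) * A.index = p ^ 4 * A.index := by rw [h1]; ring
      exact Nat.eq_of_mul_eq_mul_right h6 h7
    · intro u hu
      rw [← QuotientGroup.eq_one_iff]
      exact hAe.2 _ hu

namespace RU

theorem pow_surj (hU : RU p G N U) (h : RSet p G N) {n : G} (hn : n ∈ N) : ∃ u ∈ U, u ^ p = n := by
  have hp : p.Prime := hpf.out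
  let f : U →* N := {
    toFun := fun u => ⟨(u : G) ^ p, hU.hUp u u.2⟩
    map_one' := Subtype.ext (one_pow p)
    map_mul' := fun a b => Subtype.ext (h.mul_pow (hU.hUC a.2) (hU.hUC b.2) (hU.hUp b b.2)) }
  have hker : f.ker = N.subgroupOf U := by
    ext u
    rw [MonoidHom.mem_ker, mem_subgroupOf]
    constructor
    · intro hu
      exact h.hC u (hU.hUC u.2) (congrArg Subtype.val hu)
    · intro hu
      exact Subtype.ext (h.hNe _ hu)
  have h1 := f.ker.card_mul_index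
  rw [index_ker, hker, Nat.card_congr (subgroupOfEquivOfLe hU.hNU).toEquiv, h.hNc, hU.hUc] at h1
  have h2 : p ^ 2 * Nat.card f.range = p ^ 2 * p ^ 2 := by rw [h1]; ring
  have h3 : Nat.card f.range = p ^ 2 := Nat.eq_of_mul_eq_mul_left (pow_pos hp.pos 2) h2
  have h4 : f.range = ⊤ := by rw [← card_eq_iff_eq_top, h3, h.hNc]
  have h5 : (⟨n, hn⟩ : N) ∈ f.range := h4 ▸ mem_top _
  obtain ⟨u, hu⟩ := h5
  exact ⟨u, u.2, congrArg Subtype.val hu⟩

theorem mem_of_pow (hU : RU p G N U) (h : RSet p G N) {c : G} (hc : c ∈ centralizer (N : Set G)) (hcp : c ^ p ∈ N) :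
    c ∈ U := by
  obtain ⟨u, hu, hup⟩ := hU.pow_surj h hcp
  have h1 := h.pow_inj (hU.hUC hu) hc hup
  have h2 : c = u * (u⁻¹ * c) := by group
  rw [h2]
  exact mul_mem hu (hU.hNU h1)

theorem conj_mem (hU : RU p G N U) {u : G} (hu : u ∈ U) (x : G) : x⁻¹ * u * x ∈ U := by
  have := hU.hUn.conj_mem u hu x⁻¹
  rwa [inv_inv] at this

theorem dl_mem (hU : RU p G N U) {u : G} (hu : u ∈ U) (x : G) : dl x u ∈ U :=
  mul_mem (inv_mem hu) (hU.conj_mem hu x)

theorem dl_pow (hU : RU p G N U) (h : RSet p G N) {u : G} (hu : u ∈ U) (x : G) : (dl x u) ^ p = dl x (u ^ p) := by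
  have hcu := hU.conj_mem hu x
  rw [dl, h.mul_pow (inv_mem (hU.hUC hu)) (hU.hUC hcu) (hU.hUp _ hcu), dl, inv_pow]
  have : x⁻¹ * u * x = x⁻¹ * u * (x⁻¹)⁻¹ := by rw [inv_inv]
  rw [this, conj_pow, inv_inv]

theorem dl_dl_mem (hU : RU p G N U) (h : RSet p G N) {u : G} (hu : u ∈ U) (x : G) : dl x (dl x u) ∈ N := by
  have h1 := hU.dl_mem hu x
  have h2 := hU.dl_mem h1 x
  refine h.hC _ (hU.hUC h2) ?_
  rw [hU.dl_pow h h1, hU.dl_pow h hu, dl_eq_one_iff]
  exact (mem_center_iff.1 (h.dl_mem_center (hU.hUp u hu) x) x).symm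

theorem dl_dl_dl_mem (hU : RU p G N U) (h : RSet p G N) {u : G} (hu : u ∈ U) (x : G) :
    dl x (dl x (dl x u)) ∈ center G :=
  h.dl_mem_center (hU.dl_dl_mem h hu x) x

theorem conj_pow_formula (hU : RU p G N U) (h : RSet p G N) {u : G} (hu : u ∈ U) (x : G) (k : ℕ) :
    (x ^ k)⁻¹ * u * x ^ k = u * (dl x u) ^ k * (dl x (dl x u)) ^ (k.choose 2) *
      (dl x (dl x (dl x u))) ^ (k.choose 3) := by
  set a := dl x u with ha
  set b := dl x a with hb
  set c := dl x b with hc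
  have hu1 : x⁻¹ * u * x = u * a := conj_eq_mul_dl x u
  have ha1 : x⁻¹ * a * x = a * b := conj_eq_mul_dl x a
  have hb1 : x⁻¹ * b * x = b * c := conj_eq_mul_dl x b
  have hcc : c ∈ center G := hU.dl_dl_dl_mem h hu x
  have hcomm : ∀ g : G, Commute c g := fun g => (mem_center_iff.1 hcc g).symm
  have hc1 : x⁻¹ * c * x = c := by rw [mul_assoc, (hcomm x).eq]; group
  have haU : a ∈ U := hU.dl_mem hu x
  have hbN : b ∈ N := hU.dl_dl_mem h hu x
  have hab : Commute a b := (RSet.commC hbN (hU.hUC haU)).symm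
  have hconj : ∀ g : G, x⁻¹ * g * x = MulAut.conj x⁻¹ g := by
    intro g; rw [MulAut.conj_apply, inv_inv]
  rw [hconj] at hu1 ha1 hb1 hc1
  induction k with
  | zero => simp
  | succ k ih =>
    have h1 : (x ^ (k + 1))⁻¹ * u * x ^ (k + 1) = MulAut.conj x⁻¹ ((x ^ k)⁻¹ * u * x ^ k) := by
      rw [MulAut.conj_apply, pow_succ]; group
    rw [h1, ih, map_mul, map_mul, map_mul, map_pow, map_pow, map_pow, hu1, ha1, hb1, hc1,
      hab.mul_pow, ((hcomm b).symm).mul_pow]
    have e2 : (k + 1).choose 2 = k + k.choose 2 := by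
      rw [Nat.choose_succ_succ' k 1, Nat.choose_one_right]
    have e3 : (k + 1).choose 3 = k.choose 2 + k.choose 3 := Nat.choose_succ_succ' k 2
    rw [e2, e3, pow_add b, pow_add c, pow_succ' a]
    have h2 : Commute (c ^ k.choose 2) (b ^ k.choose 2) := ((hcomm b).pow_pow _ _)
    simp only [mul_assoc]

/-- formula for `k = p` -/
theorem conj_pow_p (hU : RU p G N U) (h : RSet p G N) {u : G} (hu : u ∈ U) (x : G) :
    (x ^ p)⁻¹ * u * x ^ p = u * dl x (u ^ p) * (dl x (dl x (dl x u))) ^ (p.choose 3) := by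
  have hp : p.Prime := hpf.out
  rw [hU.conj_pow_formula h hu, hU.dl_pow h hu, OddP.pow_eq_one_of_dvd (h.hNe _ (hU.dl_dl_mem h hu x))
    (OddP.dvd_choose_two hp h.hp2), mul_one]

/-- `p`-th powers of elements of `C` centralize `U` -/
theorem commute_pow (hU : RU p G N U) (h : RSet p G N) {u c : G} (hu : u ∈ U) (hc : c ∈ centralizer (N : Set G)) :
    Commute u (c ^ p) := by
  have h1 : dl c u ∈ N := by
    rw [dl_eq_comm]
    exact h.comm_mem (inv_mem (hU.hUC hu)) (hU.hUp _ (inv_mem hu)) (inv_mem hc)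
  have h2 : ∀ k : ℕ, (c ^ k)⁻¹ * u * c ^ k = u * (dl c u) ^ k := by
    intro k
    induction k with
    | zero => simp
    | succ k ih =>
      have h3 : (c ^ (k + 1))⁻¹ * u * c ^ (k + 1) = c⁻¹ * ((c ^ k)⁻¹ * u * c ^ k) * c := by
        rw [pow_succ]; group
      have h4 : Commute ((dl c u) ^ k) c := (RSet.commC h1 hc).pow_left k
      rw [h3, ih]
      calc c⁻¹ * (u * dl c u ^ k) * c = c⁻¹ * u * (dl c u ^ k * c) := by group
        _ = c⁻¹ * u * (c * dl c u ^ k) := by rw [h4.eq]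
        _ = (c⁻¹ * u * c) * dl c u ^ k := by group
        _ = u * dl c u ^ (k + 1) := by rw [conj_eq_mul_dl, pow_succ']; group
  have h3 := h2 p
  rw [h.hNe _ h1, mul_one] at h3
  rw [← dl_eq_one_iff, dl, h3, inv_mul_cancel]

theorem metacyclic (hU : RU p G N U) (h : RSet p G N) {g u : G} (hu : u ∈ U) (hgu : ¬ Commute u (g ^ p)) :
    Cfsg.IsMetacyclic G := by
  apply h.metacyclic_of_pow (g := g)
  intro hg
  apply hgu
  have h1 : RSet.Cp p N ≤ centralizer ({u} : Set G) := by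
    rw [RSet.Cp, closure_le]
    rintro _ ⟨y, hy, rfl⟩
    rw [SetLike.mem_coe, mem_centralizer_singleton_iff]
    exact (hU.commute_pow h hu hy).symm
  exact (mem_centralizer_singleton_iff.1 (h1 hg)).symm

theorem exists_noncentral (h : RSet p G N) {x : G} (hx : x ∉ centralizer (N : Set G)) : ∃ n ∈ N, dl x n ≠ 1 := by
  have hp : p.Prime := hpf.out
  have hne : N ⊓ center G ≠ ⊥ := by
    intro hb
    have := h.card_Z0
    rw [hb, card_bot] at this
    exact hp.one_lt.ne this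
  obtain ⟨z, hz, hz1⟩ := (N ⊓ center G).bot_or_exists_ne_one.resolve_left hne
  obtain ⟨n, hn, hnz⟩ := h.exists_dl_eq hx hz.1 hz.2
  exact ⟨n, hn, by rw [hnz]; exact hz1⟩

/-- `p ≥ 5`, `C / N` not cyclic: metacyclic -/
theorem metacyclic_of_gt (hU : RU p G N U) (h : RSet p G N) (h3 : 3 < p) : Cfsg.IsMetacyclic G := by
  have hp : p.Prime := hpf.out
  obtain ⟨x, hx⟩ := h.exists_not_mem
  obtain ⟨n, hn, hn1⟩ := exists_noncentral h hx
  obtain ⟨u, hu, hun⟩ := hU.pow_surj h hn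
  refine hU.metacyclic h (g := x) hu fun hcomm => hn1 ?_
  have h1 := hU.conj_pow_p h hu x
  have h2 : (x ^ p)⁻¹ * u * x ^ p = u := by rw [mul_assoc, hcomm.eq]; group
  rw [h2, OddP.pow_eq_one_of_dvd (h.hNe _ (h.dl_mem (hU.dl_dl_mem h hu x) x)) (OddP.dvd_choose_three hp h3), mul_one,
    hun] at h1
  exact (left_eq_mul.1 h1)

/-- elements acting trivially on `U / N` lie in `C` -/
theorem mem_C_of_dl (hU : RU p G N U) (h : RSet p G N) {c : G} (hc : ∀ u ∈ U, dl c u ∈ N) :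
    c ∈ centralizer (N : Set G) := by
  by_contra hcon
  obtain ⟨n, hn, hn1⟩ := exists_noncentral h hcon
  obtain ⟨u, hu, hun⟩ := hU.pow_surj h hn
  apply hn1
  rw [← hun, ← hU.dl_pow h hu]
  exact h.hNe _ (hc u hu)

theorem dl_mem_N (hU : RU p G N U) (h : RSet p G N) {u c : G} (hu : u ∈ U) (hc : c ∈ centralizer (N : Set G)) :
    dl c u ∈ N := by
  rw [dl_eq_comm]
  exact h.comm_mem (inv_mem (hU.hUC hu)) (hU.hUp _ (inv_mem hu)) (inv_mem hc)

end RU

/-! ### `p = 3`, all cubes centralize `U` -/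

namespace RU

theorem dl_dl_eq [hpf3 : Fact (Nat.Prime 3)] (hU : RU 3 G N U) (h : RSet 3 G N) (hcond : ∀ (g : G), ∀ u ∈ U, Commute u (g ^ 3))
    {x t : G} (hx : x ∉ centralizer (N : Set G)) (ht : t ∈ U) (hdt : dl x t ∈ N) :
    t ^ 3 ∈ center G ∧ dl x (dl x t) = (t ^ 3)⁻¹ := by
  have htN := hU.hUp t ht
  have h1 : dl x (t ^ 3) = 1 := by rw [← hU.dl_pow h ht]; exact h.hNe _ hdt
  have htc : t ^ 3 ∈ center G := h.mem_center hx (dl_eq_one_iff.1 h1) fun c hc => RSet.commC htN hc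
  refine ⟨htc, ?_⟩
  obtain ⟨n, hn, hnt⟩ := h.exists_dl_eq hx htN htc
  obtain ⟨u, hu, hun⟩ := hU.pow_surj h hn
  have haU := hU.dl_mem hu x
  have h2 : (dl x u) ^ 3 = t ^ 3 := by rw [hU.dl_pow h hu, hun, hnt]
  have h3 := h.pow_inj (hU.hUC haU) (hU.hUC ht) h2
  set ν := (dl x u)⁻¹ * t with hν
  have ht2 : t = dl x u * ν := by rw [hν]; group
  have hddN := hU.dl_dl_mem h hu x
  have h4 : dl x t = dl x (dl x u) * dl x ν := by
    have h5 : Commute ν⁻¹ (dl x (dl x u)) := (h.comm h3 hddN).inv_left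
    rw [ht2, dl_mul_gen, h5.eq, inv_mul_cancel_right]
  have h5 : dl x (dl x t) = dl x (dl x (dl x u)) := by
    rw [h4, h.dl_mul x hddN (h.dl_mem h3 x)]
    have : dl x (dl x ν) = 1 := dl_eq_one_iff.2 (mem_center_iff.1 (h.dl_mem_center h3 x) x).symm
    rw [this, mul_one]
  have h6 := hU.conj_pow_p h hu x
  have h7 : (x ^ 3)⁻¹ * u * x ^ 3 = u := by rw [mul_assoc, (hcond x u hu).eq]; group
  rw [h7, hun, hnt, Nat.choose_self, pow_one, mul_assoc] at h6
  have h8 := left_eq_mul.1 h6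
  rw [h5]
  exact (inv_eq_of_mul_eq_one_right h8).symm

/-- a normal subgroup not in `N` is not killed by two commutations -/
theorem comm_comm_ne_bot [hpf3 : Fact (Nat.Prime 3)] (hU : RU 3 G N U) (h : RSet 3 G N)
    (hcond : ∀ (g : G), ∀ u ∈ U, Commute u (g ^ 3)) {K : Subgroup G} (hK : K.Normal) (hKN : ¬ K ≤ N) :
    ⁅⁅K, (⊤ : Subgroup G)⁆, (⊤ : Subgroup G)⁆ ≠ ⊥ := by
  have hNn := h.hNn
  set π := QuotientGroup.mk' N with hπ
  have hKn : (K.map π).Normal := hK.map _ (QuotientGroup.mk'_surjective _)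
  have hKb : K.map π ≠ ⊥ := by
    intro hb
    apply hKN
    intro k hk
    have : π k ∈ K.map π := ⟨k, hk, rfl⟩
    rw [hb, mem_bot] at this
    exact (QuotientGroup.eq_one_iff k).1 this
  obtain ⟨t', ht'K, ht'o, ht'c⟩ := H23.exists_central_orderOf (h.hG.to_quotient N) hKn hKb
  obtain ⟨t, htK, rfl⟩ := ht'K
  have htN : t ∉ N := by
    intro htN
    have : π t = 1 := (QuotientGroup.eq_one_iff t).2 htN
    rw [this, orderOf_one] at ht'o
    omega
  have ht3 : t ^ 3 ∈ N := by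
    rw [← QuotientGroup.eq_one_iff]
    show π (t ^ 3) = 1
    rw [map_pow, ← ht'o, pow_orderOf_eq_one]
  have hdl : ∀ g : G, dl g t ∈ N := fun g => dl_mem_iff_commute.2 (mem_center_iff.1 ht'c (g : G ⧸ N)).symm
  have htC : t ∈ centralizer (N : Set G) := by
    apply hU.mem_C_of_dl h
    intro u hu
    exact dl_mem_iff_commute.2 (mem_center_iff.1 ht'c (u : G ⧸ N))
  have htU := hU.mem_of_pow h htC ht3
  obtain ⟨x, hx⟩ := h.exists_not_mem
  obtain ⟨-, h2⟩ := hU.dl_dl_eq h hcond hx htU (hdl x)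
  intro hb
  have h3 : dl x (dl x t) ∈ ⁅⁅K, (⊤ : Subgroup G)⁆, (⊤ : Subgroup G)⁆ := by
    rw [dl_eq_comm x (dl x t)]
    apply commutator_mem_commutator _ (mem_top _)
    apply inv_mem
    rw [dl_eq_comm]
    exact commutator_mem_commutator (inv_mem htK) (mem_top _)
  rw [hb, mem_bot, h2, inv_eq_one] at h3
  exact htN (h.hC t htC h3)

end RU

end Cfsg.Agent.H65
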