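import Cfsg.Agent.H65.RankTwoM

set_option autoImplicit false
set_option linter.unusedSectionVars false

/-! `p`-groups of rank two, `p` odd: the case `C = N ⟨w⟩` -/

namespace Cfsg.Agent.H65

open Subgroup
open scoped commutatorElement

universe u

/-- `C = N ⟨w⟩`, `|C| = p ^ (2 + l)` -/
structure RW (p : ℕ) (G : Type u) [Group G] (N : Subgroup G) (w : G) (l : ℕ) : Prop where
  hw : w ∈ centralizer (N : Set G)
  hCw : centralizer (N : Set G) = N ⊔ zpowers w
  hl : Nat.card (centralizer (N : Set G)) = p ^ (2 + l)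

namespace RW

variable {p : ℕ} [hpf : Fact p.Prime] {G : Type u} [Group G] [Finite G] {N : Subgroup G} {w : G} {l : ℕ}

theorem gen (hW : RW p G N w l) (h : RSet p G N) {c : G} (hc : c ∈ centralizer (N : Set G)) :
    ∃ ν ∈ N, ∃ k : ℤ, c = ν * w ^ k := by
  have := h.hNn
  rw [hW.hCw, mem_sup_of_normal_left] at hc
  obtain ⟨u, hu, z, hz, hcz⟩ := hc
  obtain ⟨k, rfl⟩ := mem_zpowers_iff.1 hz
  exact ⟨u, hu, k, hcz.symm⟩

theorem comm (hW : RW p G N w l) (h : RSet p G N) {a b : G} (ha : a ∈ centralizer (N : Set G))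
    (hb : b ∈ centralizer (N : Set G)) : Commute a b := by
  obtain ⟨ν, hν, k, rfl⟩ := hW.gen h ha
  obtain ⟨ν', hν', m, rfl⟩ := hW.gen h hb
  refine (RSet.commC hν hb).mul_left ?_
  refine (RSet.commC hν' (zpow_mem hW.hw k)).symm.mul_right ?_
  exact (Commute.refl w).zpow_zpow k m

theorem conj_mem (h : RSet p G N) {a : G} (ha : a ∈ centralizer (N : Set G)) (x : G) :
    x⁻¹ * a * x ∈ centralizer (N : Set G) := by
  have := h.C_normal.conj_mem a ha x⁻¹
  rwa [inv_inv] at this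

theorem dl_mem (h : RSet p G N) {a : G} (ha : a ∈ centralizer (N : Set G)) (x : G) :
    dl x a ∈ centralizer (N : Set G) :=
  mul_mem (inv_mem ha) (conj_mem h ha x)

theorem dl_mul (hW : RW p G N w l) (h : RSet p G N) (x : G) {a b : G} (ha : a ∈ centralizer (N : Set G))
    (hb : b ∈ centralizer (N : Set G)) : dl x (a * b) = dl x a * dl x b := by
  have h1 : Commute b⁻¹ (dl x a) := hW.comm h (inv_mem hb) (dl_mem h ha x)
  rw [dl_mul_gen, h1.eq, inv_mul_cancel_right]

/-- `a ↦ [a, x]` as an endomorphism of `C` -/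
def dlHomC (hW : RW p G N w l) (h : RSet p G N) (x : G) : centralizer (N : Set G) →* centralizer (N : Set G) where
  toFun a := ⟨dl x a, dl_mem h a.2 x⟩
  map_one' := Subtype.ext (by simp [dl])
  map_mul' a b := Subtype.ext (hW.dl_mul h x a.2 b.2)

theorem dl_zpow (hW : RW p G N w l) (h : RSet p G N) (x : G) {a : G} (ha : a ∈ centralizer (N : Set G)) (k : ℤ) :
    dl x (a ^ k) = (dl x a) ^ k := by
  have h1 := congrArg Subtype.val (map_zpow (hW.dlHomC h x) (⟨a, ha⟩ : centralizer (N : Set G)) k)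
  exact h1

theorem dl_pow (hW : RW p G N w l) (h : RSet p G N) (x : G) {a : G} (ha : a ∈ centralizer (N : Set G)) (k : ℕ) :
    dl x (a ^ k) = (dl x a) ^ k := by
  have h1 := congrArg Subtype.val (map_pow (hW.dlHomC h x) (⟨a, ha⟩ : centralizer (N : Set G)) k)
  exact h1

theorem t_mem (hW : RW p G N w l) (h : RSet p G N) : w ^ p ^ l ∈ N := by
  have hp : p.Prime := hpf.out
  have hNn := h.hNn
  have h1 := (N.subgroupOf (centralizer (N : Set G))).card_mul_index
  rw [Nat.card_congr (subgroupOfEquivOfLe h.le_C).toEquiv, h.hNc, hW.hl, pow_add] at h1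
  have hrel : (N.subgroupOf (centralizer (N : Set G))).index = p ^ l :=
    Nat.eq_of_mul_eq_mul_left (pow_pos hp.pos 2) h1
  have h2 := (N.subgroupOf (centralizer (N : Set G))).pow_index_mem ⟨w, hW.hw⟩
  rw [hrel, mem_subgroupOf] at h2
  exact h2

theorem not_mem (hW : RW p G N w (l + 1)) (h : RSet p G N) : w ^ p ^ l ∉ N := by
  have hp : p.Prime := hpf.out
  have hNn := h.hNn
  intro hcon
  have h1 := (N.subgroupOf (centralizer (N : Set G))).card_mul_index
  rw [Nat.card_congr (subgroupOfEquivOfLe h.le_C).toEquiv, h.hNc, hW.hl, pow_add] at h1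
  have hrel : (N.subgroupOf (centralizer (N : Set G))).index = p ^ (l + 1) :=
    Nat.eq_of_mul_eq_mul_left (pow_pos hp.pos 2) h1
  have h1 : N.relIndex (centralizer (N : Set G)) ≤ p ^ l := by
    have h2 : centralizer (N : Set G) = zpowers w ⊔ N := by rw [sup_comm]; exact hW.hCw
    rw [h2, relIndex_sup_right]
    refine index_le_of_cyclic inferInstance _ (pow_pos hp.pos l) ?_
    rintro ⟨a, ha⟩
    obtain ⟨k, rfl⟩ := mem_zpowers_iff.1 ha
    rw [mem_subgroupOf]
    show (w ^ k) ^ p ^ l ∈ N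
    rw [← zpow_natCast, ← zpow_mul, mul_comm, zpow_mul, zpow_natCast]
    exact zpow_mem hcon k
  rw [relIndex, hrel] at h1
  have h2 := (Nat.pow_le_pow_iff_right hp.one_lt).1 h1
  omega

theorem t_ne_one (hW : RW p G N w (l + 1)) (h : RSet p G N) : w ^ p ^ (l + 1) ≠ 1 := by
  intro h1
  apply hW.not_mem h
  apply h.hC _ (pow_mem hW.hw _)
  rw [← pow_mul, ← pow_succ, h1]

theorem orderOf_w (hW : RW p G N w (l + 1)) (h : RSet p G N) : orderOf w = p ^ (l + 2) := by
  have hp : p.Prime := hpf.out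
  apply orderOf_eq_prime_pow (hW.t_ne_one h)
  rw [pow_succ, pow_mul]
  exact h.hNe _ (hW.t_mem h)

/-- data about the action of `x` on `w` -/
theorem dl_w (hW : RW p G N w (l + 1)) (h : RSet p G N) {x : G} (hx : x ∉ centralizer (N : Set G)) :
    w ^ p ^ (l + 1) ∈ center G ∧ dl x w ∈ N := by
  have hp : p.Prime := hpf.out
  have hpZ : Prime (p : ℤ) := Nat.prime_iff_prime_int.1 hp
  set t := w ^ p ^ (l + 1) with ht
  have htN : t ∈ N := hW.t_mem h
  have ht1 : t ≠ 1 := hW.t_ne_one h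
  have htp : t ^ p = 1 := h.hNe _ htN
  obtain ⟨ν, hν, j, hq⟩ := hW.gen h (dl_mem h hW.hw x)
  have hνp : ν ^ p = 1 := h.hNe _ hν
  have hdt : dl x t = t ^ j := by
    have h1 : Commute ν (w ^ j) := RSet.commC hν (zpow_mem hW.hw j)
    rw [ht, hW.dl_pow h x hW.hw, hq, h1.mul_pow]
    have h2 : ν ^ p ^ (l + 1) = 1 := by rw [pow_succ', pow_mul, hνp, one_pow]
    rw [h2, one_mul, ← zpow_natCast, ← zpow_mul, mul_comm, zpow_mul, zpow_natCast]
  have htj : t ^ j = 1 := by
    by_contra hcon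
    have h3j : ¬ (p : ℤ) ∣ j := by
      rintro ⟨k, rfl⟩
      apply hcon
      rw [zpow_mul, zpow_natCast, htp, one_zpow]
    obtain ⟨a, b, hab⟩ := ((Prime.coprime_iff_not_dvd hpZ).2 h3j).symm
    have h1 : t = (t ^ j) ^ a := by
      rw [← zpow_mul]
      have h2 : j * a = 1 + p * (-b) := by linarith
      rw [h2, zpow_add, zpow_one, zpow_mul, zpow_natCast, htp, one_zpow, mul_one]
    have h2 : t ∈ center G := by
      rw [h1, ← hdt]
      exact zpow_mem (h.dl_mem_center htN x) a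
    apply hcon
    rw [← hdt, dl_eq_one_iff]
    exact (mem_center_iff.1 h2 x).symm
  have htc : t ∈ center G := by
    refine h.mem_center hx ?_ fun c hc => RSet.commC htN hc
    rw [← dl_eq_one_iff, hdt, htj]
  have hpj : (p : ℤ) ∣ j := by
    have h1 : orderOf t = p := orderOf_eq_prime htp ht1
    have h2 := orderOf_dvd_iff_zpow_eq_one.2 htj
    rwa [h1] at h2
  refine ⟨htc, ?_⟩
  -- formula for the conjugate by `x ^ k`
  set η := dl x ν with hη
  have hηN : η ∈ N := h.dl_mem hν x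
  have hηc : η ∈ center G := h.dl_mem_center hν x
  have hηp : η ^ p = 1 := h.hNe _ hηN
  have hμ : ∀ (a : G), a ^ p = 1 → ∀ k : ℕ, a ^ ((1 + j) ^ k) = a := by
    intro a ha k
    have h1 : (p : ℤ) ∣ (1 + j) ^ k - 1 := by
      have h2 : (1 + j) - 1 ∣ (1 + j) ^ k - 1 ^ k := sub_dvd_pow_sub_pow _ _ k
      rw [one_pow] at h2
      exact (by simpa using hpj : (p : ℤ) ∣ 1 + j - 1).trans h2
    obtain ⟨m, hm⟩ := h1
    have h3 : (1 + j) ^ k = 1 + p * m := by linarith
    rw [h3, zpow_add, zpow_one, zpow_mul, zpow_natCast, ha, one_zpow, mul_one]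
  have hw1 : MulAut.conj x⁻¹ w = w ^ (1 + j) * ν := by
    rw [MulAut.conj_apply, inv_inv, conj_eq_mul_dl, hq, zpow_add, zpow_one, mul_assoc,
      (RSet.commC hν (zpow_mem hW.hw j)).eq]
  have hν1 : MulAut.conj x⁻¹ ν = ν * η := by
    rw [MulAut.conj_apply, inv_inv, conj_eq_mul_dl]
  have hη1 : MulAut.conj x⁻¹ η = η := by
    rw [MulAut.conj_apply, inv_inv, mul_assoc, ← (mem_center_iff.1 hηc x), inv_mul_cancel_left]
  have hform : ∀ k : ℕ, (x ^ k)⁻¹ * w * x ^ k = w ^ ((1 + j) ^ k) * ν ^ k * η ^ (k.choose 2) := by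
    intro k
    induction k with
    | zero => simp
    | succ k ih =>
      have h1 : (x ^ (k + 1))⁻¹ * w * x ^ (k + 1) = MulAut.conj x⁻¹ ((x ^ k)⁻¹ * w * x ^ k) := by
        rw [MulAut.conj_apply, pow_succ]; group
      have e2 : (k + 1).choose 2 = k + k.choose 2 := by
        rw [Nat.choose_succ_succ' k 1, Nat.choose_one_right]
      have c1 : Commute (w ^ (1 + j)) ν := (RSet.commC hν (zpow_mem hW.hw _)).symm
      have c2 : Commute ν η := h.comm hν hηN
      rw [h1, ih, map_mul, map_mul, map_zpow, map_pow, map_pow, hw1, hν1, hη1, c1.mul_zpow, hμ ν hνp, c2.mul_pow,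
        e2, pow_succ' ν, pow_add η, ← zpow_mul, ← pow_succ']
      simp only [mul_assoc]
  have h1 := hform p
  rw [hνp, OddP.pow_eq_one_of_dvd hηp (OddP.dvd_choose_two hp h.hp2), mul_one, mul_one] at h1
  have h2 : (x ^ p)⁻¹ * w * x ^ p = w := by
    rw [mul_assoc, (hW.comm h hW.hw (h.pow_mem_C x)).eq, inv_mul_cancel_left]
  rw [h2] at h1
  have h3 : w ^ ((1 + j) ^ p - 1) = 1 := by rw [zpow_sub, ← h1, zpow_one, mul_inv_cancel]
  have h4 := orderOf_dvd_iff_zpow_eq_one.2 h3
  rw [hW.orderOf_w h] at h4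
  have h5 := (H64.dvd_mul_pow_sub_one_iff hp h.hp2 (r := 1 + j) (by simpa using hpj) (l + 2) 1 1).1
    (by rw [pow_one, one_mul]; exact_mod_cast h4)
  rw [one_mul, pow_one, pow_succ', add_sub_cancel_left] at h5
  have h6 : (p : ℤ) ^ (l + 1) ∣ j := (mul_dvd_mul_iff_left hpZ.ne_zero).1 h5
  obtain ⟨m, hm⟩ := h6
  rw [hq]
  refine mul_mem hν ?_
  have h7 : w ^ j = t ^ m := by
    rw [hm, zpow_mul, ht]
    congr 1
    exact_mod_cast zpow_natCast w (p ^ (l + 1))
  rw [h7]
  exact zpow_mem htN m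

/-- the `p`-th power of `x g` -/
theorem mul_pow_form (_hW : RW p G N w l) (h : RSet p G N) {x g : G} (hg : g ∈ centralizer (N : Set G)) (hdg : dl x g ∈ N) :
    (x * g) ^ p = x ^ p * g ^ p * (dl x (dl x g)) ^ (p.choose 3) := by
  have hp : p.Prime := hpf.out
  set δ := dl x g with hδ
  set ε := dl x δ with hε
  have hεN : ε ∈ N := h.dl_mem hdg x
  have hεc : ε ∈ center G := h.dl_mem_center hdg x
  have hg1 : MulAut.conj x⁻¹ g = g * δ := by rw [MulAut.conj_apply, inv_inv, conj_eq_mul_dl]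
  have hδ1 : MulAut.conj x⁻¹ δ = δ * ε := by rw [MulAut.conj_apply, inv_inv, conj_eq_mul_dl]
  have hε1 : MulAut.conj x⁻¹ ε = ε := by
    rw [MulAut.conj_apply, inv_inv, mul_assoc, ← (mem_center_iff.1 hεc x), inv_mul_cancel_left]
  have c1 : Commute g δ := (RSet.commC hdg hg).symm
  have c2 : Commute δ ε := h.comm hdg hεN
  have c3 : Commute g ε := (RSet.commC hεN hg).symm
  have hform : ∀ k : ℕ, (x * g) ^ k = x ^ k * (g ^ k * δ ^ (k.choose 2) * ε ^ (k.choose 3)) := by
    intro k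
    induction k with
    | zero => simp
    | succ k ih =>
      have e2 : (k + 1).choose 2 = k + k.choose 2 := by
        rw [Nat.choose_succ_succ' k 1, Nat.choose_one_right]
      have e3 : (k + 1).choose 3 = k.choose 2 + k.choose 3 := Nat.choose_succ_succ' k 2
      have h1 : (x * g) ^ (k + 1) = x ^ (k + 1) * (MulAut.conj x⁻¹ (g ^ k * δ ^ (k.choose 2) * ε ^ (k.choose 3)) * g) := by
        rw [pow_succ, ih, MulAut.conj_apply, pow_succ]; group
      rw [h1, map_mul, map_mul, map_pow, map_pow, map_pow, hg1, hδ1, hε1, c1.mul_pow, c2.mul_pow, e2, e3,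
        pow_add δ, pow_add ε, pow_succ g]
      congr 1
      have d1 : Commute (δ ^ k * (δ ^ k.choose 2 * ε ^ k.choose 2) * ε ^ k.choose 3) g := by
        refine (((c1.symm.pow_left k).mul_left ((c1.symm.pow_left _).mul_left (c3.symm.pow_left _))).mul_left
          (c3.symm.pow_left _))
      calc g ^ k * δ ^ k * (δ ^ k.choose 2 * ε ^ k.choose 2) * ε ^ k.choose 3 * g
          = g ^ k * ((δ ^ k * (δ ^ k.choose 2 * ε ^ k.choose 2) * ε ^ k.choose 3) * g) := by group
        _ = g ^ k * (g * (δ ^ k * (δ ^ k.choose 2 * ε ^ k.choose 2) * ε ^ k.choose 3)) := by rw [d1.eq]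
        _ = _ := by group
  rw [hform p, OddP.pow_eq_one_of_dvd (h.hNe _ hdg) (OddP.dvd_choose_two hp h.hp2), mul_one, mul_assoc]

theorem closure_top (hW : RW p G N w l) (h : RSet p G N) {H : Subgroup G} {x y w' : G} (hx : x ∉ centralizer (N : Set G))
    (hxH : x ∈ H) (hyN : y ∈ N) (hyH : y ∈ H) (hyc : y ∉ center G) (hw'H : w' ∈ H) (hw' : w⁻¹ * w' ∈ N)
    (hZ : N ⊓ center G ≤ H) : H = ⊤ := by
  have hp : p.Prime := hpf.out
  have hNH : N ≤ H := by
    have h1 : N ⊓ center G < N ⊓ H := by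
      refine lt_of_le_of_ne (le_inf inf_le_left hZ) fun heq => hyc ?_
      have : y ∈ N ⊓ center G := heq ▸ ⟨hyN, hyH⟩
      exact this.2
    have h2 : Nat.card ↥(N ⊓ H) ∣ p ^ 2 := h.hNc ▸ card_dvd_of_le inf_le_left
    obtain ⟨k, hk, hk2⟩ := (Nat.dvd_prime_pow hp).1 h2
    have h3 : Nat.card ↥(N ⊓ center G) < Nat.card ↥(N ⊓ H) := by
      apply lt_of_le_of_ne (card_le_of_le h1.le)
      intro heq
      exact h1.ne (eq_of_le_of_card_ge h1.le heq.ge)
    rw [h.card_Z0, hk2] at h3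
    have h4 : 1 < k := by
      by_contra hcon
      have : p ^ k ≤ p ^ 1 := Nat.pow_le_pow_right hp.pos (by omega)
      rw [pow_one] at this
      omega
    have h5 : k = 2 := by omega
    have h6 : N ⊓ H = N := eq_of_le_of_card_ge inf_le_left (by rw [hk2, h.hNc, h5])
    rw [← h6]; exact inf_le_right
  have hwH : w ∈ H := by
    have h1 : w = w' * (w⁻¹ * w')⁻¹ := by group
    rw [h1]
    exact mul_mem hw'H (inv_mem (hNH hw'))
  rw [eq_top_iff, ← h.sup_eq_top hx, hW.hCw]
  exact sup_le (sup_le hNH (zpowers_le.2 hwH)) (zpowers_le.2 hxH)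

theorem Z0_eq (hW : RW p G N w (l + 1)) (h : RSet p G N) : N ⊓ center G = zpowers (w ^ p ^ (l + 1)) := by
  have hp : p.Prime := hpf.out
  obtain ⟨x, hx⟩ := h.exists_not_mem
  have h1 := hW.t_mem h
  have h2 := (hW.dl_w h hx).1
  have h3 : w ^ p ^ (l + 1) ∈ N ⊓ center G := ⟨h1, h2⟩
  refine (eq_of_le_of_card_ge (zpowers_le.2 h3) ?_).symm
  rw [h.card_Z0, Nat.card_zpowers, orderOf_eq_prime (h.hNe _ h1) (hW.t_ne_one h)]

/-- the three possibilities of Blackburn's theorem other than metacyclic -/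
def Fam (p : ℕ) (G : Type u) [Group G] (n : ℕ) : Prop :=
    (3 ≤ n ∧ ∃ x y z : G, Subgroup.closure ({x, y, z} : Set G) = ⊤ ∧ x ^ p = 1 ∧ y ^ p = 1 ∧ z ^ p ^ (n - 2) = 1 ∧
        x * z = z * x ∧ y * z = z * y ∧ x⁻¹ * y * x = y * z ^ p ^ (n - 3)) ∨
    (4 ≤ n ∧ ∃ (s : ℕ) (x y z : G), (s = 1 ∨ ¬ IsSquare (s : ZMod p)) ∧ Subgroup.closure ({x, y, z} : Set G) = ⊤ ∧
        x ^ p = 1 ∧ y ^ p = 1 ∧ z ^ p ^ (n - 2) = 1 ∧ y * z = z * y ∧ x⁻¹ * y * x = y * z ^ (s * p ^ (n - 3)) ∧
        x⁻¹ * z * x = y * z) ∨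
    (p = 3 ∧ 2 ≤ n ∧ (⊤ : Subgroup G).lowerCentralSeries (n - 2) ≠ ⊥)

theorem not_mem_center_of_dl {x y : G} (hy : dl x y ≠ 1) : y ∉ center G := fun hc =>
  hy (dl_eq_one_iff.2 (mem_center_iff.1 hc x).symm)

/-- some element of order `p` outside `C` -/
theorem fam_of_exists (hW : RW p G N w (l + 1)) (h : RSet p G N) {x : G} (hx : x ∉ centralizer (N : Set G))
    (hxp : x ^ p = 1) : Fam p G (l + 4) := by
  have hp : p.Prime := hpf.out
  obtain ⟨htc, hdw⟩ := hW.dl_w h hx
  set t := w ^ p ^ (l + 1) with ht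
  have htN : t ∈ N := hW.t_mem h
  have ht1 : t ≠ 1 := hW.t_ne_one h
  have htp : t ^ p = 1 := h.hNe _ htN
  have hZ0 := hW.Z0_eq h
  set ν := dl x w with hν
  by_cases hνc : ν ∈ center G
  · -- family 2
    left
    refine ⟨by omega, ?_⟩
    obtain ⟨y₁, hy₁, hdy₁⟩ := h.exists_dl_eq hx (inv_mem hdw) (inv_mem hνc)
    obtain ⟨y, hy, hdy⟩ := h.exists_dl_eq hx htN htc
    have hzC : w * y₁ ∈ centralizer (N : Set G) := mul_mem hW.hw (h.le_C hy₁)
    have hdz : dl x (w * y₁) = 1 := by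
      rw [hW.dl_mul h x hW.hw (h.le_C hy₁), hdy₁, ← hν, mul_inv_cancel]
    have hzt : (w * y₁) ^ p ^ (l + 1) = t := by
      rw [(hW.comm h hW.hw (h.le_C hy₁)).mul_pow]
      have : y₁ ^ p ^ (l + 1) = 1 := by rw [pow_succ', pow_mul, h.hNe _ hy₁, one_pow]
      rw [this, mul_one]
    refine ⟨x, y, w * y₁, ?_, hxp, h.hNe _ hy, ?_, (dl_eq_one_iff.1 hdz).symm, ?_, ?_⟩
    · refine hW.closure_top h hx (subset_closure (by simp)) hy (subset_closure (by simp))
        (not_mem_center_of_dl (x := x) (by rw [hdy]; exact ht1)) (w' := w * y₁) (subset_closure (by simp)) ?_ ?_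
      · rw [inv_mul_cancel_left]; exact hy₁
      · rw [hZ0, zpowers_le, ← ht, ← hzt]
        exact pow_mem (subset_closure (by simp)) _
    · have e : l + 4 - 2 = (l + 1) + 1 := by omega
      rw [e, pow_succ, pow_mul, hzt, htp]
    · exact hW.comm h (h.le_C hy) hzC
    · have e : l + 4 - 3 = l + 1 := by omega
      rw [e, hzt, conj_eq_mul_dl, hdy]
  · -- family 3
    right; left
    refine ⟨by omega, ?_⟩
    set η := dl x ν with hη
    have hηN : η ∈ N := h.dl_mem hdw x
    have hηc : η ∈ center G := h.dl_mem_center hdw x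
    have hηp : η ^ p = 1 := h.hNe _ hηN
    have hη1 : η ≠ 1 := by
      intro h1
      exact hνc (h.mem_center hx (dl_eq_one_iff.1 h1) fun c hc => RSet.commC hdw hc)
    have hηt : η ∈ zpowers t := by rw [← hZ0]; exact ⟨hηN, hηc⟩
    obtain ⟨s₀, hs₀⟩ := (Submonoid.mem_powers_iff _ _).1 (mem_powers_iff_mem_zpowers.2 hηt)
    have hs0 : (s₀ : ZMod p) ≠ 0 := by
      intro h0
      rw [ZMod.natCast_eq_zero_iff] at h0
      apply hη1
      rw [← hs₀]
      exact OddP.pow_eq_one_of_dvd htp h0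
    have e1 : l + 4 - 2 = (l + 1) + 1 := by omega
    have e2 : l + 4 - 3 = l + 1 := by omega
    have hwp : w ^ p ^ (l + 4 - 2) = 1 := by rw [e1, pow_succ, pow_mul, ← ht, htp]
    by_cases hsq : IsSquare (s₀ : ZMod p)
    · obtain ⟨r, hr⟩ := hsq
      have hr0 : r ≠ 0 := by rintro rfl; rw [mul_zero] at hr; exact hs0 hr
      set k := (r⁻¹).val with hk
      have hkr : (k : ZMod p) = r⁻¹ := by rw [hk, ZMod.natCast_val, ZMod.cast_id]
      have hk0 : (k : ZMod p) ≠ 0 := by rw [hkr]; exact inv_ne_zero hr0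
      have hcop : k.Coprime p := by
        rw [Nat.coprime_comm, hp.coprime_iff_not_dvd]
        intro hd
        exact hk0 ((ZMod.natCast_eq_zero_iff _ _).2 hd)
      have hs0k : s₀ * (k * k) ≡ 1 [MOD p] := by
        rw [← ZMod.natCast_eq_natCast_iff]
        push_cast
        rw [hkr, hr]
        field_simp
      have hxk : x ^ k ∉ centralizer (N : Set G) := by
        intro hcon
        apply hx
        obtain ⟨m, hm⟩ := exists_pow_eq_self_of_coprime (show k.Coprime (orderOf x) from by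
          have : orderOf x ∣ p := orderOf_dvd_of_pow_eq_one hxp
          exact hcop.coprime_dvd_right this)
        rw [← hm]
        exact pow_mem hcon m
      -- conjugation formulas
      have hw1 : MulAut.conj x⁻¹ w = w * ν := by rw [MulAut.conj_apply, inv_inv, conj_eq_mul_dl]
      have hν1 : MulAut.conj x⁻¹ ν = ν * η := by rw [MulAut.conj_apply, inv_inv, conj_eq_mul_dl]
      have hη2 : MulAut.conj x⁻¹ η = η := by
        rw [MulAut.conj_apply, inv_inv, mul_assoc, ← (mem_center_iff.1 hηc x), inv_mul_cancel_left]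
      have cνη : Commute ν η := h.comm hdw hηN
      have hstep : ∀ (m : ℕ) (a : G), (x ^ (m + 1))⁻¹ * a * x ^ (m + 1) = MulAut.conj x⁻¹ ((x ^ m)⁻¹ * a * x ^ m) := by
        intro m a
        rw [MulAut.conj_apply, pow_succ]; group
      have hfw : ∀ m : ℕ, (x ^ m)⁻¹ * w * x ^ m = w * (ν ^ m * η ^ (m.choose 2)) := by
        intro m
        induction m with
        | zero => simp
        | succ m ih =>
          have e2 : (m + 1).choose 2 = m + m.choose 2 := by
            rw [Nat.choose_succ_succ' m 1, Nat.choose_one_right]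
          rw [hstep, ih, map_mul, map_mul, map_pow, map_pow, hw1, hν1, hη2, cνη.mul_pow, e2, pow_succ' ν, pow_add η]
          simp only [mul_assoc]
      have hfν : ∀ m : ℕ, (x ^ m)⁻¹ * ν * x ^ m = ν * η ^ m := by
        intro m
        induction m with
        | zero => simp
        | succ m ih =>
          rw [hstep, ih, map_mul, map_pow, hν1, hη2, pow_succ' η]
          simp only [mul_assoc]
      have hdwk : dl (x ^ k) w = ν ^ k * η ^ (k.choose 2) := by rw [dl, hfw, inv_mul_cancel_left]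
      have hyN : dl (x ^ k) w ∈ N := (hW.dl_w h hxk).2
      have hdν : dl (x ^ k) ν = η ^ k := by rw [dl, hfν, inv_mul_cancel_left]
      have hdη : dl (x ^ k) η = 1 := dl_eq_one_iff.2 (mem_center_iff.1 hηc _).symm
      have hηC := h.le_C hηN
      have hνC := h.le_C hdw
      have hdy : dl (x ^ k) (dl (x ^ k) w) = t := by
        rw [hdwk, hW.dl_mul h _ (pow_mem hνC k) (pow_mem hηC _), hW.dl_pow h _ hνC, hW.dl_pow h _ hηC, hdν, hdη,
          one_pow, mul_one, ← pow_mul, ← hs₀, ← pow_mul]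
        have h1 : orderOf t = p := orderOf_eq_prime htp ht1
        conv_rhs => rw [← pow_one t]
        rw [pow_eq_pow_iff_modEq, h1]
        exact hs0k
      refine ⟨1, x ^ k, dl (x ^ k) w, w, Or.inl rfl, ?_, ?_, h.hNe _ hyN, hwp, hW.comm h (h.le_C hyN) hW.hw, ?_, ?_⟩
      · refine hW.closure_top h hxk (subset_closure (by simp)) hyN (subset_closure (by simp))
          (not_mem_center_of_dl (x := x ^ k) (by rw [hdy]; exact ht1)) (w' := w) (subset_closure (by simp)) ?_ ?_
        · rw [inv_mul_cancel]; exact one_mem _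
        · rw [hZ0, zpowers_le]
          exact pow_mem (subset_closure (by simp)) _
      · rw [← pow_mul, mul_comm, pow_mul, hxp, one_pow]
      · rw [e2, one_mul, ← ht, conj_eq_mul_dl, hdy]
      · rw [conj_eq_mul_dl, (hW.comm h hW.hw (h.le_C hyN)).eq]
    · refine ⟨s₀, x, ν, w, Or.inr hsq, ?_, hxp, h.hNe _ hdw, hwp, hW.comm h (h.le_C hdw) hW.hw, ?_, ?_⟩
      · refine hW.closure_top h hx (subset_closure (by simp)) hdw (subset_closure (by simp)) hνc (w' := w)
          (subset_closure (by simp)) ?_ ?_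
        · rw [inv_mul_cancel]; exact one_mem _
        · rw [hZ0, zpowers_le]
          exact pow_mem (subset_closure (by simp)) _
      · rw [e2, mul_comm s₀, pow_mul, ← ht, hs₀, conj_eq_mul_dl]
      · rw [conj_eq_mul_dl, (hW.comm h hW.hw (h.le_C hdw)).eq]

/-- no element of order `p` outside `C` -/
theorem fam_of_not_exists (hW : RW p G N w (l + 1)) (h : RSet p G N)
    (hno : ∀ x : G, x ∉ centralizer (N : Set G) → x ^ p ≠ 1) : Cfsg.IsMetacyclic G ∨ Fam p G (l + 4) := by
  have hp : p.Prime := hpf.out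
  obtain ⟨x, hx⟩ := h.exists_not_mem
  by_cases hxC : x ^ p ∈ RSet.Cp p N
  swap
  · exact Or.inl (h.metacyclic_of_pow hxC)
  right; right; right
  obtain ⟨htc, hdw⟩ := hW.dl_w h hx
  set t := w ^ p ^ (l + 1) with ht
  have htN : t ∈ N := hW.t_mem h
  have hZ0 := hW.Z0_eq h
  have hCp : RSet.Cp p N ≤ zpowers (w ^ p) := by
    rw [RSet.Cp, closure_le]
    rintro _ ⟨c, hc, rfl⟩
    obtain ⟨μ, hμ, k, rfl⟩ := hW.gen h hc
    refine mem_zpowers_iff.2 ⟨k, ?_⟩
    rw [(RSet.commC hμ (zpow_mem hW.hw k)).mul_pow, h.hNe _ hμ, one_mul, ← zpow_natCast, ← zpow_natCast,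
      ← zpow_mul, ← zpow_mul, mul_comm]
  obtain ⟨a, ha⟩ := mem_zpowers_iff.1 (hCp hxC)
  set g := w ^ (-a) with hg
  have hgC : g ∈ centralizer (N : Set G) := zpow_mem hW.hw _
  have hdg : dl x g = (dl x w) ^ (-a) := hW.dl_zpow h x hW.hw _
  have hdgN : dl x g ∈ N := by rw [hdg]; exact zpow_mem hdw _
  have hxg : x ^ p * g ^ p = 1 := by
    rw [← ha, hg, ← zpow_natCast, ← zpow_natCast, ← zpow_mul, ← zpow_mul, ← zpow_add]
    have : (p : ℤ) * a + -a * p = 0 := by ring
    rw [this, zpow_zero]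
  have hnotC : ∀ c ∈ centralizer (N : Set G), x * c ∉ centralizer (N : Set G) := fun c hc hcon =>
    hx (by have := mul_mem hcon (inv_mem hc); rwa [mul_inv_cancel_right] at this)
  set ε := dl x (dl x g) with hε
  have hεN : ε ∈ N := h.dl_mem hdgN x
  have hεc : ε ∈ center G := h.dl_mem_center hdgN x
  have h1 : ε ^ (p.choose 3) ≠ 1 := by
    intro h2
    apply hno (x * g) (hnotC g hgC)
    rw [hW.mul_pow_form h hgC hdgN, hxg, one_mul, h2]
  have hp3 : p = 3 := by
    by_contra hcon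
    apply h1
    have : 3 < p := by
      have h2 := hp.two_le
      have h3 := h.hp2
      omega
    exact OddP.pow_eq_one_of_dvd (h.hNe _ hεN) (OddP.dvd_choose_three hp this)
  subst hp3
  refine ⟨rfl, by omega, ?_⟩
  have hε1 : ε ≠ 1 := by
    intro h2; apply h1; rw [h2, one_pow]
  rcases Nat.eq_zero_or_pos l with rfl | hl
  · -- order 81
    intro hb
    apply hε1
    have h2 : ε ∈ (⊤ : Subgroup G).lowerCentralSeries 2 := by
      rw [hε, dl_eq_comm x (dl x g)]
      apply commutator_mem_commutator _ (mem_top _)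
      apply inv_mem
      rw [top_lowerCentralSeries_one, dl_eq_comm]
      exact commutator_mem_commutator (mem_top _) (mem_top _)
    have e : 0 + 4 - 2 = 2 := rfl
    rw [e] at hb
    rw [hb, mem_bot] at h2
    exact h2
  · exfalso
    have hεt : ε ∈ zpowers t := by rw [← hZ0]; exact ⟨hεN, hεc⟩
    obtain ⟨b, hb⟩ := mem_zpowers_iff.1 hεt
    set h' := (w ^ 3 ^ l) ^ (-b) with hh'
    have hh'C : h' ∈ centralizer (N : Set G) := zpow_mem (pow_mem hW.hw _) _
    have hdh' : dl x h' = 1 := by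
      rw [hh', hW.dl_zpow h x (pow_mem hW.hw _), hW.dl_pow h x hW.hw]
      obtain ⟨l', rfl⟩ : ∃ l', l = l' + 1 := ⟨l - 1, by omega⟩
      rw [pow_succ' 3 l', pow_mul, h.hNe _ hdw, one_pow, one_zpow]
    have hh'3 : h' ^ 3 = ε⁻¹ := by
      rw [← hb, hh', ht, ← zpow_natCast, ← zpow_natCast, ← zpow_natCast, ← zpow_mul, ← zpow_mul, ← zpow_mul, ← zpow_neg]
      congr 1
      push_cast
      ring
    have hghC : g * h' ∈ centralizer (N : Set G) := mul_mem hgC hh'C
    have hdgh : dl x (g * h') = dl x g := by rw [hW.dl_mul h x hgC hh'C, hdh', mul_one]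
    apply hno (x * (g * h')) (hnotC _ hghC)
    rw [hW.mul_pow_form h hghC (by rw [hdgh]; exact hdgN), hdgh, ← hε, (hW.comm h hgC hh'C).mul_pow, ← mul_assoc,
      hxg, one_mul, hh'3, Nat.choose_self, pow_one, inv_mul_cancel]

/-- the case `l = 0` -/
theorem fam_zero (hW : RW p G N w 0) (h : RSet p G N) : Cfsg.IsMetacyclic G ∨ Fam p G 3 := by
  have hp : p.Prime := hpf.out
  have hCN : N = centralizer (N : Set G) := eq_of_le_of_card_ge h.le_C (by rw [hW.hl, h.hNc])
  by_cases hno : ∃ x : G, x ∉ centralizer (N : Set G) ∧ x ^ p = 1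
  · right; left
    obtain ⟨x, hx, hxp⟩ := hno
    refine ⟨le_rfl, ?_⟩
    have hne : N ⊓ center G ≠ ⊥ := by
      intro hb
      have := h.card_Z0
      rw [hb, card_bot] at this
      exact hp.one_lt.ne this
    obtain ⟨z, hz, hz1⟩ := (N ⊓ center G).bot_or_exists_ne_one.resolve_left hne
    obtain ⟨y, hy, hyz⟩ := h.exists_dl_eq hx hz.1 hz.2
    have hzp := h.hNe z hz.1
    refine ⟨x, y, z, ?_, hxp, h.hNe _ hy, ?_, (mem_center_iff.1 hz.2 x), (mem_center_iff.1 hz.2 y), ?_⟩
    · refine hW.closure_top h hx (subset_closure (by simp)) hy (subset_closure (by simp))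
        (not_mem_center_of_dl (x := x) (by rw [hyz]; exact hz1)) (w' := z) (subset_closure (by simp)) ?_ ?_
      · exact mul_mem (inv_mem (hCN ▸ hW.hw)) hz.1
      · have h1 : N ⊓ center G = zpowers z := by
          refine (eq_of_le_of_card_ge (zpowers_le.2 hz) ?_).symm
          rw [h.card_Z0, Nat.card_zpowers, orderOf_eq_prime hzp hz1]
        rw [h1, zpowers_le]
        exact subset_closure (by simp)
    · simpa using hzp
    · simp only [Nat.sub_self, pow_zero, pow_one]
      rw [conj_eq_mul_dl, hyz]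
  · left
    push Not at hno
    obtain ⟨x, hx⟩ := h.exists_not_mem
    apply h.metacyclic_of_pow (g := x)
    have h1 : RSet.Cp p N = ⊥ := by
      rw [RSet.Cp, closure_eq_bot_iff]
      rintro _ ⟨y, hy, rfl⟩
      exact h.hNe y (hCN ▸ hy)
    rw [h1, mem_bot]
    exact hno x hx

end RW

end Cfsg.Agent.H65
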