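import Cfsg.Agent.H92.RtRR

/-!
# Rotation data (piece R of S2755)
-/

set_option autoImplicit false

namespace Cfsg.Agent.H65.RtR

open Cfsg.Agent.H92.Rt

section KDsec

variable {K : Type*} [Group K] {q m : ℕ} {U A : Subgroup K} {k s r : K}

theorem a_pow (D : KD q m U A k s r) {a : K} (ha : a ∈ A) : a ^ m = 1 := by
  have h : (⟨a, ha⟩ : A) ^ Nat.card A = 1 := pow_card_eq_one'
  rw [D.cardA] at h
  exact congrArg Subtype.val h

theorem odd_sq {M : Type*} [Group M] {m : ℕ} (hm : Odd m) {x : M} (h1 : x ^ m = 1) (h : x * x = 1) : x = 1 := by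
  obtain ⟨n, hn⟩ := hm
  rw [hn, pow_succ, pow_mul, pow_two, h, one_pow, one_mul] at h1
  exact h1

theorem sq_one (D : KD q m U A k s r) {a : K} (ha : a ∈ A) (h : a * a = 1) : a = 1 :=
  odd_sq D.modd (a_pow D ha) h

theorem acomm (D : KD q m U A k s r) {a b : K} (ha : a ∈ A) (hb : b ∈ A) : a * b = b * a := by
  obtain ⟨g, hg⟩ := D.Acyc
  obtain ⟨i, hi⟩ := Subgroup.mem_zpowers_iff.mp (hg ⟨a, ha⟩)
  obtain ⟨j, hj⟩ := Subgroup.mem_zpowers_iff.mp (hg ⟨b, hb⟩)
  have h1 : (⟨a, ha⟩ : A) * ⟨b, hb⟩ = ⟨b, hb⟩ * ⟨a, ha⟩ := by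
    rw [← hi, ← hj, ← zpow_add, ← zpow_add, add_comm]
  exact congrArg Subtype.val h1

theorem mem_ck [Finite K] (D : KD q m U A k s r) {y : K} (hy : y * k = k * y) :
    ∃ a ∈ A, y = a ∨ y = k * a ∨ y = a * s ∨ y = k * a * s := by
  classical
  let f : A × Bool × Bool → Subgroup.centralizer ({k} : Set K) := fun x =>
    ⟨(if x.2.1 then k else 1) * x.1 * (if x.2.2 then s else 1), by
      rw [Subgroup.mem_centralizer_singleton_iff]
      have h1 : (x.1 : K) * k = k * x.1 := D.Ak _ x.1.2
      have h2 := D.sck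
      rcases x with ⟨a, i, j⟩
      cases i <;> cases j <;> simp only [Bool.false_eq_true, if_true, if_false, one_mul, mul_one]
      · exact h1
      · simp only at h1
        rw [mul_assoc, h2, ← mul_assoc, h1, mul_assoc]
      · simp only at h1
        rw [mul_assoc, h1]
      · simp only at h1
        rw [mul_assoc, h2, ← mul_assoc, mul_assoc k, h1]
        simp only [mul_assoc]⟩
  have hinj : Function.Injective f := by
    rintro ⟨⟨a, ha⟩, i, j⟩ ⟨⟨a', ha'⟩, i', j'⟩ h
    have h0 : (if i then k else 1) * a * (if j then s else 1) = (if i' then k else 1) * a' * (if j' then s else 1) :=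
      congrArg Subtype.val h
    have hkk := D.k2
    have hss := D.s2
    have hsk := D.sck
    have hak := D.Ak a ha
    have hak' := D.Ak a' ha'
    -- `a'⁻¹ * a ∈ {1, k, s, k * s}`
    have hb : a'⁻¹ * a ∈ A := mul_mem (inv_mem ha') ha
    have key : a'⁻¹ * a = (if i then k else 1) * (if i' then k else 1) * ((if j' then s else 1) * (if j then s else 1)) := by
      have e1 : a = (if i then k else 1) * ((if i' then k else 1) * a' * (if j' then s else 1)) * (if j then s else 1) := by
        rw [← h0]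
        cases i <;> cases j <;> simp [mul_assoc, hss]
        · rw [← mul_assoc, hkk, one_mul]
        · rw [← mul_assoc, hkk, one_mul]
      have hki : (if i then k else 1) * ((if i' then k else 1) * a') = a' * ((if i then k else 1) * (if i' then k else 1)) := by
        cases i <;> cases i' <;> simp [hak']
        rw [← mul_assoc, hkk, one_mul, mul_one]
      calc a'⁻¹ * a = a'⁻¹ * ((if i then k else 1) * ((if i' then k else 1) * a' * (if j' then s else 1)) *
            (if j then s else 1)) := by rw [← e1]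
        _ = a'⁻¹ * ((if i then k else 1) * ((if i' then k else 1) * a')) * ((if j' then s else 1) *
            (if j then s else 1)) := by simp only [mul_assoc]
        _ = _ := by rw [hki]; simp only [mul_assoc, inv_mul_cancel_left]
    have hsq : (a'⁻¹ * a) * (a'⁻¹ * a) = 1 := by
      rw [key]
      have hks : k * s * (k * s) = 1 := by
        rw [mul_assoc, ← mul_assoc s, hsk, mul_assoc, hss, mul_one, hkk]
      cases i <;> cases i' <;> cases j <;> cases j' <;> simp [hkk, hss, hks]
    have hone := sq_one D hb hsq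
    have haa : a = a' := by
      have : a = a' * (a'⁻¹ * a) := by group
      rw [this, hone, mul_one]
    rw [hone] at key
    have hk1 := D.k1
    have hs1 := D.s1
    have hskne := D.sk
    have hksne : k * s ≠ 1 := by
      intro h
      apply hskne
      have : k * (k * s) = k := by rw [h, mul_one]
      rw [← mul_assoc, hkk, one_mul] at this
      exact this
    subst haa
    have hij : i = i' ∧ j = j' := by
      cases i <;> cases i' <;> cases j <;> cases j' <;>
        first
        | exact ⟨rfl, rfl⟩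
        | (exfalso; simp [hkk, hss] at key; first
            | exact hk1 key.symm | exact hs1 key.symm | exact hksne key.symm
            )
    rw [hij.1, hij.2]
  have hbij : Function.Bijective f := by
    refine hinj.bijective_of_nat_card_le ?_
    rw [D.cardCk, Nat.card_prod, Nat.card_prod, D.cardA]
    simp [Nat.card_eq_fintype_card]
    omega
  obtain ⟨⟨⟨a, ha⟩, i, j⟩, hx⟩ := hbij.2 ⟨y, by rw [Subgroup.mem_centralizer_singleton_iff]; exact hy⟩
  have hx' : (if i then k else 1) * a * (if j then s else 1) = y := congrArg Subtype.val hx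
  refine ⟨a, ha, ?_⟩
  rw [← hx']
  cases i <;> cases j <;> simp

end KDsec

/-- [R] -/
theorem rr_of_rd {G : Type*} [Group G] [Finite G] {t : G} {K : Subgroup G} {q m : ℕ} {U A : Subgroup K} {k s r : K}
    (D : RD t K q m U A k s r) : ∃ ρ u : G, RR t K q m U A k s r ρ u := by
  have kd := D.kd
  have tc : ∀ y : K, (y : G) * t = t * y := fun y => (D.cent y).mpr ⟨y, Or.inl rfl⟩
  have kG1 : (k : G) ≠ 1 := fun h => kd.k1 (Subtype.ext h)
  have kG2 : (k : G) * k = 1 := by exact_mod_cast congrArg Subtype.val kd.k2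
  have sG2 : (s : G) * s = 1 := by exact_mod_cast congrArg Subtype.val kd.s2
  have skc : (s : G) * k = k * s := congrArg Subtype.val kd.sck
  have tt := D.t2
  obtain ⟨g₀, hg₀⟩ := D.inv k kG1 kG2
  -- adjust `g₀`
  have hadj : ∃ g : G, g * k * g⁻¹ = t ∧ (g * s * g⁻¹ = k ∨ g * s * g⁻¹ = t * k) := by
    have hc : (g₀ * s * g₀⁻¹) * t = t * (g₀ * s * g₀⁻¹) := by
      rw [← hg₀]
      calc g₀ * s * g₀⁻¹ * (g₀ * k * g₀⁻¹) = g₀ * (s * k) * g₀⁻¹ := by group
        _ = g₀ * (k * s) * g₀⁻¹ := by rw [skc]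
        _ = _ := by group
    have hsq : (g₀ * s * g₀⁻¹) * (g₀ * s * g₀⁻¹) = 1 := by
      calc g₀ * s * g₀⁻¹ * (g₀ * s * g₀⁻¹) = g₀ * (s * s) * g₀⁻¹ := by group
        _ = 1 := by rw [sG2]; group
    have hne1 : g₀ * s * g₀⁻¹ ≠ 1 := by
      intro h
      apply kd.s1
      apply Subtype.ext
      have : (s : G) = g₀⁻¹ * (g₀ * s * g₀⁻¹) * g₀ := by group
      rw [this, h]; simp
    have hnet : g₀ * s * g₀⁻¹ ≠ t := by
      intro h
      apply kd.sk
      apply Subtype.ext
      have : (s : G) = g₀⁻¹ * (g₀ * s * g₀⁻¹) * g₀ := by group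
      rw [this, h, ← hg₀]; group
    obtain ⟨y, hy | hy⟩ := (D.cent _).mp hc
    · have hy1 : y ≠ 1 := by
        rintro rfl
        exact hne1 (by rw [hy]; rfl)
      have hy2 : y * y = 1 := by
        apply Subtype.ext
        have := hsq
        rw [hy] at this
        exact this
      obtain ⟨h, hh⟩ := kd.kconj y hy1 hy2
      have hh' : (h : G) * y * (h : G)⁻¹ = k := congrArg Subtype.val hh
      refine ⟨h * g₀, ?_, Or.inl ?_⟩
      · calc (h : G) * g₀ * k * (h * g₀)⁻¹ = h * (g₀ * k * g₀⁻¹) * (h : G)⁻¹ := by group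
          _ = h * t * (h : G)⁻¹ := by rw [hg₀]
          _ = t := by rw [tc h]; group
      · calc (h : G) * g₀ * s * (h * g₀)⁻¹ = h * (g₀ * s * g₀⁻¹) * (h : G)⁻¹ := by group
          _ = h * y * (h : G)⁻¹ := by rw [hy]
          _ = k := hh'
    · have hy1 : y ≠ 1 := by
        rintro rfl
        exact hnet (by rw [hy]; simp)
      have hy2 : y * y = 1 := by
        apply Subtype.ext
        have := hsq
        rw [hy] at this
        have h2 : t * (y : G) * (t * y) = y * y := by
          calc t * (y : G) * (t * y) = t * ((y : G) * t) * y := by group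
            _ = t * (t * y) * y := by rw [tc y]
            _ = (t * t) * y * y := by group
            _ = _ := by rw [tt, one_mul]
        rw [h2] at this
        exact this
      obtain ⟨h, hh⟩ := kd.kconj y hy1 hy2
      have hh' : (h : G) * y * (h : G)⁻¹ = k := congrArg Subtype.val hh
      refine ⟨h * g₀, ?_, Or.inr ?_⟩
      · calc (h : G) * g₀ * k * (h * g₀)⁻¹ = h * (g₀ * k * g₀⁻¹) * (h : G)⁻¹ := by group
          _ = h * t * (h : G)⁻¹ := by rw [hg₀]
          _ = t := by rw [tc h]; group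
      · calc (h : G) * g₀ * s * (h * g₀)⁻¹ = h * (g₀ * s * g₀⁻¹) * (h : G)⁻¹ := by group
          _ = h * (t * y) * (h : G)⁻¹ := by rw [hy]
          _ = (h * t) * y * (h : G)⁻¹ := by group
          _ = t * (h * y * (h : G)⁻¹) := by rw [tc h]; group
          _ = t * k := by rw [hh']
  obtain ⟨g, hgk, hgs⟩ := hadj
  -- conjugation by `g` as computations
  have hr3 : (r : G) ^ 3 = 1 := by exact_mod_cast congrArg Subtype.val kd.r3
  have hrk : (r : G) * k * (r : G)⁻¹ = s := congrArg Subtype.val kd.rk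
  have hrs : (r : G) * s * (r : G)⁻¹ = k * s := congrArg Subtype.val kd.rs
  have e1 : (g * r * g⁻¹) * t * (g * r * g⁻¹)⁻¹ = g * s * g⁻¹ := by
    rw [← hgk, ← hrk]; group
  have e2 : (g * r * g⁻¹) * (g * s * g⁻¹) * (g * r * g⁻¹)⁻¹ = t * (g * s * g⁻¹) := by
    calc (g * r * g⁻¹) * (g * s * g⁻¹) * (g * r * g⁻¹)⁻¹ = g * (r * s * (r : G)⁻¹) * g⁻¹ := by group
      _ = g * (k * s) * g⁻¹ := by rw [hrs]
      _ = (g * k * g⁻¹) * (g * s * g⁻¹) := by group
      _ = _ := by rw [hgk]
  have hut : (g * t * g⁻¹) * t = t * (g * t * g⁻¹) := by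
    rw [← hgk]
    calc g * (g * k * g⁻¹) * g⁻¹ * (g * k * g⁻¹) = g * ((g * k * g⁻¹) * k) * g⁻¹ := by group
      _ = g * (k * (g * k * g⁻¹)) * g⁻¹ := by rw [hgk, ← tc k]
      _ = _ := by group
  have hus : (g * t * g⁻¹) * (g * s * g⁻¹) = (g * s * g⁻¹) * (g * t * g⁻¹) := by
    calc (g * t * g⁻¹) * (g * s * g⁻¹) = g * (t * s) * g⁻¹ := by group
      _ = g * (s * t) * g⁻¹ := by rw [← tc s]
      _ = _ := by group
  have huk : (g * t * g⁻¹) * k = k * (g * t * g⁻¹) := by
    rcases hgs with h | h
    · rw [← h]; exact hus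
    · have hk : (k : G) = t * (g * s * g⁻¹) := by rw [h, ← mul_assoc, tt, one_mul]
      rw [hk]
      calc (g * t * g⁻¹) * (t * (g * s * g⁻¹)) = ((g * t * g⁻¹) * t) * (g * s * g⁻¹) := by group
        _ = t * ((g * t * g⁻¹) * (g * s * g⁻¹)) := by rw [hut]; group
        _ = t * ((g * s * g⁻¹) * (g * t * g⁻¹)) := by rw [hus]
        _ = _ := by group
  have hu1 : g * t * g⁻¹ ≠ 1 := by
    intro h
    apply D.t1
    have : t = g⁻¹ * (g * t * g⁻¹) * g := by group
    rw [this, h]; simp
  have hu2 : (g * t * g⁻¹) * (g * t * g⁻¹) = 1 := by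
    calc (g * t * g⁻¹) * (g * t * g⁻¹) = g * (t * t) * g⁻¹ := by group
      _ = 1 := by rw [tt]; group
  have hback : ∀ y : K, g * t * g⁻¹ ≠ g * (y : G) * g⁻¹ := by
    intro y h
    apply D.tK
    have : t = g⁻¹ * (g * t * g⁻¹) * g := by group
    rw [this, h]
    have h2 : g⁻¹ * (g * (y : G) * g⁻¹) * g = y := by group
    rw [h2]; exact y.2
  have huV : g * t * g⁻¹ ≠ t ∧ g * t * g⁻¹ ≠ (k : G) ∧ g * t * g⁻¹ ≠ t * (k : G) := by
    have h1 : g * t * g⁻¹ ≠ t := by
      have := hback k
      rwa [hgk] at this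
    have h2 := hback s
    have h3 : g * t * g⁻¹ ≠ t * (g * s * g⁻¹) := by
      have := hback (k * s)
      have e : g * ((k * s : K) : G) * g⁻¹ = t * (g * s * g⁻¹) := by
        rw [Subgroup.coe_mul]
        calc g * (k * s) * g⁻¹ = (g * k * g⁻¹) * (g * s * g⁻¹) := by group
          _ = _ := by rw [hgk]
      rwa [e] at this
    rcases hgs with h | h
    · rw [h] at h2 h3
      exact ⟨h1, h2, h3⟩
    · rw [h] at h2 h3
      rw [← mul_assoc, tt, one_mul] at h3
      exact ⟨h1, h3, h2⟩
  -- the decomposition of `C(t) ∩ C(k)`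
  have dec : ∀ x : G, x * t = t * x → x * k = k * x →
      ∃ a ∈ A, ∃ z : G, (z = 1 ∨ z = t) ∧ (x = z * (a : G) ∨ x = z * (k * a) ∨ x = z * (a * s) ∨ x = z * (k * a * s)) := by
    intro x hxt hxk
    obtain ⟨y, hy⟩ := (D.cent x).mp hxt
    have hyk : y * k = k * y := by
      apply Subtype.ext
      change (y : G) * k = k * y
      rcases hy with hy | hy
      · rw [← hy]; exact hxk
      · rw [hy] at hxk
        have h1 : t * ((y : G) * k) = t * (k * y) := by
          calc t * ((y : G) * k) = t * y * k := by group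
            _ = k * (t * y) := hxk
            _ = (k * t) * y := by group
            _ = t * (k * y) := by rw [tc k]; group
        exact mul_left_cancel h1
    obtain ⟨a, ha, hya⟩ := mem_ck kd hyk
    rcases hy with hy | hy
    · refine ⟨a, ha, 1, Or.inl rfl, ?_⟩
      rcases hya with rfl | rfl | rfl | rfl
      · left; rw [hy, one_mul]
      · right; left; rw [hy, one_mul]; rfl
      · right; right; left; rw [hy, one_mul]; rfl
      · right; right; right; rw [hy, one_mul]; rfl
    · refine ⟨a, ha, t, Or.inr rfl, ?_⟩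
      rcases hya with rfl | rfl | rfl | rfl
      · left; exact hy
      · right; left; rw [hy]; rfl
      · right; right; left; rw [hy]; rfl
      · right; right; right; rw [hy]; rfl
  have hz : ∀ z : G, (z = 1 ∨ z = t) → (∀ y : K, z * y = y * z) ∧ z * z = 1 := by
    rintro z (rfl | rfl)
    · exact ⟨fun y => by simp, by simp⟩
    · exact ⟨fun y => (tc y).symm, tt⟩
  -- helper computations for elements of `A`
  have hAk : ∀ a ∈ A, (a : G) * k = k * a := fun a ha => congrArg Subtype.val (kd.Ak a ha)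
  have hsA : ∀ a ∈ A, (s : G) * a * (s : G)⁻¹ = (a : G)⁻¹ := fun a ha => congrArg Subtype.val (kd.sA a ha)
  have hsA' : ∀ a ∈ A, (s : G) * a = (a : G)⁻¹ * s := by
    intro a ha
    rw [← hsA a ha]; group
  have hAA : ∀ a ∈ A, ∀ b ∈ A, (a : G) * b = b * a := fun a ha b hb => congrArg Subtype.val (acomm kd ha hb)
  have hsinv : (s : G)⁻¹ = s := inv_eq_of_mul_eq_one_right sG2
  have hkinv : (k : G)⁻¹ = k := inv_eq_of_mul_eq_one_right kG2
  refine ⟨g * r * g⁻¹, g * t * g⁻¹, ⟨D, ?_, ?_, ?_, hut, huk, ?_, hu1, hu2, huV, ?_, ?_⟩⟩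
  · rw [conj_pow, hr3]; group
  · rw [e1]; exact hgs
  · rw [e1]; exact e2
  · calc (g * t * g⁻¹) * (g * r * g⁻¹) = g * (t * r) * g⁻¹ := by group
      _ = g * (r * t) * g⁻¹ := by rw [← tc r]
      _ = _ := by group
  · -- `u` inverts `A`
    intro b hb
    obtain ⟨a, ha, z, hz1, hx⟩ := dec _ hut huk
    obtain ⟨hzc, hzz⟩ := hz z hz1
    have hsq : (g * t * g⁻¹) * (g * t * g⁻¹) = 1 := hu2
    have hzinv : z⁻¹ = z := inv_eq_of_mul_eq_one_right hzz
    rcases hx with hx | hx | hx | hx
    · exfalso
      rw [hx] at hsq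
      have h1 : (a : G) * a = 1 := by
        calc (a : G) * a = (z * z) * a * a := by rw [hzz, one_mul]
          _ = z * (z * a) * a := by group
          _ = z * (a * z) * a := by rw [hzc]
          _ = z * a * (z * a) := by group
          _ = 1 := hsq
      have h2 : a = 1 := sq_one kd ha (Subtype.ext h1)
      rw [h2] at hx
      rcases hz1 with rfl | rfl
      · exact hu1 (by rw [hx]; simp)
      · exact huV.1 (by rw [hx]; simp)
    · exfalso
      rw [hx] at hsq
      have h1 : (a : G) * a = 1 := by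
        calc (a : G) * a = (z * z) * (k * k) * a * a := by rw [hzz, kG2, one_mul, one_mul]
          _ = z * (z * (k * (k * a))) * a := by group
          _ = z * (z * (k * (a * k))) * a := by rw [hAk a ha]
          _ = z * (z * ((k * a : K) : G)) * (k * a) := by rw [Subgroup.coe_mul]; group
          _ = z * (((k * a : K) : G) * z) * (k * a) := by rw [hzc]
          _ = z * (k * a) * (z * (k * a)) := by rw [Subgroup.coe_mul]; group
          _ = 1 := hsq
      have h2 : a = 1 := sq_one kd ha (Subtype.ext h1)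
      rw [h2] at hx
      rcases hz1 with rfl | rfl
      · exact huV.2.1 (by rw [hx]; simp)
      · exact huV.2.2 (by rw [hx]; simp)
    · rw [hx]
      calc z * (a * s) * b * (z * (a * s))⁻¹ = z * (a * (s * b * (s : G)⁻¹) * (a : G)⁻¹) * z⁻¹ := by group
        _ = z * (a * (b : G)⁻¹ * (a : G)⁻¹) * z⁻¹ := by rw [hsA b hb]
        _ = z * (b : G)⁻¹ * z⁻¹ := by
            have : (a : G) * (b : G)⁻¹ * (a : G)⁻¹ = (b : G)⁻¹ := by
              have := hAA a ha b⁻¹ (inv_mem hb)
              rw [Subgroup.coe_inv] at this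
              rw [this]; group
            rw [this]
        _ = (b : G)⁻¹ := by
            have := hzc b⁻¹
            rw [Subgroup.coe_inv] at this
            rw [this]; group
    · rw [hx]
      calc z * (k * a * s) * b * (z * (k * a * s))⁻¹
          = z * (k * (a * (s * b * (s : G)⁻¹) * (a : G)⁻¹) * (k : G)⁻¹) * z⁻¹ := by group
        _ = z * (k * (a * (b : G)⁻¹ * (a : G)⁻¹) * (k : G)⁻¹) * z⁻¹ := by rw [hsA b hb]
        _ = z * (k * (b : G)⁻¹ * (k : G)⁻¹) * z⁻¹ := by
            have : (a : G) * (b : G)⁻¹ * (a : G)⁻¹ = (b : G)⁻¹ := by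
              have := hAA a ha b⁻¹ (inv_mem hb)
              rw [Subgroup.coe_inv] at this
              rw [this]; group
            rw [this]
        _ = z * (b : G)⁻¹ * z⁻¹ := by
            have : (k : G) * (b : G)⁻¹ * (k : G)⁻¹ = (b : G)⁻¹ := by
              have := hAk b⁻¹ (inv_mem hb)
              rw [Subgroup.coe_inv] at this
              rw [← this]; group
            rw [this]
        _ = (b : G)⁻¹ := by
            have := hzc b⁻¹
            rw [Subgroup.coe_inv] at this
            rw [this]; group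
  · -- `ρ` normalizes `A`
    intro b hb
    set ρ : G := g * r * g⁻¹ with hρ
    -- `ρ` normalizes `⟨t, k⟩`
    have hbt : (b : G) * t = t * b := tc b
    have hbk : (b : G) * k = k * b := hAk b hb
    have hbs : (b : G) * (g * s * g⁻¹) = (g * s * g⁻¹) * b := by
      rcases hgs with h | h
      · rw [h]; exact hbk
      · rw [h]
        calc (b : G) * (t * k) = (b * t) * k := by group
          _ = t * (b * k) := by rw [hbt]; group
          _ = _ := by rw [hbk]; group
    have f1 : ρ * b * ρ⁻¹ * (g * s * g⁻¹) = (g * s * g⁻¹) * (ρ * b * ρ⁻¹) := by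
      rw [← e1]
      calc ρ * b * ρ⁻¹ * (ρ * t * ρ⁻¹) = ρ * (b * t) * ρ⁻¹ := by group
        _ = ρ * (t * b) * ρ⁻¹ := by rw [hbt]
        _ = _ := by group
    have f2 : ρ * b * ρ⁻¹ * (t * (g * s * g⁻¹)) = (t * (g * s * g⁻¹)) * (ρ * b * ρ⁻¹) := by
      rw [← e2]
      calc ρ * b * ρ⁻¹ * (ρ * (g * s * g⁻¹) * ρ⁻¹) = ρ * (b * (g * s * g⁻¹)) * ρ⁻¹ := by group
        _ = ρ * ((g * s * g⁻¹) * b) * ρ⁻¹ := by rw [hbs]
        _ = _ := by group
    have f3 : ρ * b * ρ⁻¹ * t = t * (ρ * b * ρ⁻¹) := by
      have : (ρ * b * ρ⁻¹ * t) * (g * s * g⁻¹) = (t * (ρ * b * ρ⁻¹)) * (g * s * g⁻¹) := by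
        calc (ρ * b * ρ⁻¹ * t) * (g * s * g⁻¹) = ρ * b * ρ⁻¹ * (t * (g * s * g⁻¹)) := by group
          _ = (t * (g * s * g⁻¹)) * (ρ * b * ρ⁻¹) := f2
          _ = t * ((g * s * g⁻¹) * (ρ * b * ρ⁻¹)) := by group
          _ = t * (ρ * b * ρ⁻¹ * (g * s * g⁻¹)) := by rw [f1]
          _ = _ := by group
      exact mul_right_cancel this
    have f4 : ρ * b * ρ⁻¹ * k = k * (ρ * b * ρ⁻¹) := by
      rcases hgs with h | h
      · rw [← h]; exact f1
      · have hk : (k : G) = t * (g * s * g⁻¹) := by rw [h, ← mul_assoc, tt, one_mul]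
        rw [hk]; exact f2
    have hpow : (ρ * b * ρ⁻¹) ^ m = 1 := by
      have hbm : (b : G) ^ m = 1 := by exact_mod_cast congrArg Subtype.val (a_pow kd hb)
      rw [conj_pow, hbm]; group
    obtain ⟨a, ha, z, hz1, hx⟩ := dec _ f3 f4
    obtain ⟨hzc, hzz⟩ := hz z hz1
    have ham : (a : G) ^ m = 1 := by exact_mod_cast congrArg Subtype.val (a_pow kd ha)
    obtain ⟨n, hn⟩ := kd.modd
    have hodd : ∀ x : G, x * x = 1 → x ^ m = x := by
      intro x hx
      rw [hn, pow_succ, pow_mul, pow_two, hx, one_pow, one_mul]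
    rcases hx with hx | hx | hx | hx
    · rw [hx] at hpow
      have hcm : Commute z (a : G) := hzc a
      rw [hcm.mul_pow, ham, mul_one, hodd z hzz] at hpow
      exact ⟨a, ha, by rw [hx, hpow, one_mul]⟩
    · exfalso
      rw [hx] at hpow
      have hcm : Commute (z * k) (a : G) := by
        change z * k * a = a * (z * k)
        calc z * k * a = z * (k * a) := by group
          _ = z * (a * k) := by rw [hAk a ha]
          _ = (z * a) * k := by group
          _ = _ := by rw [hzc a]; group
      have hzk : (z * k) * (z * k) = 1 := by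
        calc (z * k) * (z * k) = z * (k * z) * k := by group
          _ = z * (z * k) * k := by rw [hzc k]
          _ = (z * z) * (k * k) := by group
          _ = 1 := by rw [hzz, kG2, one_mul]
      rw [← mul_assoc, hcm.mul_pow, ham, mul_one, hodd _ hzk] at hpow
      rcases hz1 with hz1 | hz1 <;> rw [hz1] at hpow
      · exact kG1 (by simpa using hpow)
      · apply D.tK
        have : t = (k : G)⁻¹ := eq_inv_of_mul_eq_one_left hpow
        rw [this]; exact inv_mem k.2
    · refine ⟨1, one_mem _, ?_⟩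
      rw [hx] at hpow ⊢
      have hsq : (z * (a * s)) * (z * (a * s)) = 1 := by
        calc (z * (a * s)) * (z * (a * s)) = z * (((a * s : K) : G) * z) * (a * s) := by
              rw [Subgroup.coe_mul]; group
          _ = z * (z * ((a * s : K) : G)) * (a * s) := by rw [hzc]
          _ = (z * z) * (a * (s * a) * s) := by rw [Subgroup.coe_mul]; group
          _ = a * ((a : G)⁻¹ * s) * s := by rw [hzz, one_mul, hsA' a ha]
          _ = s * s := by group
          _ = 1 := sG2
      rw [hodd _ hsq] at hpow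
      rw [hpow]; rfl
    · refine ⟨1, one_mem _, ?_⟩
      rw [hx] at hpow ⊢
      have hsq : (z * (k * a * s)) * (z * (k * a * s)) = 1 := by
        calc (z * (k * a * s)) * (z * (k * a * s)) = z * (((k * a * s : K) : G) * z) * (k * a * s) := by
              rw [Subgroup.coe_mul, Subgroup.coe_mul]; group
          _ = z * (z * ((k * a * s : K) : G)) * (k * a * s) := by rw [hzc]
          _ = (z * z) * (k * a * (s * k) * a * s) := by rw [Subgroup.coe_mul, Subgroup.coe_mul]; group
          _ = (k * a) * (k * s) * a * s := by rw [hzz, one_mul, skc]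
          _ = k * (a * k) * (s * a) * s := by group
          _ = k * (k * a) * ((a : G)⁻¹ * s) * s := by rw [hAk a ha, hsA' a ha]
          _ = (k * k) * (s * s) := by group
          _ = 1 := by rw [kG2, sG2, one_mul]
      rw [hodd _ hsq] at hpow
      rw [hpow]; rfl

end Cfsg.Agent.H65.RtR
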