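import Mathlib
import Cfsg.Prelude.Def_LocalEven

/-!
# S4 is not involved in groups with abelian, or TI, Sylow 2-subgroups (pieces P5c1, P5c2 of S2755)
-/

set_option autoImplicit false

namespace Cfsg.Agent.H65.RtS4

open Subgroup

theorem surj_of_involves {G : Type*} [Group G] (h : Cfsg.Involves (Equiv.Perm (Fin 4)) G) :
    ∃ (K : Subgroup G) (f : K →* Equiv.Perm (Fin 4)), Function.Surjective f := by
  obtain ⟨K, R, hR, ⟨e⟩⟩ := h
  exact ⟨K, e.toMonoidHom.comp (QuotientGroup.mk' _), e.surjective.comp (QuotientGroup.mk'_surjective _)⟩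

theorem card_cent : Nat.card (Subgroup.centralizer ({c[0, 2] * c[1, 3]} : Set (Equiv.Perm (Fin 4)))) = 2 ^ 3 := by
  have h1 : Nat.card (Subgroup.centralizer ({c[0, 2] * c[1, 3]} : Set (Equiv.Perm (Fin 4)))) =
      Nat.card {x : Equiv.Perm (Fin 4) // (c[0, 2] * c[1, 3]) * x = x * (c[0, 2] * c[1, 3])} := by
    refine Nat.card_congr (Equiv.subtypeEquivRight ?_)
    intro x
    rw [Subgroup.mem_centralizer_singleton_iff]
    exact ⟨fun h => h.symm, fun h => h.symm⟩
  rw [h1, Nat.card_eq_fintype_card]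
  decide +kernel

/-- [P5c1] -/
theorem s4_free_of_ab {G : Type*} [Group G] [Finite G] (h : ∀ S : Sylow 2 G, ∀ x ∈ S, ∀ y ∈ S, x * y = y * x) :
    ¬ Cfsg.Involves (Equiv.Perm (Fin 4)) G := by
  intro hi
  obtain ⟨K, f, hf⟩ := surj_of_involves hi
  have : Fact (Nat.Prime 2) := ⟨Nat.prime_two⟩
  have hC : IsPGroup 2 (Subgroup.centralizer ({c[0, 2] * c[1, 3]} : Set (Equiv.Perm (Fin 4)))) :=
    IsPGroup.of_card card_cent
  obtain ⟨Q, hQ⟩ := hC.exists_le_sylow
  obtain ⟨P⟩ : Nonempty (Sylow 2 K) := inferInstance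
  obtain ⟨g, hg⟩ := MulAction.exists_smul_eq (Equiv.Perm (Fin 4)) (P.mapSurjective hf) Q
  obtain ⟨g', rfl⟩ := hf g
  have hmem : ∀ a ∈ Q, ∃ x ∈ P, f (g' * x * g'⁻¹) = a := by
    intro a ha
    rw [← hg] at ha
    change a ∈ ((f g' • (P.mapSurjective hf) : Sylow 2 (Equiv.Perm (Fin 4))) : Subgroup (Equiv.Perm (Fin 4))) at ha
    rw [Sylow.coe_subgroup_smul, Subgroup.mem_pointwise_smul_iff_inv_smul_mem] at ha
    rw [Sylow.coe_mapSurjective] at ha
    obtain ⟨x, hx, hxa⟩ := ha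
    refine ⟨x, hx, ?_⟩
    rw [map_mul, map_mul, hxa, map_inv]
    rw [← map_inv, MulAut.smul_def, MulAut.conj_apply]
    group
  have hPG : IsPGroup 2 ((P : Subgroup K).map K.subtype) := P.isPGroup'.map _
  obtain ⟨S, hS⟩ := hPG.exists_le_sylow
  have hcomm : ∀ x ∈ P, ∀ y ∈ P, x * y = y * x := by
    intro x hx y hy
    apply Subtype.ext
    have := h S (x : G) (hS ⟨x, hx, rfl⟩) (y : G) (hS ⟨y, hy, rfl⟩)
    simpa using this
  have hcomm' : ∀ a ∈ Q, ∀ b ∈ Q, a * b = b * a := by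
    intro a ha b hb
    obtain ⟨x, hx, rfl⟩ := hmem a ha
    obtain ⟨y, hy, rfl⟩ := hmem b hb
    rw [← map_mul, ← map_mul]
    congr 1
    have := hcomm x hx y hy
    calc g' * x * g'⁻¹ * (g' * y * g'⁻¹) = g' * (x * y) * g'⁻¹ := by group
      _ = g' * (y * x) * g'⁻¹ := by rw [this]
      _ = _ := by group
  have h1 : (c[0, 1, 2, 3] : Equiv.Perm (Fin 4)) ∈ Q := by
    apply hQ
    rw [Subgroup.mem_centralizer_singleton_iff]
    decide
  have h2 : (c[0, 2] : Equiv.Perm (Fin 4)) ∈ Q := by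
    apply hQ
    rw [Subgroup.mem_centralizer_singleton_iff]
    decide
  have h3 := hcomm' _ h1 _ h2
  exact absurd h3 (by decide)

/-- the Klein four group -/
def V4 : Subgroup (Equiv.Perm (Fin 4)) where
  carrier := {x | x * x = 1 ∧ (x = 1 ∨ ∀ i, x i ≠ i)}
  one_mem' := ⟨by simp, Or.inl rfl⟩
  mul_mem' := by
    intro a b ha hb
    revert a b
    simp only [Set.mem_ofPred_eq]
    decide +kernel
  inv_mem' := by
    intro a ha
    revert a
    simp only [Set.mem_ofPred_eq]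
    decide +kernel

theorem mem_V4 (x : Equiv.Perm (Fin 4)) : x ∈ V4 ↔ x * x = 1 ∧ (x = 1 ∨ ∀ i, x i ≠ i) := Iff.rfl

instance V4_normal : V4.Normal := by
  constructor
  intro n hn g
  rw [mem_V4] at hn ⊢
  revert n g
  decide +kernel

theorem V4_two : IsPGroup 2 V4 := by
  intro x
  refine ⟨1, ?_⟩
  apply Subtype.ext
  have := x.2.1
  simpa [pow_two] using this

/-- [P5c2] -/
theorem s4_free_of_ti {G : Type*} [Group G] [Finite G]
    (h : ∀ S T : Sylow 2 G, S ≠ T → S.toSubgroup ⊓ T.toSubgroup = ⊥) :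
    ¬ Cfsg.Involves (Equiv.Perm (Fin 4)) G := by
  intro hi
  obtain ⟨K, f, hf⟩ := surj_of_involves hi
  have : Fact (Nat.Prime 2) := ⟨Nat.prime_two⟩
  -- Sylow 2-subgroups of `K` are TI
  have hTI : ∀ P₁ P₂ : Sylow 2 K, ∀ x : K, x ∈ P₁ → x ∈ P₂ → x ≠ 1 → P₁ = P₂ := by
    intro P₁ P₂ x h1 h2 hx
    obtain ⟨S₁, hS₁⟩ := (P₁.isPGroup'.map K.subtype).exists_le_sylow
    obtain ⟨S₂, hS₂⟩ := (P₂.isPGroup'.map K.subtype).exists_le_sylow
    have hS : S₁ = S₂ := by
      by_contra hne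
      have := h S₁ S₂ hne
      have hxm : (x : G) ∈ S₁.toSubgroup ⊓ S₂.toSubgroup :=
        ⟨hS₁ ⟨x, h1, rfl⟩, hS₂ ⟨x, h2, rfl⟩⟩
      rw [this, Subgroup.mem_bot] at hxm
      exact hx (Subtype.ext hxm)
    subst hS
    have hc : IsPGroup 2 ((S₁ : Subgroup G).comap K.subtype) :=
      S₁.isPGroup'.comap_subtype
    have e1 : (S₁ : Subgroup G).comap K.subtype = P₁ :=
      P₁.3 hc (Subgroup.map_le_iff_le_comap.mp hS₁)
    have e2 : (S₁ : Subgroup G).comap K.subtype = P₂ :=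
      P₂.3 hc (Subgroup.map_le_iff_le_comap.mp hS₂)
    exact Sylow.ext (e1.symm.trans e2)
  -- Frattini
  obtain ⟨Q⟩ : Nonempty (Sylow 2 (V4.comap f)) := inferInstance
  have hfr := Sylow.normalizer_sup_eq_top (N := V4.comap f) Q
  have hQP : IsPGroup 2 ((Q : Subgroup (V4.comap f)).map (V4.comap f).subtype) := Q.isPGroup'.map _
  obtain ⟨P, hP⟩ := hQP.exists_le_sylow
  -- `f Q = V4`
  have hfQ : V4 ≤ ((Q : Subgroup (V4.comap f)).map (V4.comap f).subtype).map f := by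
    have hres : Function.Surjective (f.subgroupComap V4) := by
      intro v
      obtain ⟨x, hx⟩ := hf v
      exact ⟨⟨x, by rw [Subgroup.mem_comap, hx]; exact v.2⟩, Subtype.ext hx⟩
    have htop : ((Q.mapSurjective hres : Sylow 2 V4) : Subgroup V4) = ⊤ := by
      have h1 : IsPGroup 2 (⊤ : Subgroup V4) := V4_two.to_subgroup ⊤
      exact ((Q.mapSurjective hres).3 h1 le_top).symm
    intro v hv
    have h1 : (⟨v, hv⟩ : V4) ∈ ((Q.mapSurjective hres : Sylow 2 V4) : Subgroup V4) := by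
      rw [htop]; trivial
    rw [Sylow.coe_mapSurjective] at h1
    obtain ⟨x, hx, hxv⟩ := h1
    refine ⟨(x : K), ⟨x, hx, rfl⟩, ?_⟩
    have := congrArg Subtype.val hxv
    exact this
  have hV : (c[0, 2] * c[1, 3] : Equiv.Perm (Fin 4)) ∈ V4 := by
    rw [mem_V4]; decide
  obtain ⟨y, hy, hyV⟩ := hfQ hV
  have hy1 : y ≠ 1 := by
    rintro rfl
    rw [map_one] at hyV
    exact absurd hyV (by decide)
  -- `N(Q) ≤ N(P)`
  have hNN : normalizer (((Q : Subgroup (V4.comap f)).map (V4.comap f).subtype : Subgroup K) : Set K) ≤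
      normalizer ((P : Subgroup K) : Set K) := by
    intro g hg
    have hgy : g * y * g⁻¹ ∈ (Q : Subgroup (V4.comap f)).map (V4.comap f).subtype :=
      (Subgroup.mem_normalizer_iff.mp hg y).mp hy
    have h1 : g * y * g⁻¹ ∈ P := hP hgy
    have h2 : g * y * g⁻¹ ∈ (g • P : Sylow 2 K) := by
      change g * y * g⁻¹ ∈ ((g • P : Sylow 2 K) : Subgroup K)
      rw [Sylow.coe_subgroup_smul, Subgroup.mem_pointwise_smul_iff_inv_smul_mem]
      have : (MulAut.conj g)⁻¹ • (g * y * g⁻¹) = y := by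
        rw [← map_inv, MulAut.smul_def, MulAut.conj_apply]; group
      rw [this]
      exact hP hy
    have h3 : g * y * g⁻¹ ≠ 1 := by
      intro h0
      apply hy1
      have : y = g⁻¹ * (g * y * g⁻¹) * g := by group
      rw [this, h0]; group
    have := hTI (g • P) P _ h2 h1 h3
    exact Sylow.smul_eq_iff_mem_normalizer.mp this
  have hD : ((P.mapSurjective hf : Sylow 2 (Equiv.Perm (Fin 4))) : Subgroup (Equiv.Perm (Fin 4))).Normal := by
    have h1 : (normalizer ((P : Subgroup K) : Set K)).map f ≤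
        normalizer (((P.mapSurjective hf : Sylow 2 (Equiv.Perm (Fin 4))) : Subgroup (Equiv.Perm (Fin 4))) : Set _) := by
      rw [Sylow.coe_mapSurjective]
      exact Subgroup.le_normalizer_map f
    have h2 : (⊤ : Subgroup (Equiv.Perm (Fin 4))) ≤
        normalizer (((P.mapSurjective hf : Sylow 2 (Equiv.Perm (Fin 4))) : Subgroup (Equiv.Perm (Fin 4))) : Set _) := by
      have h3 : (⊤ : Subgroup K).map f = ⊤ := by
        rw [← MonoidHom.range_eq_map]; exact MonoidHom.range_eq_top.mpr hf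
      rw [← h3, ← hfr, Subgroup.map_sup]
      refine sup_le ((Subgroup.map_mono hNN).trans h1) ?_
      refine (Subgroup.map_comap_le f V4).trans (hfQ.trans ?_)
      refine (Subgroup.map_mono hP).trans ?_
      rw [Sylow.coe_mapSurjective]
      exact Subgroup.le_normalizer
    exact Subgroup.normalizer_eq_top_iff.mp (top_le_iff.mp h2)
  have hinv : ∀ x : Equiv.Perm (Fin 4), x * x = 1 → x ∈ P.mapSurjective hf := by
    intro x hx
    have hz : IsPGroup 2 (Subgroup.zpowers x) := by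
      have : IsPGroup 2 (Subgroup.zpowers x) := by
        rw [IsPGroup.iff_orderOf]
        rintro ⟨y, hy⟩
        obtain ⟨k, rfl⟩ := Subgroup.mem_zpowers_iff.mp hy
        rw [Subgroup.orderOf_mk]
        have h4 : orderOf (x ^ k) ∣ 2 ^ 1 := by
          rw [orderOf_dvd_iff_pow_eq_one, pow_one, pow_two, ← zpow_add, ← two_mul, zpow_mul, zpow_ofNat, pow_two, hx,
            one_zpow]
        obtain ⟨m, -, hm⟩ := (Nat.dvd_prime_pow Nat.prime_two).mp h4
        exact ⟨m, hm⟩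
      exact this
    obtain ⟨T, hT⟩ := hz.exists_le_sylow
    have := hD
    obtain ⟨g, hg⟩ := MulAction.exists_smul_eq (Equiv.Perm (Fin 4)) (P.mapSurjective hf) T
    rw [Sylow.smul_eq_of_normal] at hg
    rw [hg]
    exact hT (Subgroup.mem_zpowers x)
  have h1 : (c[0, 1] * c[0, 2] : Equiv.Perm (Fin 4)) ∈ P.mapSurjective hf :=
    mul_mem (hinv _ (by decide)) (hinv _ (by decide))
  obtain ⟨k, hk⟩ := (P.mapSurjective hf).isPGroup' ⟨_, h1⟩
  have hk' : (c[0, 1] * c[0, 2] : Equiv.Perm (Fin 4)) ^ 2 ^ k = 1 := congrArg Subtype.val hk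
  have h3 : (c[0, 1] * c[0, 2] : Equiv.Perm (Fin 4)) ^ 3 = 1 := by decide
  have hco : Nat.Coprime (2 ^ k) 3 := Nat.Coprime.pow_left k (by norm_num)
  have ho : orderOf (c[0, 1] * c[0, 2] : Equiv.Perm (Fin 4)) ∣ 1 := by
    rw [← Nat.Coprime.gcd_eq_one hco]
    exact Nat.dvd_gcd (orderOf_dvd_of_pow_eq_one hk') (orderOf_dvd_of_pow_eq_one h3)
  have := orderOf_eq_one_iff.mp (Nat.dvd_one.mp ho)
  exact absurd this (by decide)

end Cfsg.Agent.H65.RtS4
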