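import Cfsg.Agent.S0126
import Cfsg.Agent.S0071
import Cfsg.Agent.H23.RankTwoGraph

/-! # Simple groups whose noncyclic subgroups are self-centralizing: the order is even (helper65) -/

set_option autoImplicit false

namespace Cfsg.Agent.H65

open Subgroup

universe u

variable {G : Type u} [Group G] [Finite G]

/-- counting fixed points of an element of prime order modulo the centralizer -/
theorem card_modEq_centralizer {r : ℕ} [Fact r.Prime] {K : Subgroup G} {h : G}
    (hK : h ∈ normalizer (K : Set G)) (hr : h ^ r ∈ centralizer (K : Set G)) :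
    Nat.card K ≡ Nat.card ↥(K ⊓ centralizer ({h} : Set G)) [MOD r] := by
  classical
  have := Fintype.ofFinite K
  let f : Function.End K := fun x => ⟨h * x * h⁻¹, (mem_normalizer_iff.1 hK x).1 x.2⟩
  have hf : ∀ n : ℕ, ∀ x : K, ((f ^ n) x : G) = h ^ n * x * (h ^ n)⁻¹ := by
    intro n
    induction n with
    | zero =>
      intro x
      rw [pow_zero, pow_zero]
      show (x : G) = 1 * x * 1⁻¹
      group
    | succ n ih =>
      intro x
      rw [pow_succ']
      show ((f ((f ^ n) x) : K) : G) = _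
      show h * ((f ^ n) x : G) * h⁻¹ = _
      rw [ih, pow_succ']
      group
  have h1 : f ^ r ^ 1 = 1 := by
    rw [pow_one]
    funext x
    apply Subtype.ext
    rw [hf]
    have := mem_centralizer_iff.1 hr x x.2
    show h ^ r * x * (h ^ r)⁻¹ = x
    rw [← this]; group
  have h2 := Equiv.Perm.card_fixedPoints_modEq (p := r) (n := 1) h1
  have h3 : Fintype.card (Function.fixedPoints f) = Nat.card ↥(K ⊓ centralizer ({h} : Set G)) := by
    rw [← Nat.card_eq_fintype_card]
    refine Nat.card_congr ⟨fun x => ⟨x.1, mem_inf.2 ⟨x.1.2, ?_⟩⟩, fun x => ⟨⟨x.1, (mem_inf.1 x.2).1⟩, ?_⟩, ?_, ?_⟩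
    · rw [mem_centralizer_singleton_iff]
      have := congrArg Subtype.val x.2
      have h4 : h * (x.1 : G) * h⁻¹ = x.1 := this
      rw [mul_inv_eq_iff_eq_mul] at h4
      exact h4.symm
    · apply Subtype.ext
      have h4 := mem_centralizer_singleton_iff.1 (mem_inf.1 x.2).2
      show h * (x : G) * h⁻¹ = x
      rw [← h4]; group
    · intro x; rfl
    · intro x; rfl
  rw [← Nat.card_eq_fintype_card, h3] at h2
  exact h2

/-- from a nontrivially acting element, one of prime order on `K` -/
theorem exists_prime_act {p : ℕ} [hp : Fact p.Prime] {Q : Subgroup G} {g : G}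
    (hg : g ∈ normalizer (Q : Set G)) (hgp : Nat.Coprime (orderOf g) p) (hgc : g ∉ centralizer (Q : Set G)) :
    ∃ (r : ℕ) (h : G), r.Prime ∧ r ∣ Nat.card G ∧ r ≠ p ∧ h ∈ normalizer (Q : Set G) ∧
      h ∉ centralizer (Q : Set G) ∧ h ^ r ∈ centralizer (Q : Set G) := by
  -- the least m > 0 with g ^ m centralizing
  have hex : ∃ m, 0 < m ∧ g ^ m ∈ centralizer (Q : Set G) := ⟨orderOf g, orderOf_pos g, by
    rw [pow_orderOf_eq_one]; exact one_mem _⟩
  classical
  set m := Nat.find hex with hm
  obtain ⟨hm0, hmc⟩ := Nat.find_spec hex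
  rw [← hm] at hm0 hmc
  have hm1 : m ≠ 1 := by
    intro h1
    rw [h1, pow_one] at hmc
    exact hgc hmc
  set r := m.minFac with hr
  have hrp : r.Prime := Nat.minFac_prime hm1
  obtain ⟨k, hk⟩ := Nat.minFac_dvd m
  rw [← hr] at hk
  have hk0 : 0 < k := by
    rcases Nat.eq_zero_or_pos k with h | h
    · rw [h, mul_zero] at hk; omega
    · exact h
  have hkm : k < m := by
    rw [hk]
    have := hrp.two_le
    nlinarith
  have hdvd : m ∣ orderOf g := by
    -- divide with remainder
    have h1 : g ^ (orderOf g % m) ∈ centralizer (Q : Set G) := by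
      have h2 : g ^ (orderOf g % m) = (g ^ (m * (orderOf g / m)))⁻¹ := by
        rw [eq_inv_iff_mul_eq_one, ← pow_add, Nat.mod_add_div, pow_orderOf_eq_one]
      rw [h2, pow_mul]
      exact inv_mem (pow_mem hmc _)
    rw [Nat.dvd_iff_mod_eq_zero]
    by_contra hne
    have h3 := Nat.find_min' hex ⟨Nat.pos_of_ne_zero hne, h1⟩
    rw [← hm] at h3
    have := Nat.mod_lt (orderOf g) hm0
    omega
  refine ⟨r, g ^ k, hrp, ?_, ?_, pow_mem hg k, ?_, ?_⟩
  · exact ((Nat.minFac_dvd m).trans hdvd).trans (orderOf_dvd_natCard g)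
  · rintro h
    have h1 : p ∣ orderOf g := by
      rw [← h]
      exact (Nat.minFac_dvd m).trans hdvd
    have h2 := Nat.Coprime.eq_one_of_dvd (hgp.symm) h1
    exact hp.out.one_lt.ne' h2
  · intro h
    have := Nat.find_min' hex ⟨hk0, h⟩
    omega
  · rw [← pow_mul, mul_comm, ← hk]; exact hmc

/-- arithmetic: `p < r` odd primes, `r ∣ p ^ a - p ^ j` with `j ≤ a ≤ j + 2` forces `a = j`. -/
theorem eq_of_modEq_pow {p r a j : ℕ} (hp : p.Prime) (hr : r.Prime) (hpr : p < r) (hp2 : p ≠ 2) (hja : j ≤ a)
    (haj : a ≤ j + 2) (h : p ^ a ≡ p ^ j [MOD r]) : a = j := by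
  by_contra hne
  have h1 : r ∣ p ^ a - p ^ j := (Nat.modEq_iff_dvd' (Nat.pow_le_pow_right hp.pos hja)).1 h.symm
  have hcop : ¬ r ∣ p := fun hd => by
    have := Nat.le_of_dvd hp.pos hd
    omega
  have hcase : a = j + 1 ∨ a = j + 2 := by omega
  have hp1 := hp.two_le
  rcases hcase with rfl | rfl
  · have h2 : p ^ (j + 1) - p ^ j = p ^ j * (p - 1) := by
      rw [pow_succ, Nat.mul_sub, mul_one]
    rw [h2] at h1
    rcases hr.dvd_mul.1 h1 with h3 | h3
    · exact hcop (hr.dvd_of_dvd_pow h3)
    · have := Nat.le_of_dvd (by omega) h3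
      omega
  · have h2 : p ^ (j + 2) - p ^ j = p ^ j * ((p - 1) * (p + 1)) := by
      have h4 : (p - 1) * (p + 1) = p ^ 2 - 1 := by
        rw [mul_comm, ← Nat.sq_sub_sq, one_pow]
      rw [h4, pow_add, Nat.mul_sub, mul_one]
    rw [h2] at h1
    rcases hr.dvd_mul.1 h1 with h3 | h3
    · exact hcop (hr.dvd_of_dvd_pow h3)
    · rcases hr.dvd_mul.1 h3 with h4 | h4
      · have := Nat.le_of_dvd (by omega) h4
        omega
      · have h5 := Nat.le_of_dvd (by omega) h4
        have h6 : r = p + 1 := by omega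
        have h7 := hp.eq_two_or_odd
        have h8 := hr.eq_two_or_odd
        omega

/-- In a group whose least prime divisor `p` is odd, a `p'`-element normalising a `p`-subgroup of order
at most `p ^ 3`, nonabelian if the order is `p ^ 3`, centralises it. -/
theorem mem_centralizer_of_small {p : ℕ} [hp : Fact p.Prime] (hp2 : p ≠ 2) (hmin : (Nat.card G).minFac = p)
    {Q : Subgroup G} (hQ : IsPGroup p Q) (hQ3 : Nat.card Q ≤ p ^ 3)
    (hQ' : Nat.card Q = p ^ 3 → ∃ x ∈ Q, x ∉ centralizer (Q : Set G))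
    {g : G} (hg : g ∈ normalizer (Q : Set G)) (hgp : Nat.Coprime (orderOf g) p) :
    g ∈ centralizer (Q : Set G) := by
  by_contra hgc
  obtain ⟨r, h, hr, hrG, hrp, hN, hC, hrC⟩ := exists_prime_act hg hgp hgc
  haveI := Fact.mk hr
  have hpr : p < r := by
    have := Nat.minFac_le_of_dvd hr.two_le hrG
    rw [hmin] at this
    omega
  -- key: a `p`-subgroup normalised by `h` with `h ^ r` centralising
  have key : ∀ K : Subgroup G, IsPGroup p K → h ∈ normalizer (K : Set G) → h ^ r ∈ centralizer (K : Set G) →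
      Nat.card K ≤ Nat.card ↥(K ⊓ centralizer ({h} : Set G)) * p ^ 2 → h ∈ centralizer (K : Set G) := by
    intro K hK h1 h2 h3
    have h4 := card_modEq_centralizer h1 h2
    obtain ⟨a, ha⟩ := hK.exists_card_eq
    have hL : IsPGroup p ↥(K ⊓ centralizer ({h} : Set G)) := hK.to_le inf_le_left
    obtain ⟨j, hj⟩ := hL.exists_card_eq
    have hle : Nat.card ↥(K ⊓ centralizer ({h} : Set G)) ≤ Nat.card K := Subgroup.card_le_of_le inf_le_left
    rw [ha, hj] at h4 h3 hle
    have hja : j ≤ a := (Nat.pow_le_pow_iff_right hp.out.one_lt).1 hle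
    have haj : a ≤ j + 2 := by
      rw [← pow_add] at h3
      exact (Nat.pow_le_pow_iff_right hp.out.one_lt).1 h3
    have h5 := eq_of_modEq_pow hp.out hr hpr hp2 hja haj h4
    have h6 : K ⊓ centralizer ({h} : Set G) = K := by
      apply Subgroup.eq_of_le_of_card_ge inf_le_left
      rw [ha, hj, h5]
    rw [mem_centralizer_iff]
    intro x hx
    rw [← h6] at hx
    exact mem_centralizer_singleton_iff.1 hx.2
  have hpos : ∀ K : Subgroup G, 1 ≤ Nat.card K := fun K => Nat.card_pos
  obtain ⟨a, ha⟩ := hQ.exists_card_eq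
  rcases Nat.lt_or_ge a 3 with ha3 | ha3
  · apply hC
    apply key Q hQ hN hrC
    calc Nat.card Q = p ^ a := ha
      _ ≤ p ^ 2 := Nat.pow_le_pow_right hp.out.pos (by omega)
      _ ≤ _ := Nat.le_mul_of_pos_left _ (hpos _)
  · have ha3' : a = 3 := by
      rw [ha] at hQ3
      have := (Nat.pow_le_pow_iff_right hp.out.one_lt).1 hQ3
      omega
    subst ha3'
    obtain ⟨x, hxQ, hx⟩ := hQ' ha
    -- the centre of `Q`
    set Z : Subgroup G := Q ⊓ centralizer (Q : Set G) with hZ
    have hZQ : Z ≤ Q := inf_le_left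
    have hZlt : Nat.card Z < p ^ 3 := by
      rw [← ha]
      have hne : Z ≠ Q := by
        intro he
        apply hx
        have h1 : Q ≤ centralizer (Q : Set G) := by rw [← he, hZ]; exact inf_le_right.trans (by rw [← hZ, he])
        exact h1 hxQ
      exact (Set.ncard_lt_ncard (SetLike.coe_ssubset_coe.2 (lt_of_le_of_ne hZQ hne)) (Set.toFinite _))
    have hZp : IsPGroup p Z := hQ.to_le hZQ
    obtain ⟨b, hb⟩ := hZp.exists_card_eq
    have hb2 : b ≤ 2 := by
      rw [hb] at hZlt
      have := (Nat.pow_lt_pow_iff_right hp.out.one_lt).1 hZlt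
      omega
    have hZN : h ∈ normalizer (Z : Set G) := by
      have h1 : normalizer (Q : Set G) ≤ normalizer (centralizer (Q : Set G) : Set G) := by
        intro y hy
        rw [mem_normalizer_iff] at hy ⊢
        intro w
        rw [mem_centralizer_iff, mem_centralizer_iff]
        constructor
        · intro hw v hv
          have h2 : y⁻¹ * v * y ∈ Q := by
            rw [hy]
            have : y * (y⁻¹ * v * y) * y⁻¹ = v := by group
            rw [this]; exact hv
          have h3 := hw _ h2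
          calc v * (y * w * y⁻¹) = y * ((y⁻¹ * v * y) * w) * y⁻¹ := by group
            _ = y * (w * (y⁻¹ * v * y)) * y⁻¹ := by rw [h3]
            _ = y * w * y⁻¹ * v := by group
        · intro hw v hv
          have h2 : y * v * y⁻¹ ∈ Q := (hy v).1 hv
          have h3 := hw _ h2
          calc v * w = y⁻¹ * ((y * v * y⁻¹) * (y * w * y⁻¹)) * y := by group
            _ = y⁻¹ * (y * w * y⁻¹ * (y * v * y⁻¹)) * y := by rw [h3]
            _ = w * v := by group
      have h2 := h1 hN
      rw [mem_normalizer_iff] at hN h2 ⊢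
      intro w
      rw [hZ]
      constructor
      · rintro ⟨h3, h4⟩; exact ⟨(hN w).1 h3, (h2 w).1 h4⟩
      · rintro ⟨h3, h4⟩; exact ⟨(hN w).2 h3, (h2 w).2 h4⟩
    have hZc : h ∈ centralizer (Z : Set G) := by
      apply key Z hZp hZN (centralizer_le hZQ hrC)
      calc Nat.card Z = p ^ b := hb
        _ ≤ p ^ 2 := Nat.pow_le_pow_right hp.out.pos hb2
        _ ≤ _ := Nat.le_mul_of_pos_left _ (hpos _)
    -- `Z ≠ 1`
    have hZne : p ≤ Nat.card Z := by
      have hQnt : Nontrivial Q := by
        rw [← Finite.one_lt_card_iff_nontrivial, ha]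
        exact Nat.one_lt_pow (by norm_num) hp.out.one_lt
      have h1 := hQ.center_nontrivial
      rcases Nat.eq_zero_or_pos b with hb0 | hb0
      · exfalso
        rw [hb0, pow_zero] at hb
        obtain ⟨⟨c, hc⟩, hc1⟩ := exists_ne (1 : Subgroup.center Q)
        have h2 : (c : G) ∈ Z := by
          refine mem_inf.2 ⟨c.2, ?_⟩
          rw [mem_centralizer_iff]
          intro y hy
          exact congrArg Subtype.val (mem_center_iff.1 hc ⟨y, hy⟩)
        rw [Subgroup.card_eq_one] at hb
        rw [hb, mem_bot] at h2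
        apply hc1
        apply Subtype.ext
        exact Subtype.ext h2
      · rw [hb]
        calc p = p ^ 1 := (pow_one p).symm
          _ ≤ p ^ b := Nat.pow_le_pow_right hp.out.pos hb0
    apply hC
    apply key Q hQ hN hrC
    have h1 : Z ≤ Q ⊓ centralizer ({h} : Set G) := by
      intro z hz
      refine mem_inf.2 ⟨hZQ hz, ?_⟩
      rw [mem_centralizer_singleton_iff]
      exact mem_centralizer_iff.1 hZc z hz
    have h2 : p ≤ Nat.card ↥(Q ⊓ centralizer ({h} : Set G)) := hZne.trans (Subgroup.card_le_of_le h1)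
    calc Nat.card Q = p * p ^ 2 := by rw [ha]; ring
      _ ≤ _ := Nat.mul_le_mul_right _ h2

/-- The least prime divisor is two. -/
theorem even_of_selfCent [IsSimpleGroup G] (hna : ¬ IsMulCommutative G)
    (hG : ∀ H : Subgroup G, ¬ IsCyclic ↥H → Subgroup.centralizer (H : Set G) ≤ H) :
    (Nat.card G).minFac = 2 := by
  by_contra hp2
  have hcard1 : Nat.card G ≠ 1 := by
    have := Finite.one_lt_card (α := G)
    omega
  set p := (Nat.card G).minFac with hpdef
  haveI hp : Fact p.Prime := ⟨Nat.minFac_prime hcard1⟩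
  have hpG : p ∣ Nat.card G := Nat.minFac_dvd _
  obtain ⟨P⟩ : Nonempty (Sylow p G) := inferInstance
  have hPne : (P : Subgroup G) ≠ ⊥ := by
    intro hb
    have h1 := P.dvd_card_of_dvd_card hpG
    rw [hb, card_bot] at h1
    exact hp.out.one_lt.ne' (Nat.dvd_one.1 h1)
  have hPtop : (P : Subgroup G) ≠ ⊤ := by
    intro ht
    have hGp : IsPGroup p G := by
      have := P.isPGroup'
      rw [ht] at this
      exact this.of_equiv topEquiv
    have hnt := hGp.center_nontrivial
    rcases (inferInstance : (center G).Normal).eq_bot_or_eq_top with h | h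
    · rw [h] at hnt
      exact not_nontrivial _ hnt
    · apply hna
      exact ⟨⟨fun a b => (mem_center_iff.1 (h ▸ mem_top a : a ∈ center G) b).symm⟩⟩
  -- no normal complement
  have hnocomp : ¬ ∃ N : Subgroup G, N.Normal ∧ N.IsComplement' (P : Subgroup G) := by
    rintro ⟨N, hN, hNc⟩
    rcases hN.eq_bot_or_eq_top with h | h
    · apply hPtop
      have := hNc.sup_eq_top
      rwa [h, bot_sup_eq] at this
    · apply hPne
      have := hNc.disjoint.eq_bot
      rwa [h, top_inf_eq] at this
  have hPnc : ¬ IsCyclic (P : Subgroup G) := by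
    intro hc
    apply hnocomp
    exact ⟨_, inferInstance, IsCyclic.isComplement' rfl hc⟩
  obtain ⟨A, hAn, hAe, hAc⟩ := Cfsg.Agent.S0126.result hp2 P.isPGroup' hPnc
  -- `A` is self-centralising in `G`
  set V : Subgroup G := A.map (P : Subgroup G).subtype with hV
  have hVcard : Nat.card V = p ^ 2 := by
    rw [hV, ← hAc]
    exact (Nat.card_congr (Subgroup.equivMapOfInjective A _ (Subgroup.subtype_injective _)).toEquiv).symm
  have hVnc : ¬ IsCyclic V := by
    intro hc
    have : IsCyclic A := isCyclic_of_surjective (Subgroup.equivMapOfInjective A _ (Subgroup.subtype_injective _)).symm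
      (MulEquiv.surjective _)
    obtain ⟨a, ha⟩ := this.exists_generator
    have h1 := hAe.2 a.1 a.2
    have h2 : orderOf a = p ^ 2 := by rw [orderOf_eq_card_of_forall_mem_zpowers ha, hAc]
    have h3 : orderOf a ∣ p := orderOf_dvd_of_pow_eq_one (Subtype.ext h1)
    rw [h2] at h3
    have h4 := Nat.le_of_dvd hp.out.pos h3
    have h5 := hp.out.two_le
    nlinarith
  have hVC := hG V hVnc
  have hcent : ∀ x : (P : Subgroup G), x ∈ centralizer (A : Set (P : Subgroup G)) → x ∈ A := by
    intro x hx
    have h1 : (x : G) ∈ centralizer (V : Set G) := by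
      rw [mem_centralizer_iff]
      rintro _ ⟨a, ha, rfl⟩
      exact congrArg Subtype.val (mem_centralizer_iff.1 hx a ha)
    obtain ⟨a, ha, hax⟩ := hVC h1
    have : a = x := Subtype.ext hax
    rwa [← this]
  have hPcard : Nat.card (P : Subgroup G) ≤ p ^ 3 := by
    have h1 := H23.card_le_card_inf_centralizer P.isPGroup' hAn hAc ⊤
    rw [card_top, top_inf_eq] at h1
    have h2 : Nat.card (centralizer (A : Set (P : Subgroup G))) ≤ Nat.card A :=
      Subgroup.card_le_of_le (fun x hx => hcent x hx)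
    calc _ ≤ _ := h1
      _ ≤ p ^ 2 * p := Nat.mul_le_mul_right _ (h2.trans hAc.le)
      _ = p ^ 3 := by ring
  apply hnocomp
  rw [Cfsg.Agent.S0071.result P]
  intro Q hQP g hg hgp
  have hQp : IsPGroup p Q := P.isPGroup'.to_le hQP
  refine mem_centralizer_of_small hp2 rfl hQp ((Subgroup.card_le_of_le hQP).trans hPcard) ?_ hg hgp
  intro hQ3
  have hQeq : Q = P := by
    apply Subgroup.eq_of_le_of_card_ge hQP
    rw [hQ3]; exact hPcard
  by_contra hcon
  push Not at hcon
  -- then P is abelian, P = A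
  have h1 : (⊤ : Subgroup (P : Subgroup G)) ≤ A := by
    intro x _
    apply hcent
    rw [mem_centralizer_iff]
    intro a _
    apply Subtype.ext
    have h2 := mem_centralizer_iff.1 (hcon x.1 (by rw [hQeq]; exact x.2)) a.1 (by rw [hQeq]; exact a.2)
    exact h2
  have h2 := Subgroup.card_le_of_le h1
  rw [card_top, hAc, ← hQeq, hQ3] at h2
  have h3 := (Nat.pow_le_pow_iff_right hp.out.one_lt).1 h2
  omega

end Cfsg.Agent.H65
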