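import Cfsg.Agent.H65.SelfCentA
import Cfsg.Agent.S0201
import Cfsg.Agent.S0016
import Cfsg.Agent.S0199
import Cfsg.Agent.S3224
import Cfsg.Agent.S3116
import Cfsg.Agent.BSW.Main
import Cfsg.Agent.H20.QD

/-! # Groups whose noncyclic subgroups are self-centralizing: involutions (helper65) -/

set_option autoImplicit false

namespace Cfsg.Agent.H65

open Subgroup
open scoped commutatorElement

universe u

section general

variable {G : Type u} [Group G]

/-- noncyclic subgroups contain their centralizers -/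
def SC (G : Type u) [Group G] : Prop :=
  ∀ H : Subgroup G, ¬ IsCyclic ↥H → Subgroup.centralizer (H : Set G) ≤ H

theorem mul_self_of_orderOf {M : Type*} [Monoid M] {a : M} (h : orderOf a = 2) : a * a = 1 := by
  have := pow_orderOf_eq_one a
  rw [h, pow_two] at this
  exact this

theorem t_zpow {y t : G} (hty : t * y * t⁻¹ = y⁻¹) (i : ℤ) : t * y ^ i = y ^ (-i) * t := by
  have h := conj_zpow (a := t) (b := y) (i := i)
  rw [hty, inv_zpow'] at h
  rw [h]; group

/-- The dihedral subgroup `{y ^ i, y ^ i t}`. -/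
def dihSub (y t : G) (ht : t * t = 1) (hty : t * y * t⁻¹ = y⁻¹) : Subgroup G where
  carrier := {x | ∃ i : ℤ, x = y ^ i ∨ x = y ^ i * t}
  one_mem' := ⟨0, Or.inl (by simp)⟩
  mul_mem' := by
    rintro a b ⟨i, hi | hi⟩ ⟨j, hj | hj⟩
    · exact ⟨i + j, Or.inl (by rw [hi, hj, zpow_add])⟩
    · exact ⟨i + j, Or.inr (by rw [hi, hj, zpow_add, mul_assoc])⟩
    · exact ⟨i + -j, Or.inr (by rw [hi, hj, mul_assoc, t_zpow hty, ← mul_assoc, ← zpow_add])⟩
    · refine ⟨i + -j, Or.inl ?_⟩
      rw [hi, hj, mul_assoc, ← mul_assoc t, t_zpow hty, mul_assoc _ t t, ht, mul_one, ← zpow_add]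
  inv_mem' := by
    rintro a ⟨i, hi | hi⟩
    · exact ⟨-i, Or.inl (by rw [hi, zpow_neg])⟩
    · refine ⟨i, Or.inr ?_⟩
      rw [hi, mul_inv_rev, ← zpow_neg]
      have h1 : t⁻¹ = t := inv_eq_of_mul_eq_one_left ht
      rw [h1, t_zpow hty, neg_neg]

theorem mem_dihSub {y t : G} {ht : t * t = 1} {hty : t * y * t⁻¹ = y⁻¹} {x : G} :
    x ∈ dihSub y t ht hty ↔ ∃ i : ℤ, x = y ^ i ∨ x = y ^ i * t := Iff.rfl

theorem y_mem_dihSub {y t : G} (ht : t * t = 1) (hty : t * y * t⁻¹ = y⁻¹) : y ∈ dihSub y t ht hty :=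
  ⟨1, Or.inl (by simp)⟩

theorem t_mem_dihSub {y t : G} (ht : t * t = 1) (hty : t * y * t⁻¹ = y⁻¹) : t ∈ dihSub y t ht hty :=
  ⟨0, Or.inr (by simp)⟩

theorem eq_one_of_odd_sq {y : G} (hy : Odd (orderOf y)) (h : y * y = 1) : y = 1 := by
  rw [← pow_two] at h
  have h1 := orderOf_dvd_of_pow_eq_one h
  have h2 : orderOf y = 1 := by
    rcases (Nat.dvd_prime Nat.prime_two).1 h1 with h3 | h3
    · exact h3
    · rw [h3] at hy; exact absurd hy (by decide)
  exact orderOf_eq_one_iff.1 h2

/-- no odd order element of `C(z)` is inverted by an involution `t ≠ z` of `C(z)`. -/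
theorem no_inverted (hG : SC G) {z t y : G} (hz : z * z = 1) (hz1 : z ≠ 1) (ht : t * t = 1) (hzt : z ≠ t)
    (hc : z * t = t * z) (hy : Odd (orderOf y)) (hy1 : y ≠ 1) (hzy : z * y = y * z)
    (hty : t * y * t⁻¹ = y⁻¹) : False := by
  have hnc : ¬ IsCyclic (dihSub y t ht hty) := by
    intro h
    letI := h.commGroup
    have h1 : (⟨t, t_mem_dihSub ht hty⟩ : dihSub y t ht hty) * ⟨y, y_mem_dihSub ht hty⟩ =
        ⟨y, y_mem_dihSub ht hty⟩ * ⟨t, t_mem_dihSub ht hty⟩ := mul_comm _ _
    have h2 : t * y = y * t := congrArg Subtype.val h1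
    rw [h2, mul_inv_cancel_right] at hty
    apply hy1
    apply eq_one_of_odd_sq hy
    rw [← eq_inv_iff_mul_eq_one]; exact hty
  have h1 : z ∈ dihSub y t ht hty := by
    apply hG _ hnc
    rw [mem_centralizer_iff]
    rintro x ⟨i, hi | hi⟩
    · rw [hi]; exact ((show Commute z y from hzy).zpow_right i).eq.symm
    · rw [hi]
      exact (((show Commute z y from hzy).zpow_right i).mul_right (show Commute z t from hc)).eq.symm
  have hodd : ∀ i : ℤ, Odd (orderOf (y ^ i)) := fun i =>
    Odd.of_dvd_nat hy (orderOf_dvd_of_mem_zpowers ⟨i, rfl⟩)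
  obtain ⟨i, hi | hi⟩ := h1
  · apply hz1
    rw [hi]
    apply eq_one_of_odd_sq (hodd i)
    rw [← hi, hz]
  · have h2 : y ^ i = z * t := by rw [hi, mul_assoc, ht, mul_one]
    have h3 : y ^ i = 1 := by
      apply eq_one_of_odd_sq (hodd i)
      rw [h2]
      calc z * t * (z * t) = z * (t * z) * t := by group
        _ = (z * z) * (t * t) := by rw [← hc]; group
        _ = 1 := by rw [hz, ht, one_mul]
    apply hzt
    rw [hi, h3, one_mul]

/-- the four-group `{1, z, t, z t}` -/
def kleinSub (z t : G) (hz : z * z = 1) (ht : t * t = 1) (hc : z * t = t * z) : Subgroup G where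
  carrier := {x | x = 1 ∨ x = z ∨ x = t ∨ x = z * t}
  one_mem' := Or.inl rfl
  mul_mem' := by
    have h1 : z * (z * t) = t := by rw [← mul_assoc, hz, one_mul]
    have h2 : t * (z * t) = z := by rw [hc, ← mul_assoc, ht, one_mul]
    have h3 : z * t * z = t := by rw [hc, mul_assoc, hz, mul_one]
    have h4 : z * t * t = z := by rw [mul_assoc, ht, mul_one]
    have h5 : z * t * (z * t) = 1 := by rw [← mul_assoc, h3, ht]
    rintro a b (rfl | rfl | rfl | rfl) (rfl | rfl | rfl | rfl) <;>
      simp [hz, ht, h1, h2, h3, h4, h5, ← hc]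
  inv_mem' := by
    have hz' : z⁻¹ = z := inv_eq_of_mul_eq_one_left hz
    have ht' : t⁻¹ = t := inv_eq_of_mul_eq_one_left ht
    rintro a (rfl | rfl | rfl | rfl)
    · simp
    · rw [hz']; simp
    · rw [ht']; simp
    · rw [mul_inv_rev, hz', ht', ← hc]; simp

theorem klein_self (hG : SC G) {z t : G} (hz : z * z = 1) (hz1 : z ≠ 1) (ht : t * t = 1) (ht1 : t ≠ 1)
    (hzt : z ≠ t) (hc : z * t = t * z) {x : G} (hxz : x * z = z * x) (hxt : x * t = t * x) :
    x = 1 ∨ x = z ∨ x = t ∨ x = z * t := by
  have hnc : ¬ IsCyclic (kleinSub z t hz ht hc) := by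
    intro h
    have hzm : z ∈ kleinSub z t hz ht hc := Or.inr (Or.inl rfl)
    have htm : t ∈ kleinSub z t hz ht hc := Or.inr (Or.inr (Or.inl rfl))
    haveI : Finite (kleinSub z t hz ht hc) := by
      have : (({1, z, t, z * t} : Set G)).Finite := Set.toFinite _
      exact this.subset (by
        rintro a (rfl | rfl | rfl | rfl) <;> simp)
    classical
    letI := Fintype.ofFinite (kleinSub z t hz ht hc)
    have h3 := IsCyclic.card_pow_eq_one_le (α := kleinSub z t hz ht hc) (n := 2) (by norm_num)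
    have h4 : ({1, ⟨z, hzm⟩, ⟨t, htm⟩} : Finset (kleinSub z t hz ht hc)) ⊆
        Finset.univ.filter (fun a => a ^ 2 = 1) := by
      intro a ha
      simp only [Finset.mem_insert, Finset.mem_singleton] at ha
      simp only [Finset.mem_filter, Finset.mem_univ, true_and]
      rcases ha with rfl | rfl | rfl
      · simp
      · rw [pow_two]; exact Subtype.ext hz
      · rw [pow_two]; exact Subtype.ext ht
    have h5 := Finset.card_le_card h4
    rw [Finset.card_insert_of_notMem, Finset.card_insert_of_notMem, Finset.card_singleton] at h5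
    · omega
    · rw [Finset.mem_singleton]; intro e; exact hzt (congrArg Subtype.val e)
    · rw [Finset.mem_insert, Finset.mem_singleton]
      rintro (e | e)
      · exact hz1 (congrArg Subtype.val e).symm
      · exact ht1 (congrArg Subtype.val e).symm
  have h1 : x ∈ kleinSub z t hz ht hc := by
    apply hG _ hnc
    rw [mem_centralizer_iff]
    rintro a (rfl | rfl | rfl | rfl)
    · simp
    · exact hxz.symm
    · exact hxt.symm
    · exact ((show Commute x z from hxz).mul_right (show Commute x t from hxt)).eq.symm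
  exact h1

theorem klein_sq {z t x : G} (hz : z * z = 1) (ht : t * t = 1) (hc : z * t = t * z)
    (h : x = 1 ∨ x = z ∨ x = t ∨ x = z * t) : x * x = 1 := by
  rcases h with rfl | rfl | rfl | rfl
  · simp
  · exact hz
  · exact ht
  · calc z * t * (z * t) = z * (t * z) * t := by group
      _ = (z * z) * (t * t) := by rw [← hc]; group
      _ = 1 := by rw [hz, ht, one_mul]

/-- odd order subgroups of `C(z)` normalised by `t` are trivial. -/
theorem odd_normalized (hG : SC G) {z t : G} (hz : z * z = 1) (hz1 : z ≠ 1) (ht : t * t = 1) (ht1 : t ≠ 1)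
    (hzt : z ≠ t) (hc : z * t = t * z) (N : Subgroup G) (hNz : ∀ n ∈ N, z * n = n * z)
    (hNt : ∀ n ∈ N, t * n * t⁻¹ ∈ N) (hodd : ∀ n ∈ N, Odd (orderOf n)) : N = ⊥ := by
  rw [eq_bot_iff]
  intro n hn
  rw [mem_bot]
  by_contra hn1
  set w : G := n⁻¹ * (t * n * t⁻¹) with hw
  have hwN : w ∈ N := mul_mem (inv_mem hn) (hNt n hn)
  have ht' : t⁻¹ = t := inv_eq_of_mul_eq_one_left ht
  have hw1 : w ≠ 1 := by
    intro h
    rw [hw, inv_mul_eq_one] at h
    have h2 : n * t = t * n := by
      nth_rewrite 1 [h]; group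
    have h3 := klein_sq hz ht hc (klein_self hG hz hz1 ht ht1 hzt hc (hNz n hn).symm h2)
    exact hn1 (eq_one_of_odd_sq (hodd n hn) h3)
  refine no_inverted hG hz hz1 ht hzt hc (hodd w hwN) hw1 (hNz w hwN) ?_
  rw [hw, ht']
  calc t * (n⁻¹ * (t * n * t)) * t = t * n⁻¹ * t * n * (t * t) := by group
    _ = (n⁻¹ * (t * n * t))⁻¹ := by
      rw [ht, mul_one, mul_inv_rev, mul_inv_rev, mul_inv_rev, inv_inv, ht']
      group

end general

section simple

variable {G : Type u} [Group G] [Finite G]

theorem not_cyclic_of_na (hna : ¬ IsMulCommutative G) : ¬ IsCyclic G := by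
  intro h
  letI := h.commGroup
  exact hna ⟨⟨fun a b => mul_comm a b⟩⟩

theorem index_ne_two [IsSimpleGroup G] (hna : ¬ IsMulCommutative G) (N : Subgroup G) : N.index ≠ 2 := by
  intro h
  have hN : N.Normal := Subgroup.normal_of_index_eq_two h
  rcases hN.eq_bot_or_eq_top with h1 | h1
  · rw [h1, Subgroup.index_bot] at h
    haveI := Fact.mk Nat.prime_two
    exact not_cyclic_of_na hna (isCyclic_of_prime_card h)
  · rw [h1, Subgroup.index_top] at h
    omega

theorem center_eq_bot' [IsSimpleGroup G] (hna : ¬ IsMulCommutative G) : center G = ⊥ := by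
  rcases (inferInstance : (center G).Normal).eq_bot_or_eq_top with h | h
  · exact h
  · exfalso
    apply hna
    exact ⟨⟨fun a b => (mem_center_iff.1 (h ▸ mem_top a : a ∈ center G) b).symm⟩⟩

/-- A Sylow 2-subgroup contains a central involution and another involution. -/
theorem exists_two_inv [IsSimpleGroup G] (hna : ¬ IsMulCommutative G) (hmin : (Nat.card G).minFac = 2)
    (S : Sylow 2 G) : ∃ z ∈ (S : Subgroup G), ∃ t ∈ (S : Subgroup G), z * z = 1 ∧ z ≠ 1 ∧ t * t = 1 ∧ t ≠ 1 ∧
      z ≠ t ∧ ∀ s ∈ (S : Subgroup G), s * z = z * s := by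
  haveI : Fact (Nat.Prime 2) := ⟨Nat.prime_two⟩
  have h2G : 2 ∣ Nat.card G := hmin ▸ Nat.minFac_dvd _
  have hSne : (S : Subgroup G) ≠ ⊥ := by
    intro hb
    have h1 := S.dvd_card_of_dvd_card h2G
    rw [hb, card_bot] at h1
    omega
  have hStop : (S : Subgroup G) ≠ ⊤ := by
    intro ht
    have hGp : IsPGroup 2 G := by
      have := S.isPGroup'
      rw [ht] at this
      exact this.of_equiv topEquiv
    have hnt := hGp.center_nontrivial
    rw [center_eq_bot' hna] at hnt
    exact not_nontrivial _ hnt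
  have hSnc : ¬ IsCyclic (S : Subgroup G) := by
    intro hc
    have hcomp := IsCyclic.isComplement' hmin hc
    set N := (MonoidHom.transferSylow S (hc.normalizer_le_centralizer hmin)).ker
    rcases (inferInstance : N.Normal).eq_bot_or_eq_top with h | h
    · apply hStop
      have := hcomp.sup_eq_top
      rwa [h, bot_sup_eq] at this
    · apply hSne
      have := hcomp.disjoint.eq_bot
      rwa [h, top_inf_eq] at this
  haveI : Nontrivial (S : Subgroup G) := (nontrivial_iff_ne_bot _).2 hSne
  have hcn := S.isPGroup'.center_nontrivial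
  obtain ⟨z', hz'⟩ : ∃ z : center (S : Subgroup G), orderOf z = 2 := by
    have hp : IsPGroup 2 (center (S : Subgroup G)) := S.isPGroup'.to_subgroup _
    obtain ⟨k, hk0, hk⟩ := (IsPGroup.nontrivial_iff_card hp).1 hcn
    exact exists_prime_orderOf_dvd_card' 2 (by rw [hk]; exact dvd_pow_self 2 hk0.ne')
  have hzz : ((z' : (S : Subgroup G)) : G) * ((z' : (S : Subgroup G)) : G) = 1 := by
    have h1 : z' * z' = 1 := mul_self_of_orderOf hz'
    exact congrArg (fun w : center (S : Subgroup G) => ((w : (S : Subgroup G)) : G)) h1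
  have hz1 : ((z' : (S : Subgroup G)) : G) ≠ 1 := by
    intro h
    have : z' = 1 := Subtype.ext (Subtype.ext h)
    rw [this, orderOf_one] at hz'
    omega
  by_contra hcon
  push Not at hcon
  have huniq : ∀ t ∈ (S : Subgroup G), t * t = 1 → t ≠ 1 → t = ((z' : (S : Subgroup G)) : G) := by
    intro t ht htt ht1
    by_contra hne
    obtain ⟨s, hs, hs'⟩ := hcon _ (z' : (S : Subgroup G)).2 t ht hzz hz1 htt ht1 (fun h => hne h.symm)
    apply hs'
    exact congrArg Subtype.val (mem_center_iff.1 z'.2 ⟨s, hs⟩)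
  rcases Cfsg.Agent.S0016.result 2 S.isPGroup' (by
    -- unique subgroup of order two
    have key : ∀ H : Subgroup (S : Subgroup G), Nat.card H = 2 → H = zpowers (z' : (S : Subgroup G)) := by
      intro H hH
      obtain ⟨h, hh⟩ := exists_prime_orderOf_dvd_card' (G := H) 2 (by rw [hH])
      have h1 : (h : (S : Subgroup G)) = (z' : (S : Subgroup G)) := by
        apply Subtype.ext
        apply huniq _ (h : (S : Subgroup G)).2
        · have : h * h = 1 := mul_self_of_orderOf hh
          exact congrArg (fun w : H => ((w : (S : Subgroup G)) : G)) this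
        · intro e
          have : h = 1 := Subtype.ext (Subtype.ext e)
          rw [this, orderOf_one] at hh
          omega
      symm
      apply Subgroup.eq_of_le_of_card_ge
      · rw [zpowers_le, ← h1]; exact h.2
      · rw [hH, Nat.card_zpowers, ← h1, orderOf_submonoid h]
        exact hh.ge
    intro H K hH hK
    rw [key H hH, key K hK]) with h | ⟨-, n, ⟨e⟩⟩
  · exact hSnc h
  · rcases n with _ | n
    · apply hSnc
      have := QuaternionGroup.quaternionGroup_one_isCyclic
      rw [pow_zero] at e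
      exact isCyclic_of_surjective e.symm e.symm.surjective
    · have h1 := Cfsg.Agent.S0201.result S n e (by
        intro N hN hodd
        rcases hN.eq_bot_or_eq_top with h | h
        · exact h
        · exfalso
          rw [h, card_top] at hodd
          exact (Nat.not_odd_iff_even.2 (even_iff_two_dvd.2 h2G)) hodd)
      rw [center_eq_bot' hna, card_bot] at h1
      omega

end simple

end Cfsg.Agent.H65
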